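import Groth.Agent.S10968
import Groth.Agent.S10970
import Groth.Agent.S10971
import Groth.Agent.S10972
import Groth.Agent.S10973
import Groth.Agent.S10976
import Groth.Agent.S10977
import Groth.Agent.S10978
import Groth.Agent.S10980
import Groth.Agent.S10989
import Groth.Agent.S10990
import Groth.Agent.S10992
import Groth.Agent.S10993
import Groth.Agent.S10996

/-! Interface to the base theory (one alias per base row). -/

set_option autoImplicit false

namespace K670.Base
open FunFld

variable {k K : Type*} [Field k] [Field K] [Algebra k K]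

theorem deg_div (hK : IsFunctionField k K) (x : K) : (FunFld.div k x).deg = 0 :=
  Groth.Agent.S10968.result k K hK x

theorem finite_support_ord (hK : IsFunctionField k K) (x : K) :
    (Function.support fun P : Place k K => P.ord x).Finite :=
  Groth.Agent.S10970.result k K hK x

theorem finiteDimensional_residueField (hK : IsFunctionField k K) (P : Place k K) :
    FiniteDimensional k (IsLocalRing.ResidueField P.O) :=
  Groth.Agent.S10971.result k K hK P

theorem exists_zero_and_exists_pole (hK : IsFunctionField k K) (x : K)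
    (hx : x ∉ Set.range (algebraMap k K)) :
    (∃ P : Place k K, 0 < P.ord x) ∧ ∃ Q : Place k K, Q.ord x < 0 :=
  Groth.Agent.S10972.result k K hK x hx

theorem exists_eq_smul_of_ord_eq (hK : IsFunctionField k K) (x y : K) (hx : x ≠ 0) (hy : y ≠ 0)
    (h : ∀ P : Place k K, P.ord x = P.ord y) : ∃ c : k, x = c • y :=
  Groth.Agent.S10973.result k K hK x y hx hy h

theorem finiteDimensional_L (hK : IsFunctionField k K) (D : Divisor k K) :
    FiniteDimensional k (L D) :=
  Groth.Agent.S10976.result k K hK D

theorem ell_sub_ell_le (hK : IsFunctionField k K) (D₁ D₂ : Divisor k K) (h : D₁ ≤ D₂) :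
    (ell D₂ : ℤ) - ell D₁ ≤ D₂.deg - D₁.deg :=
  Groth.Agent.S10977.result k K hK D₁ D₂ h

theorem L_zero (hK : IsFunctionField k K) : L (0 : Divisor k K) = 1 :=
  Groth.Agent.S10978.result k K hK

theorem L_eq_bot_of_deg_neg (hK : IsFunctionField k K) (D : Divisor k K) (h : D.deg < 0) :
    L D = ⊥ :=
  Groth.Agent.S10980.result k K hK D h

theorem isCanonical_equiv (hK : IsFunctionField k K) (C₁ C₂ : Divisor k K)
    (h₁ : IsCanonical k K C₁) (h₂ : IsCanonical k K C₂) :
    ∃ x : K, x ≠ 0 ∧ C₂ = C₁ + FunFld.div k x :=
  Groth.Agent.S10989.result k K hK C₁ C₂ h₁ h₂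

theorem riemann_roch (hK : IsFunctionField k K) (C : Divisor k K) (hC : IsCanonical k K C)
    (D : Divisor k K) :
    (ell D : ℤ) = D.deg + 1 - genus k K + ell (C - D) :=
  Groth.Agent.S10990.result k K hK C hC D

theorem isCanonical_iff (hK : IsFunctionField k K) (C : Divisor k K) :
    IsCanonical k K C ↔ (ell C = genus k K ∧ C.deg = 2 * genus k K - 2) :=
  Groth.Agent.S10992.result k K hK C

theorem ell_eq_of_deg_ge (hK : IsFunctionField k K) (D : Divisor k K)
    (h : 2 * (genus k K : ℤ) - 1 ≤ D.deg) : (ell D : ℤ) = D.deg + 1 - genus k K :=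
  Groth.Agent.S10993.result k K hK D h

theorem eq_of_single_sub_single_eq_div (hK : IsFunctionField k K) (hg : 0 < genus k K)
    (P P' : Place k K) (hP : P.deg = 1) (hP' : P'.deg = 1)
    (x : K) (hx : x ≠ 0) (h : Finsupp.single P 1 - Finsupp.single P' 1 = FunFld.div k x) : P = P' :=
  Groth.Agent.S10996.result k K hK hg P P' hP hP' x hx h

end K670.Base
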