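import Groth.Agent.FunFld.K670.Gen2
import Mathlib.RingTheory.DedekindDomain.AdicValuation
import Mathlib.RingTheory.FiniteType

/-! The affine ring of functions with poles only at a place `O`, its points and point derivations. -/

set_option autoImplicit false
set_option linter.style.haveILetI false
set_option linter.unusedSectionVars false

namespace K670.Aff

open FunFld IsDedekindDomain

variable {k K : Type*} [Field k] [Field K] [Algebra k K]

/-- The functions regular away from `O`. -/
def aff (O : Place k K) : Subalgebra k K where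
  carrier := {x | ∀ P : Place k K, P ≠ O → P.1 x ≤ 1}
  mul_mem' {a b} ha hb P hP := by rw [map_mul]; exact mul_le_one' (ha P hP) (hb P hP)
  one_mem' P _ := by simp
  add_mem' {a b} ha hb P hP := (P.1.map_add a b).trans (max_le (ha P hP) (hb P hP))
  zero_mem' P _ := by simp
  algebraMap_mem' c P _ := P.2.1 c

theorem mem_aff {O : Place k K} {x : K} : x ∈ aff O ↔ ∀ P : Place k K, P ≠ O → P.1 x ≤ 1 := Iff.rfl

theorem mem_aff_of_mem_L {O : Place k K} {x : K} {n : ℤ} (h : x ∈ L (Finsupp.single O n)) :
    x ∈ aff O := by
  classical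
  intro P hP
  have := h P
  rwa [Finsupp.single_apply, if_neg (Ne.symm hP), WithZero.exp_zero] at this

section AC

variable [IsAlgClosed k] (hK : IsFunctionField k K)
include hK

/-- A function with a pole exactly at `O`. -/
theorem exists_pole_only (O : Place k K) : ∃ t : K, K660.Places.IsGen k K t ∧
    (∀ P : Place k K, P.1 t ≤ 1 ↔ P ≠ O) := by
  classical
  set g := genus k K with hg
  have hdeg : Divisor.deg (Finsupp.single O (2 * (g : ℤ) + 1) : Divisor k K) = 2 * (g : ℤ) + 1 :=
    Gen.deg_single' hK O _
  have hell := Base.ell_eq_of_deg_ge hK (Finsupp.single O (2 * (g : ℤ) + 1))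
    (by rw [hdeg, ← hg]; linarith)
  rw [hdeg, ← hg] at hell
  haveI := Base.finiteDimensional_L hK (Finsupp.single O (2 * (g : ℤ) + 1))
  haveI := Base.finiteDimensional_L hK (0 : Divisor k K)
  have h0 := Gen.finrank_L_zero hK
  have hlt : L (0 : Divisor k K) < L (Finsupp.single O (2 * (g : ℤ) + 1)) := by
    refine lt_of_le_of_ne (Gen.L_mono ?_) ?_
    · rw [Finsupp.le_def]; intro Q
      rw [Finsupp.zero_apply, Finsupp.single_apply]
      split_ifs
      · positivity
      · rfl
    · intro heq
      unfold ell at hell
      rw [← heq, h0] at hell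
      push_cast at hell
      omega
  obtain ⟨t, ht1, ht2⟩ := SetLike.exists_of_lt hlt
  have hreg : ∀ P : Place k K, P ≠ O → P.1 t ≤ 1 := mem_aff_of_mem_L ht1
  have hO : ¬ O.1 t ≤ 1 := by
    intro h
    apply ht2
    intro P
    rw [Finsupp.zero_apply, WithZero.exp_zero]
    by_cases hP : P = O
    · rw [hP]; exact h
    · exact hreg P hP
  refine ⟨t, K660.Places.isGen_of_transcendental hK (K660.Places.transcendental_of_notMem hK ?_), ?_⟩
  · rintro ⟨c, rfl⟩
    exact hO (O.2.1 c)
  · intro P
    constructor
    · rintro h rfl; exact hO h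
    · exact hreg P

section withT

variable {O : Place k K} {t : K} (ht : K660.Places.IsGen k K t) (htO : ∀ P : Place k K, P.1 t ≤ 1 ↔ P ≠ O)
include ht htO

theorem mem_aff_iff_integral (x : K) :
    x ∈ aff O ↔ x ∈ integralClosure (Algebra.adjoin k {t}) K := by
  haveI h1 : Fact (K660.Places.IsGen k K t) := ⟨ht⟩
  haveI := K660.Places.instDed (k := k) (K := K) (t := t)
  haveI := K660.Places.instFrac (k := k) (K := K) (t := t)
  constructor
  · intro hx
    obtain ⟨y, hy⟩ := HeightOneSpectrum.mem_integers_of_valuation_le_one K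
      (R := integralClosure (Algebra.adjoin k {t}) K) x (fun p => by
        have := hx (K660.Places.ofPrime p) ((htO _).mp (K660.Places.ofPrime_gen_le p))
        exact this)
    rw [← hy]
    exact y.2
  · intro hx P hP
    exact K660.Places.val_le_one_of_isIntegral P (R := Algebra.adjoin k {t})
      (K660.Places.val_adjoin_le P ((htO P).mpr hP)) hx

theorem finiteType_aff_aux : Algebra.FiniteType k (aff O) := by
  haveI : Module.Finite (Algebra.adjoin k {t}) (integralClosure (Algebra.adjoin k {t}) K) :=
    K660.Ded.finite_integralClosure ht.tr ht.fin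
  haveI : Algebra.FiniteType k (Algebra.adjoin k {t}) := by
    rw [← Subalgebra.fg_iff_finiteType]
    exact ⟨{t}, by simp⟩
  haveI : Algebra.FiniteType (Algebra.adjoin k {t}) (integralClosure (Algebra.adjoin k {t}) K) :=
    inferInstance
  haveI : Algebra.FiniteType k (integralClosure (Algebra.adjoin k {t}) K) :=
    Algebra.FiniteType.trans (S := Algebra.adjoin k {t}) inferInstance inferInstance
  let f : integralClosure (Algebra.adjoin k {t}) K →ₐ[k] aff O :=
    { toFun := fun x => ⟨x, (mem_aff_iff_integral hK ht htO x).mpr x.2⟩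
      map_one' := rfl
      map_mul' := fun _ _ => rfl
      map_zero' := rfl
      map_add' := fun _ _ => rfl
      commutes' := fun _ => rfl }
  refine Algebra.FiniteType.of_surjective f ?_
  intro x
  exact ⟨⟨x, (mem_aff_iff_integral hK ht htO x).mp x.2⟩, rfl⟩

end withT

theorem finiteType_aff (O : Place k K) : Algebra.FiniteType k (aff O) := by
  obtain ⟨t, ht, htO⟩ := exists_pole_only hK O
  exact finiteType_aff_aux hK ht htO

/-- Every point of the affine ring is the evaluation at a place, and its point derivations kill the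
functions vanishing twice. -/
theorem exists_place_of_point (O : Place k K) (p : aff O →ₐ[k] k) :
    ∃ P : Place k K, P ≠ O ∧ (∀ z : aff O, P.1 ((z : K) - algebraMap k K (p z)) < 1) ∧
      ∀ D : aff O →ₗ[k] k, (∀ x y, D (x * y) = p x * D y + p y * D x) →
        ∀ z : aff O, P.1 (z : K) ≤ WithZero.exp (-2) → D z = 0 := by
  obtain ⟨t, ht, htO⟩ := exists_pole_only hK O
  haveI h1 : Fact (K660.Places.IsGen k K t) := ⟨ht⟩
  haveI := K660.Places.instDed (k := k) (K := K) (t := t)
  haveI := K660.Places.instFrac (k := k) (K := K) (t := t)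
  set B := integralClosure (Algebra.adjoin k {t}) K with hB
  let f : B →ₐ[k] aff O :=
    { toFun := fun x => ⟨x, (mem_aff_iff_integral hK ht htO x).mpr x.2⟩
      map_one' := rfl
      map_mul' := fun _ _ => rfl
      map_zero' := rfl
      map_add' := fun _ _ => rfl
      commutes' := fun _ => rfl }
  let f' : aff O → B := fun x => ⟨x, (mem_aff_iff_integral hK ht htO x).mp x.2⟩
  have hff' : ∀ x, f (f' x) = x := fun x => rfl
  let q : B →ₐ[k] k := p.comp f
  have htB : t ∈ B := (mem_aff_iff_integral hK ht htO t).mp (fun P hP => (htO P).mpr hP)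
  let m : Ideal B := RingHom.ker q
  haveI hm : m.IsPrime := RingHom.ker_isPrime _
  have hm0 : m ≠ ⊥ := by
    intro h0
    have h2 : (⟨t, htB⟩ : B) - algebraMap k B (q ⟨t, htB⟩) ∈ m := by
      rw [RingHom.mem_ker, map_sub, AlgHom.commutes]
      simp
    rw [h0, Ideal.mem_bot, sub_eq_zero] at h2
    have h3 : t = algebraMap k K (q ⟨t, htB⟩) := congrArg (fun x : B => (x : K)) h2
    apply ht.tr
    rw [h3]
    exact isAlgebraic_algebraMap _
  let v : HeightOneSpectrum B := ⟨m, hm, hm0⟩
  refine ⟨K660.Places.ofPrime v, (htO _).mp (K660.Places.ofPrime_gen_le v), ?_, ?_⟩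
  · intro z
    have h2 : f' z - algebraMap k B (p z) ∈ v.asIdeal := by
      show _ ∈ RingHom.ker q
      rw [RingHom.mem_ker, map_sub, AlgHom.commutes]
      show p (f (f' z)) - p z = 0
      rw [hff', sub_self]
    have h3 := (v.valuation_lt_one_iff_mem (K := K) _).mpr h2
    exact h3
  · intro D hD z hz
    have h2 : f' z ∈ v.asIdeal ^ 2 := by
      rw [← HeightOneSpectrum.intValuation_le_pow_iff_mem, ← v.valuation_of_algebraMap (K := K)]
      exact hz
    have h3 : ∀ w ∈ v.asIdeal ^ 2, D (f w) = 0 := by
      intro w hw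
      rw [pow_two] at hw
      induction hw using Submodule.mul_induction_on' with
      | mem_mul_mem a ha b hb =>
        rw [map_mul, hD]
        have ha' : p (f a) = 0 := ha
        have hb' : p (f b) = 0 := hb
        rw [ha', hb', zero_mul, zero_mul, add_zero]
      | add a _ b _ ha hb => rw [map_add, map_add, ha, hb, add_zero]
    exact h3 _ h2

omit hK in
/-- The value of a regular function. -/
theorem const_unique (P : Place k K) {z : K} {a b : k} (ha : P.1 (z - algebraMap k K a) < 1)
    (hb : P.1 (z - algebraMap k K b) < 1) : a = b := by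
  by_contra hne
  have h1 : P.1 (algebraMap k K (a - b)) = 1 := Gen.v_algebraMap P (sub_ne_zero.mpr hne)
  have h2 : algebraMap k K (a - b) = (z - algebraMap k K b) - (z - algebraMap k K a) := by
    rw [map_sub]; ring
  rw [h2] at h1
  have h3 := P.1.map_sub (z - algebraMap k K b) (z - algebraMap k K a)
  rw [h1] at h3
  exact absurd h3 (not_le.mpr (max_lt hb ha))

/-- Evaluation at a place `P ≠ O` of the functions regular away from `O`. -/
noncomputable def ev (O P : Place k K) (hP : P ≠ O) : aff O →ₐ[k] k :=
  have hspec : ∀ z : aff O, ∃ c : k, P.1 ((z : K) - algebraMap k K c) < 1 := fun z =>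
    Gen.exists_const_sub_lt_one hK P (z.2 P hP)
  { toFun := fun z => (hspec z).choose
    map_one' := by
      refine const_unique P (hspec 1).choose_spec ?_
      simp
    map_mul' := by
      intro x y
      refine const_unique P (hspec (x * y)).choose_spec ?_
      have hx := (hspec x).choose_spec
      have hy := (hspec y).choose_spec
      have e : ((x * y : aff O) : K) - algebraMap k K ((hspec x).choose * (hspec y).choose) =
          (x : K) * ((y : K) - algebraMap k K (hspec y).choose) +
            ((x : K) - algebraMap k K (hspec x).choose) * algebraMap k K (hspec y).choose := by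
        rw [map_mul]; push_cast; ring
      rw [e]
      refine lt_of_le_of_lt (P.1.map_add _ _) (max_lt ?_ ?_)
      · rw [map_mul]
        calc P.1 (x : K) * _ ≤ 1 * P.1 ((y : K) - algebraMap k K (hspec y).choose) :=
              mul_le_mul_left (x.2 P hP) _
          _ < 1 := by rw [one_mul]; exact hy
      · rw [map_mul]
        calc _ ≤ P.1 ((x : K) - algebraMap k K (hspec x).choose) * 1 :=
              mul_le_mul_right (P.2.1 _) _
          _ < 1 := by rw [mul_one]; exact hx
    map_zero' := by
      refine const_unique P (hspec 0).choose_spec ?_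
      simp
    map_add' := by
      intro x y
      refine const_unique P (hspec (x + y)).choose_spec ?_
      have hx := (hspec x).choose_spec
      have hy := (hspec y).choose_spec
      have e : ((x + y : aff O) : K) - algebraMap k K ((hspec x).choose + (hspec y).choose) =
          ((x : K) - algebraMap k K (hspec x).choose) +
            ((y : K) - algebraMap k K (hspec y).choose) := by
        rw [map_add]; push_cast; ring
      rw [e]
      exact lt_of_le_of_lt (P.1.map_add _ _) (max_lt hx hy)
    commutes' := by
      intro c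
      refine const_unique P (hspec (algebraMap k (aff O) c)).choose_spec ?_
      have e : ((algebraMap k (aff O) c : aff O) : K) - algebraMap k K c = 0 := sub_self _
      show P.1 (((algebraMap k (aff O) c : aff O) : K) - algebraMap k K c) < 1
      rw [e, map_zero]
      exact zero_lt_one }

theorem ev_spec (O P : Place k K) (hP : P ≠ O) (z : aff O) :
    P.1 ((z : K) - algebraMap k K (ev hK O P hP z)) < 1 :=
  (Gen.exists_const_sub_lt_one hK P (z.2 P hP)).choose_spec

theorem ev_eq_iff (O P : Place k K) (hP : P ≠ O) (z : aff O) (c : k) :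
    ev hK O P hP z = c ↔ P.1 ((z : K) - algebraMap k K c) < 1 := by
  constructor
  · rintro rfl; exact ev_spec hK O P hP z
  · intro h; exact const_unique P (ev_spec hK O P hP z) h

theorem ev_eq_zero_iff (O P : Place k K) (hP : P ≠ O) (z : aff O) :
    ev hK O P hP z = 0 ↔ P.1 (z : K) < 1 := by
  rw [ev_eq_iff, map_zero, sub_zero]

theorem exists_ev_eq (O : Place k K) (p : aff O →ₐ[k] k) :
    ∃ (P : Place k K) (hP : P ≠ O), p = ev hK O P hP ∧
      ∀ D : aff O →ₗ[k] k, (∀ x y, D (x * y) = p x * D y + p y * D x) →
        ∀ z : aff O, P.1 (z : K) ≤ WithZero.exp (-2) → D z = 0 := by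
  obtain ⟨P, hP, h1, h2⟩ := exists_place_of_point hK O p
  refine ⟨P, hP, ?_, h2⟩
  ext z
  exact ((ev_eq_iff hK O P hP z (p z)).mpr (h1 z)).symm

/-- Distinct places have distinct evaluations. -/
theorem ev_injective (O : Place k K) {P Q : Place k K} (hP : P ≠ O) (hQ : Q ≠ O)
    (h : ev hK O P hP = ev hK O Q hQ) : P = Q := by
  classical
  by_contra hne
  set g := genus k K with hg
  -- a function in `L(nO - P)` not in `L(nO - P - Q)`
  set D : Divisor k K := Finsupp.single O (2 * (g : ℤ) + 1) - Finsupp.single P 1 with hD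
  have hdegD : D.deg = 2 * (g : ℤ) := by
    rw [hD, Gen.deg_sub_single hK, Gen.deg_single' hK]; ring
  have hdegD' : (D - Finsupp.single Q 1).deg = 2 * (g : ℤ) - 1 := by
    rw [Gen.deg_sub_single hK, hdegD]
  have h1 := Base.ell_eq_of_deg_ge hK D (by rw [hdegD, ← hg]; linarith)
  have h2 := Base.ell_eq_of_deg_ge hK (D - Finsupp.single Q 1) (by rw [hdegD', ← hg])
  rw [hdegD] at h1
  rw [hdegD'] at h2
  unfold ell at h1 h2
  have hnle : ¬ L D ≤ L (D - Finsupp.single Q 1) := by
    intro hle
    haveI := Base.finiteDimensional_L hK (D - Finsupp.single Q 1)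
    have := Submodule.finrank_mono hle
    omega
  obtain ⟨z, hz1, hz2⟩ := SetLike.not_le_iff_exists.mp hnle
  have hzaff : z ∈ aff O := by
    intro R hR
    refine (hz1 R).trans ?_
    rw [← WithZero.exp_zero, WithZero.exp_le_exp, hD, Finsupp.sub_apply, Finsupp.single_apply,
      if_neg (Ne.symm hR), Finsupp.single_apply]
    split_ifs <;> norm_num
  have hzP : P.1 z < 1 := by
    refine lt_of_le_of_lt (hz1 P) ?_
    rw [← WithZero.exp_zero, WithZero.exp_lt_exp, hD, Finsupp.sub_apply, Finsupp.single_apply,
      if_neg (Ne.symm hP), Finsupp.single_eq_same]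
    norm_num
  have hzQ : Q.1 z < 1 := by
    have h3 : ev hK O P hP ⟨z, hzaff⟩ = 0 := (ev_eq_zero_iff hK O P hP ⟨z, hzaff⟩).mpr hzP
    rw [h] at h3
    exact (ev_eq_zero_iff hK O Q hQ ⟨z, hzaff⟩).mp h3
  apply hz2
  intro R
  by_cases hR : R = Q
  · subst hR
    have hz0 : z ≠ 0 := by
      rintro rfl
      exact hz2 (Submodule.zero_mem _)
    rw [Gen.v_le_exp_iff R hz0, Finsupp.sub_apply, Finsupp.single_eq_same, hD, Finsupp.sub_apply,
      Finsupp.single_apply, if_neg (Ne.symm hQ), Finsupp.single_apply, if_neg hne]
    rw [Gen.v_eq_exp R hz0, ← WithZero.exp_zero, WithZero.exp_lt_exp] at hzQ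
    omega
  · rw [Finsupp.sub_apply, Finsupp.single_apply (a := Q), if_neg (Ne.symm hR), sub_zero]
    exact hz1 R

end AC

end K670.Aff
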