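import Groth.Agent.FunFld.K670.Two

/-! Chain bookkeeping for limit linear series on a chain of rational components. -/

set_option autoImplicit false
set_option linter.style.haveILetI false
set_option linter.unusedVariables false
set_option linter.unusedSectionVars false

namespace K670.Chain
open FunFld

/-! ### pure bookkeeping -/

theorem card_filter_le_succ {N : ℕ} (T : Finset (Fin (N + 1))) (l : Fin N) :
    (T.filter (· ≤ l.succ)).card =
      (T.filter (· ≤ l.castSucc)).card + (if l.succ ∈ T then 1 else 0) := by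
  classical
  have h : T.filter (· ≤ l.succ) = T.filter (· ≤ l.castSucc) ∪ T.filter (· = l.succ) := by
    ext x
    simp only [Finset.mem_filter, Finset.mem_union]
    constructor
    · rintro ⟨h1, h2⟩
      rcases lt_or_eq_of_le h2 with h3 | h3
      · left; exact ⟨h1, by rw [Fin.le_def]; rw [Fin.lt_def] at h3; simp at h3 ⊢; omega⟩
      · right; exact ⟨h1, h3⟩
    · rintro (⟨h1, h2⟩ | ⟨h1, h2⟩)
      · refine ⟨h1, ?_⟩
        rw [Fin.le_def] at h2 ⊢; simp at h2 ⊢; omega
      · exact ⟨h1, h2.le⟩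
  rw [h, Finset.card_union_of_disjoint]
  · congr 1
    rw [Finset.filter_eq']
    split_ifs <;> simp
  · rw [Finset.disjoint_left]
    intro x hx hx'
    simp only [Finset.mem_filter] at hx hx'
    have := hx.2
    rw [hx'.2, Fin.le_def] at this
    simp at this

theorem card_filter_ge_castSucc {N : ℕ} (T : Finset (Fin (N + 1))) (l : Fin N) :
    (T.filter (l.castSucc ≤ ·)).card =
      (T.filter (l.succ ≤ ·)).card + (if l.castSucc ∈ T then 1 else 0) := by
  classical
  have h : T.filter (l.castSucc ≤ ·) = T.filter (l.succ ≤ ·) ∪ T.filter (· = l.castSucc) := by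
    ext x
    simp only [Finset.mem_filter, Finset.mem_union]
    constructor
    · rintro ⟨h1, h2⟩
      rcases lt_or_eq_of_le h2 with h3 | h3
      · left; exact ⟨h1, by rw [Fin.le_def]; rw [Fin.lt_def] at h3; simp at h3 ⊢; omega⟩
      · right; exact ⟨h1, h3.symm⟩
    · rintro (⟨h1, h2⟩ | ⟨h1, h2⟩)
      · refine ⟨h1, ?_⟩
        rw [Fin.le_def] at h2 ⊢; simp at h2 ⊢; omega
      · exact ⟨h1, h2.ge⟩
  rw [h, Finset.card_union_of_disjoint]
  · congr 1
    rw [Finset.filter_eq']
    split_ifs <;> simp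
  · rw [Finset.disjoint_left]
    intro x hx hx'
    simp only [Finset.mem_filter] at hx hx'
    have := hx.2
    rw [hx'.2, Fin.le_def] at this
    simp at this

theorem chain_left {N : ℕ} (wA wB : Fin (N + 1) → ℕ) (T : Finset (Fin (N + 1))) (r M R : ℕ)
    (c : ∀ l : Fin N, wB l.castSucc + wA l.succ = M)
    (e0 : ∀ i : Fin (N + 1), (i : ℕ) = 0 → (i : ℕ) < N →
      2 * wB i + 2 * r * (if i ∈ T then 1 else 0) + R ≤ 2 * M)
    (m : ∀ i : Fin (N + 1), 0 < (i : ℕ) → (i : ℕ) < N →
      wA i + wB i + r * (if i ∈ T then 1 else 0) ≤ M) :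
    ∀ (j : ℕ) (i : Fin (N + 1)), (i : ℕ) = j → (i : ℕ) < N →
      2 * wB i + 2 * r * (T.filter (· ≤ i)).card + R ≤ 2 * M := by
  classical
  intro j
  induction j with
  | zero =>
    intro i hi hiN
    have h := e0 i hi hiN
    have hc : (T.filter (· ≤ i)).card = (if i ∈ T then 1 else 0) := by
      have h0 : T.filter (· ≤ i) = T.filter (· = i) := by
        ext x
        simp only [Finset.mem_filter]
        refine and_congr_right fun _ => ?_
        rw [Fin.le_def, Fin.ext_iff]; omega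
      rw [h0, Finset.filter_eq']
      split_ifs <;> simp
    rw [hc]; exact h
  | succ j ih =>
    intro i hi hiN
    have hj : j < N := by omega
    set l : Fin N := ⟨j, hj⟩ with hl
    have hsucc : l.succ = i := by ext; simp [hl, hi]
    have hcs : (l.castSucc : ℕ) = j := by simp [hl]
    have h1 := ih l.castSucc hcs (by rw [hcs]; exact hj)
    have h2 := c l
    have h3 := m i (by omega) hiN
    have h4 := card_filter_le_succ T l
    rw [hsucc] at h2 h4
    rw [h4]
    have h5 : 2 * r * ((T.filter (· ≤ l.castSucc)).card + (if i ∈ T then 1 else 0)) =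
      2 * r * (T.filter (· ≤ l.castSucc)).card + 2 * (r * (if i ∈ T then 1 else 0)) := by ring
    rw [h5]
    omega

theorem chain_right {N : ℕ} (wA wB : Fin (N + 1) → ℕ) (T : Finset (Fin (N + 1))) (r M R : ℕ)
    (c : ∀ l : Fin N, wB l.castSucc + wA l.succ = M)
    (eN : ∀ i : Fin (N + 1), (i : ℕ) = N → 0 < (i : ℕ) →
      2 * wA i + 2 * r * (if i ∈ T then 1 else 0) + R ≤ 2 * M)
    (m : ∀ i : Fin (N + 1), 0 < (i : ℕ) → (i : ℕ) < N →
      wA i + wB i + r * (if i ∈ T then 1 else 0) ≤ M) :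
    ∀ (j : ℕ) (i : Fin (N + 1)), (i : ℕ) + j = N → 0 < (i : ℕ) →
      2 * wA i + 2 * r * (T.filter (i ≤ ·)).card + R ≤ 2 * M := by
  classical
  intro j
  induction j with
  | zero =>
    intro i hi hi0
    have h := eN i (by omega) hi0
    have hc : (T.filter (i ≤ ·)).card = (if i ∈ T then 1 else 0) := by
      have h0 : T.filter (i ≤ ·) = T.filter (· = i) := by
        ext x
        simp only [Finset.mem_filter]
        refine and_congr_right fun _ => ?_
        rw [Fin.le_def, Fin.ext_iff]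
        have := x.2
        omega
      rw [h0, Finset.filter_eq']
      split_ifs <;> simp
    rw [hc]; exact h
  | succ j ih =>
    intro i hi hi0
    have hj : (i : ℕ) < N := by omega
    set l : Fin N := ⟨i, hj⟩ with hl
    have hcs : l.castSucc = i := by ext; simp [hl]
    have hsucc : (l.succ : ℕ) = i + 1 := by simp [hl]
    have h1 := ih l.succ (by omega) (by omega)
    have h2 := c l
    have h3 := m i hi0 hj
    have h4 := card_filter_ge_castSucc T l
    rw [hcs] at h2 h4
    rw [h4]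
    have h5 : 2 * r * ((T.filter (l.succ ≤ ·)).card + (if i ∈ T then 1 else 0)) =
      2 * r * (T.filter (l.succ ≤ ·)).card + 2 * (r * (if i ∈ T then 1 else 0)) := by ring
    rw [h5]
    omega

theorem chain_total {N : ℕ} (hN : 0 < N) (wA wB : Fin (N + 1) → ℕ) (T : Finset (Fin (N + 1)))
    (r M R : ℕ)
    (c : ∀ l : Fin N, wB l.castSucc + wA l.succ = M)
    (e0 : ∀ i : Fin (N + 1), (i : ℕ) = 0 → (i : ℕ) < N →
      2 * wB i + 2 * r * (if i ∈ T then 1 else 0) + R ≤ 2 * M)
    (eN : ∀ i : Fin (N + 1), (i : ℕ) = N → 0 < (i : ℕ) →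
      2 * wA i + 2 * r * (if i ∈ T then 1 else 0) + R ≤ 2 * M)
    (m : ∀ i : Fin (N + 1), 0 < (i : ℕ) → (i : ℕ) < N →
      wA i + wB i + r * (if i ∈ T then 1 else 0) ≤ M) :
    r * T.card + R ≤ M := by
  classical
  set l : Fin N := ⟨0, hN⟩ with hl
  have h1 := chain_left wA wB T r M R c e0 m 0 l.castSucc (by simp [hl]) (by simp [hl, hN])
  have h2 := chain_right wA wB T r M R c eN m (N - 1) l.succ (by simp [hl]; omega) (by simp [hl])
  have h3 := c l
  have h4 : (T.filter (· ≤ l.castSucc)).card + (T.filter (l.succ ≤ ·)).card = T.card := by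
    rw [← Finset.card_filter_add_card_filter_not (s := T) (p := fun x => x ≤ l.castSucc)]
    congr 2
    ext x
    simp only [Finset.mem_filter]
    refine and_congr_right fun _ => ?_
    rw [not_le, Fin.castSucc_lt_iff_succ_le]
  have h5 : 2 * r * (T.filter (· ≤ l.castSucc)).card + 2 * r * (T.filter (l.succ ≤ ·)).card =
    2 * (r * T.card) := by rw [← h4]; ring
  omega

theorem chain_inner {N : ℕ} (wA wB : Fin (N + 1) → ℕ) (T : Finset (Fin (N + 1)))
    (r M R : ℕ)
    (c : ∀ l : Fin N, wB l.castSucc + wA l.succ = M)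
    (e0 : ∀ i : Fin (N + 1), (i : ℕ) = 0 → (i : ℕ) < N →
      2 * wB i + 2 * r * (if i ∈ T then 1 else 0) + R ≤ 2 * M)
    (eN : ∀ i : Fin (N + 1), (i : ℕ) = N → 0 < (i : ℕ) →
      2 * wA i + 2 * r * (if i ∈ T then 1 else 0) + R ≤ 2 * M)
    (m : ∀ i : Fin (N + 1), 0 < (i : ℕ) → (i : ℕ) < N →
      wA i + wB i + r * (if i ∈ T then 1 else 0) ≤ M)
    (i : Fin (N + 1)) (hi0 : 0 < (i : ℕ)) (hiN : (i : ℕ) < N) :
    r * (T.erase i).card + R ≤ wA i + wB i := by
  classical
  obtain ⟨j, hj⟩ : ∃ j, (i : ℕ) = j + 1 := ⟨i - 1, by omega⟩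
  set l : Fin N := ⟨j, by omega⟩ with hl
  set l' : Fin N := ⟨i, hiN⟩ with hl'
  have hsucc : l.succ = i := by ext; simp [hl, hj]
  have hcs : l'.castSucc = i := by ext; simp [hl']
  have h1 := chain_left wA wB T r M R c e0 m j l.castSucc (by simp [hl]) (by simp [hl]; omega)
  have h2 := chain_right wA wB T r M R c eN m (N - i - 1) l'.succ (by simp [hl']; omega)
    (by simp [hl'])
  have h3 := c l
  have h3' := c l'
  rw [hsucc] at h3
  rw [hcs] at h3'
  have h4 : (T.filter (· ≤ l.castSucc)).card + (T.filter (l'.succ ≤ ·)).card = (T.erase i).card := by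
    rw [← Finset.card_filter_add_card_filter_not (s := T.erase i) (p := fun x => x ≤ l.castSucc)]
    congr 2
    · ext x
      simp only [Finset.mem_filter, Finset.mem_erase]
      constructor
      · rintro ⟨h1, h2⟩
        refine ⟨⟨?_, h1⟩, h2⟩
        rintro rfl
        rw [Fin.le_def] at h2; simp [hl] at h2; omega
      · rintro ⟨⟨_, h1⟩, h2⟩; exact ⟨h1, h2⟩
    · ext x
      simp only [Finset.mem_filter, Finset.mem_erase]
      rw [not_le, Fin.le_def, Fin.lt_def]
      constructor
      · rintro ⟨h1, h2⟩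
        simp [hl'] at h2
        refine ⟨⟨?_, h1⟩, ?_⟩
        · rintro rfl; omega
        · simp [hl]; omega
      · rintro ⟨⟨h0, h1⟩, h2⟩
        refine ⟨h1, ?_⟩
        simp [hl] at h2
        simp [hl']
        have : (x : ℕ) ≠ i := fun h => h0 (Fin.ext h)
        omega
  have h5 : 2 * r * (T.filter (· ≤ l.castSucc)).card + 2 * r * (T.filter (l'.succ ≤ ·)).card =
    2 * (r * (T.erase i).card) := by rw [← h4]; ring
  omega

/-! ### sums of dimensions -/

theorem sum_lower (r : ℕ) : ∀ (d : ℕ) (f : ℕ → ℕ), r ≤ d → (∀ n, n < d → r ≤ f n + n) →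
    r * (r + 1) ≤ 2 * ∑ n ∈ Finset.range d, f n := by
  induction r with
  | zero => intro d f _ _; simp
  | succ r ih =>
    intro d f hd h
    obtain ⟨d', rfl⟩ : ∃ d', d = d' + 1 := ⟨d - 1, by omega⟩
    rw [Finset.sum_range_succ']
    have h1 := ih d' (fun n => f (n + 1)) (by omega) (fun n hn => by have := h (n + 1) (by omega); omega)
    have h2 := h 0 (by omega)
    have h3 : (r + 1) * (r + 1 + 1) = r * (r + 1) + 2 * (r + 1) := by ring
    rw [h3]
    omega

theorem sum_lower_cusp (r d : ℕ) (f : ℕ → ℕ) (hd : r + 1 ≤ d) (h0 : r ≤ f 0)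
    (h : ∀ n, 1 ≤ n → n < d → r + 1 ≤ f n + n) :
    2 * r + r * (r + 1) ≤ 2 * ∑ n ∈ Finset.range d, f n := by
  obtain ⟨d', rfl⟩ : ∃ d', d = d' + 1 := ⟨d - 1, by omega⟩
  rw [Finset.sum_range_succ']
  have h1 := sum_lower r d' (fun n => f (n + 1)) (by omega)
    (fun n hn => by have := h (n + 1) (by omega) (by omega); omega)
  omega

section geom

variable {k K : Type*} [Field k] [Field K] [Algebra k K]
variable [IsAlgClosed k] (hK : IsFunctionField k K)
include hK

theorem r_le_d {d r : ℕ} {D : Divisor k K} (hD : D.deg = d) {V : Submodule k K} (hV : V ≤ L D)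
    (hVr : Module.finrank k ↥V = r + 1) (P : Place k K) : r ≤ d := by
  have h := Van.van_le_add hK (D := D) V (P := P) (n := 0) (m := (d : ℤ) + 1) (by positivity)
  rw [Van.inf_eq_self_of_nonpos hV le_rfl, hVr, Van.van_eq_zero hK V (by rw [hD]; linarith)] at h
  push_cast at h
  omega

theorem le_van_add {r : ℕ} {D : Divisor k K} {V : Submodule k K} (hV : V ≤ L D)
    (hVr : Module.finrank k ↥V = r + 1) (P : Place k K) (n : ℕ) :
    r + 1 ≤ Module.finrank k ↥(V ⊓ L (D - Finsupp.single P (n : ℤ))) + n := by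
  have h := Van.van_le_add hK (D := D) V (P := P) (n := 0) (m := (n : ℤ)) (by positivity)
  rw [Van.inf_eq_self_of_nonpos hV le_rfl, hVr] at h
  push_cast at h
  omega

theorem sum_van_lower {d r : ℕ} {D : Divisor k K} (hD : D.deg = d) {V : Submodule k K}
    (hV : V ≤ L D) (hVr : Module.finrank k ↥V = r + 1) (P : Place k K) :
    r * (r + 1) ≤
      2 * ∑ n ∈ Finset.range d, Module.finrank k ↥(V ⊓ L (D - Finsupp.single P ((n : ℤ) + 1))) := by
  apply sum_lower r d _ (r_le_d hK hD hV hVr P)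
  intro n hn
  have := le_van_add hK hV hVr P (n + 1)
  push_cast at this
  omega

theorem sum_van_lower_cusp {d r : ℕ} {D : Divisor k K} (hD : D.deg = d) {V : Submodule k K}
    (hV : V ≤ L D) (hVr : Module.finrank k ↥V = r + 1) {Q : Place k K}
    (hcusp : r ≤ Module.finrank k ↥(V ⊓ L (D - Finsupp.single Q (2 : ℤ)))) :
    2 * r + r * (r + 1) ≤
      2 * ∑ n ∈ Finset.range d, Module.finrank k ↥(V ⊓ L (D - Finsupp.single Q ((n : ℤ) + 1))) := by
  rcases Nat.eq_zero_or_pos r with h0 | hpos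
  · subst h0; simp
  have hlow : ∀ n : ℕ, 1 ≤ n → r + 1 ≤ Module.finrank k ↥(V ⊓ L (D - Finsupp.single Q ((n : ℤ) + 1))) + n := by
    intro n hn
    have h := Van.van_le_add hK (D := D) V (P := Q) (n := 2) (m := (n : ℤ) + 1) (by omega)
    omega
  apply sum_lower_cusp r d
  · by_contra hcon
    have h := hlow r hpos
    rw [Van.van_eq_zero hK V (by rw [hD]; omega)] at h
    omega
  · have h := Van.antitone_van hK (D := D) V (P := Q) (n := 1) (m := 2) (by norm_num)
    have e : ((0 : ℕ) : ℤ) + 1 = 1 := by norm_num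
    show r ≤ Module.finrank k ↥(V ⊓ L (D - Finsupp.single Q (((0 : ℕ) : ℤ) + 1)))
    rw [e]
    omega
  · intro n hn _
    exact hlow n hn

/-- Upper bound for the weight at one place. -/
theorem sum_van_upper {d r : ℕ} {D : Divisor k K} (hD : D.deg = d) {V : Submodule k K}
    (hV : V ≤ L D) (hVr : Module.finrank k ↥V = r + 1) (P : Place k K) :
    2 * (∑ n ∈ Finset.range d, Module.finrank k ↥(V ⊓ L (D - Finsupp.single P ((n : ℤ) + 1)))) +
      r * (r + 1) ≤ 2 * ((r + 1) * d) := by
  -- compare with the sequence `r + 1 - dim`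
  haveI := Van.finiteDimensional_of_le_L hK hV
  have hle : ∀ n : ℕ, Module.finrank k ↥(V ⊓ L (D - Finsupp.single P ((n : ℤ) + 1))) ≤ r + 1 := by
    intro n; rw [← hVr]; exact Submodule.finrank_mono inf_le_left
  have h1 := sum_lower r d
    (fun n => r + 1 - Module.finrank k ↥(V ⊓ L (D - Finsupp.single P (((d - 1 - n : ℕ) : ℤ) + 1))))
    (r_le_d hK hD hV hVr P) (by
      intro n hn
      have h := Van.van_le_add hK (D := D) V (P := P) (n := ((d - 1 - n : ℕ) : ℤ) + 1)
        (m := (d : ℤ) + 1) (by omega)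
      rw [Van.van_eq_zero hK V (n := (d : ℤ) + 1) (by rw [hD]; linarith)] at h
      push_cast at h
      show r ≤ r + 1 - _ + n
      omega)
  rw [Finset.sum_range_reflect
    (fun n => r + 1 - Module.finrank k ↥(V ⊓ L (D - Finsupp.single P ((n : ℤ) + 1)))) d] at h1
  have h2 : ∑ n ∈ Finset.range d, (r + 1 - Module.finrank k ↥(V ⊓ L (D - Finsupp.single P ((n : ℤ) + 1)))) +
      ∑ n ∈ Finset.range d, Module.finrank k ↥(V ⊓ L (D - Finsupp.single P ((n : ℤ) + 1))) =
      (r + 1) * d := by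
    rw [← Finset.sum_add_distrib]
    rw [Finset.sum_congr rfl (fun n _ => Nat.sub_add_cancel (hle n)), Finset.sum_const,
      Finset.card_range, smul_eq_mul, mul_comm]
  omega

theorem sum_pair_le {d r : ℕ} {D : Divisor k K} (hD : D.deg = d) {V : Submodule k K}
    (hV : V ≤ L D) (hVr : Module.finrank k ↥V = r + 1) {P Q : Place k K} (hPQ : P ≠ Q) :
    (∑ n ∈ Finset.range d, Module.finrank k ↥(V ⊓ L (D - Finsupp.single P ((n : ℤ) + 1)))) +
      (∑ n ∈ Finset.range d, Module.finrank k ↥(V ⊓ L (D - Finsupp.single Q ((n : ℤ) + 1)))) ≤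
      (r + 1) * d := by
  rw [Van.sum_van_reflect hK V Q d, ← Finset.sum_add_distrib]
  calc _ ≤ ∑ n ∈ Finset.range d, (r + 1) := by
        refine Finset.sum_le_sum fun n hn => ?_
        have hn' := Finset.mem_range.mp hn
        have h := Van.van_add_van_le_finrank hK hV hPQ (n := (n : ℤ) + 1) (m := (d : ℤ) - n)
          (by positivity) (by omega) (by rw [hD]; omega)
        rwa [hVr] at h
    _ = (r + 1) * d := by rw [Finset.sum_const, Finset.card_range, smul_eq_mul, mul_comm]

/-- Upper bound for the weight at a place with a cusp elsewhere. -/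
theorem sum_van_upper_cusp {d r : ℕ} {D : Divisor k K} (hD : D.deg = d) {V : Submodule k K}
    (hV : V ≤ L D) (hVr : Module.finrank k ↥V = r + 1) {P Q : Place k K} (hPQ : P ≠ Q)
    (hcusp : r ≤ Module.finrank k ↥(V ⊓ L (D - Finsupp.single Q (2 : ℤ)))) :
    2 * (∑ n ∈ Finset.range d, Module.finrank k ↥(V ⊓ L (D - Finsupp.single P ((n : ℤ) + 1)))) +
      2 * r + r * (r + 1) ≤ 2 * ((r + 1) * d) := by
  have h1 := sum_pair_le hK hD hV hVr hPQ
  have h2 := sum_van_lower_cusp hK hD hV hVr hcusp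
  omega

end geom

/-- The sum of the two node weights for compatible aspects. -/
theorem sum_compat {k : Type*} [Field k]
    {K₁ K₂ : Type*} [Field K₁] [Algebra k K₁] [Field K₂] [Algebra k K₂]
    {d r : ℕ} {D₁ : Divisor k K₁} {D₂ : Divisor k K₂}
    {V₁ : Submodule k K₁} {V₂ : Submodule k K₂} {B : Place k K₁} {A : Place k K₂}
    (h : ∀ m : ℕ, m ≤ d + 1 →
      Module.finrank k ↥(V₁ ⊓ L (D₁ - Finsupp.single B ((m : ℤ)))) +
        Module.finrank k ↥(V₂ ⊓ L (D₂ - Finsupp.single A ((d : ℤ) + 1 - m))) = r + 1) :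
    (∑ n ∈ Finset.range d, Module.finrank k ↥(V₁ ⊓ L (D₁ - Finsupp.single B ((n : ℤ) + 1)))) +
      (∑ n ∈ Finset.range d, Module.finrank k ↥(V₂ ⊓ L (D₂ - Finsupp.single A ((n : ℤ) + 1)))) =
      (r + 1) * d := by
  have e : (∑ n ∈ Finset.range d, Module.finrank k ↥(V₂ ⊓ L (D₂ - Finsupp.single A ((n : ℤ) + 1)))) =
      ∑ n ∈ Finset.range d, Module.finrank k ↥(V₂ ⊓ L (D₂ - Finsupp.single A ((d : ℤ) - n))) := by
    rw [← Finset.sum_range_reflect]
    refine Finset.sum_congr rfl fun n hn => ?_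
    have hn' := Finset.mem_range.mp hn
    have : ((d - 1 - n : ℕ) : ℤ) + 1 = (d : ℤ) - n := by omega
    rw [this]
  rw [e, ← Finset.sum_add_distrib]
  calc _ = ∑ n ∈ Finset.range d, (r + 1) := by
        refine Finset.sum_congr rfl fun n hn => ?_
        have hn' := Finset.mem_range.mp hn
        have h1 := h (n + 1) (by omega)
        have e1 : ((n + 1 : ℕ) : ℤ) = (n : ℤ) + 1 := by push_cast; ring
        have e2 : (d : ℤ) + 1 - ((n : ℤ) + 1) = (d : ℤ) - n := by ring
        rw [e1, e2] at h1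
        exact h1
    _ = (r + 1) * d := by rw [Finset.sum_const, Finset.card_range, smul_eq_mul, mul_comm]

end K670.Chain
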