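import Groth.Agent.FunFld.K670.Param

/-! Finiteness of the pairs of points `(P, Q)` of a genus one curve for which some function with its
only pole at `O` takes the value `1` at `P` and `0` at `Q` with too large multiplicities. -/

set_option autoImplicit false
set_option linter.style.haveILetI false
set_option linter.unusedSectionVars false

namespace K670.ClaimG

open FunFld K670.Aff K670.InvDer K670.Param TensorProduct

variable {k K : Type*} [Field k] [Field K] [Algebra k K]
variable {δ : Derivation k K K} (hδ : IsInv δ)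

section AC

variable [IsAlgClosed k] (hK : IsFunctionField k K)

section taylorstuff
include hδ hK

theorem taylor_eq (O P : Place k K) (hP : P ≠ O) (n : ℕ) (z : aff (k := k) O) :
    P.1 (z : K) = WithZero.exp (-(n : ℤ)) ↔
      (∀ i < n, ev hK O P hP ((dA hδ O ^ i) z) = 0) ∧ ev hK O P hP ((dA hδ O ^ n) z) ≠ 0 := by
  have h1 := taylor hδ hK O P hP n z
  have h2 := taylor hδ hK O P hP (n + 1) z
  constructor
  · intro h
    have h3 := h1.mp h.le
    refine ⟨h3, fun h4 => ?_⟩
    have h5 : ∀ i < n + 1, ev hK O P hP ((dA hδ O ^ i) z) = 0 := by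
      intro i hi
      rcases Nat.lt_succ_iff_lt_or_eq.mp hi with h6 | h6
      · exact h3 i h6
      · rw [h6]; exact h4
    have h6 := h2.mpr h5
    rw [h, WithZero.exp_le_exp] at h6
    push_cast at h6
    omega
  · rintro ⟨h3, h4⟩
    have h5 := h1.mpr h3
    have hz : (z : K) ≠ 0 := by
      intro h0
      have : z = 0 := Subtype.ext h0
      rw [this, map_zero, map_zero] at h4
      exact h4 rfl
    have h6 : ¬ P.1 (z : K) ≤ WithZero.exp (-((n + 1 : ℕ) : ℤ)) := fun h6 =>
      h4 (h2.mp h6 n (by omega))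
    rw [Gen.v_le_exp_iff P hz] at h5 h6
    rw [Gen.v_eq_exp P hz]
    congr 1
    push_cast at h6
    omega

theorem dA_pow_one (O : Place k K) (i : ℕ) (hi : 1 ≤ i) : (dA hδ O ^ i) (1 : aff (k := k) O) = 0 := by
  obtain ⟨j, rfl⟩ : ∃ j, i = j + 1 := ⟨i - 1, by omega⟩
  rw [pow_succ]
  show (dA hδ O ^ j) (dA hδ O 1) = 0
  have : dA hδ O 1 = 0 := by
    have := dA_algebraMap hδ O (1 : k)
    rwa [map_one] at this
  rw [this, map_zero]

end taylorstuff

section core
include hK

theorem finrank_eq_deg (hg : genus k K = 1) {D : Divisor k K} (h : 1 ≤ D.deg) :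
    (Module.finrank k ↥(L D) : ℤ) = D.deg := by
  have h1 := Base.ell_eq_of_deg_ge hK D (by rw [hg]; push_cast; linarith)
  unfold ell at h1
  rw [hg] at h1
  push_cast at h1
  linarith

/-- Two elements of a space `L(D)` of a divisor of degree one in genus one are proportional. -/
theorem exists_smul_eq_of_deg_one (hg : genus k K = 1) {D : Divisor k K} (h : D.deg = 1) {x y : K}
    (hx : x ∈ L D) (hx0 : x ≠ 0) (hy : y ∈ L D) : ∃ c : k, y = c • x := by
  have h1 := finrank_eq_deg hK hg (D := D) (by rw [h])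
  rw [h] at h1
  have h2 : Module.finrank k ↥(L D) = 1 := by exact_mod_cast h1
  obtain ⟨c, hc⟩ := (finrank_eq_one_iff_of_nonzero' (⟨x, hx⟩ : L D) (by
    intro h0; exact hx0 (congrArg Subtype.val h0))).mp h2 ⟨y, hy⟩
  exact ⟨c, (congrArg Subtype.val hc).symm⟩

theorem mem_L_three {O P Q : Place k K} (hP : P ≠ O) (hQ : Q ≠ O) (hPQ : P ≠ Q) {m a b : ℤ}
    {z : K} (hreg : z ∈ aff O) (hO : O.1 z ≤ WithZero.exp m) (hPz : P.1 z ≤ WithZero.exp (-a))
    (hQz : Q.1 z ≤ WithZero.exp (-b)) :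
    z ∈ L (Finsupp.single O m - Finsupp.single P a - Finsupp.single Q b) := by
  classical
  intro R
  rw [Finsupp.sub_apply, Finsupp.sub_apply, Finsupp.single_apply, Finsupp.single_apply,
    Finsupp.single_apply]
  by_cases h1 : O = R
  · subst h1
    rw [if_pos rfl, if_neg hP, if_neg hQ]; simpa using hO
  · rw [if_neg h1]
    by_cases h2 : P = R
    · subst h2
      rw [if_pos rfl, if_neg (Ne.symm hPQ)]; simpa using hPz
    · rw [if_neg h2]
      by_cases h3 : Q = R
      · subst h3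
        rw [if_pos rfl]; simpa using hQz
      · rw [if_neg h3]
        simpa using hreg R (Ne.symm h1)

theorem deg_three (O P Q : Place k K) (m a b : ℤ) :
    Divisor.deg (Finsupp.single O m - Finsupp.single P a - Finsupp.single Q b : Divisor k K) =
      m - a - b := by
  rw [Gen.deg_sub_single hK, Gen.deg_sub_single hK, Gen.deg_single' hK]

omit hK in
theorem ne_of_values {P Q : Place k K} {g : K} (h1 : P.1 (g - 1) < 1) (h2 : Q.1 g < 1) : P ≠ Q := by
  rintro rfl
  have h3 : P.1 (1 : K) < 1 := by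
    have e : (1 : K) = g - (g - 1) := by ring
    rw [e]
    exact lt_of_le_of_lt (P.1.map_sub _ _) (max_lt h2 h1)
  rw [map_one] at h3
  exact lt_irrefl _ h3

theorem exp_neg_lt_one {n : ℕ} (hn : 1 ≤ n) :
    (WithZero.exp (-(n : ℤ)) : WithZero (Multiplicative ℤ)) < 1 := by
  rw [← WithZero.exp_zero, WithZero.exp_lt_exp]; omega

include hδ in
/-- Rigidity, case (i). -/
theorem core (hg : genus k K = 1) {O P Q : Place k K} (hP : P ≠ O) (hQ : Q ≠ O) {m a b : ℕ}
    (hm : m ≤ a + b) (hm1 : 1 ≤ m) {g : K} (hgreg : g ∈ aff O) (hgO : O.1 g = WithZero.exp (m : ℤ))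
    (hgP : P.1 (g - 1) = WithZero.exp (-((a + 1 : ℕ) : ℤ)))
    (hgQ : Q.1 g = WithZero.exp (-((b + 1 : ℕ) : ℤ)))
    {γ : K} (hγreg : γ ∈ aff O) (hγO : O.1 γ ≤ WithZero.exp (m : ℤ))
    (hγP : P.1 γ ≤ WithZero.exp (-(a : ℤ))) (hγQ : Q.1 γ ≤ WithZero.exp (-(b : ℤ))) : γ = 0 := by
  by_contra hγ0
  have hPQ : P ≠ Q := ne_of_values (by rw [hgP]; exact exp_neg_lt_one hK (by omega))
    (by rw [hgQ]; exact exp_neg_lt_one hK (by omega))
  have h1 := mem_L_three hK hP hQ hPQ hγreg hγO hγP hγQ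
  have hdeg0 : (0 : ℤ) ≤ (m : ℤ) - a - b := by
    by_contra hcon
    have h2 := Base.L_eq_bot_of_deg_neg hK
      (Finsupp.single O (m : ℤ) - Finsupp.single P (a : ℤ) - Finsupp.single Q (b : ℤ))
      (by rw [deg_three hK O P Q (m : ℤ) a b]; omega)
    rw [h2] at h1
    exact hγ0 h1
  have hmab : (m : ℤ) = a + b := by omega
  -- `δ g`
  have hδO : O.1 (δ g) = WithZero.exp ((m : ℤ) + 1) := v_eq hδ O hgO (by omega)
  have hδP : P.1 (δ g) ≤ WithZero.exp (-(a : ℤ)) := by
    have h3 := v_eq hδ P hgP (by push_cast; omega)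
    have h4 : δ (g - 1) = δ g := by
      rw [map_sub, Derivation.map_one_eq_zero, sub_zero]
    rw [h4] at h3
    rw [h3]
    apply le_of_eq
    congr 1
    push_cast; ring
  have hδQ : Q.1 (δ g) ≤ WithZero.exp (-(b : ℤ)) := by
    have h3 := v_eq hδ Q hgQ (by push_cast; omega)
    rw [h3]
    apply le_of_eq
    congr 1
    push_cast; ring
  have hδreg : δ g ∈ aff O := fun R hR => hδ.le_one R g (hgreg R hR)
  have h5 := mem_L_three hK hP hQ hPQ hδreg hδO.le hδP hδQ
  have h6 := mem_L_three hK hP hQ hPQ hγreg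
    (hγO.trans (WithZero.exp_le_exp.mpr (by linarith : (m : ℤ) ≤ m + 1))) hγP hγQ
  obtain ⟨c, hc⟩ := exists_smul_eq_of_deg_one hK hg
    (by rw [deg_three hK, hmab]; ring) h6 hγ0 h5
  have h7 : O.1 (δ g) ≤ WithZero.exp (m : ℤ) := by
    rw [hc, Algebra.smul_def, map_mul]
    calc _ ≤ 1 * WithZero.exp (m : ℤ) := mul_le_mul' (O.2.1 c) hγO
      _ = _ := one_mul _
  rw [hδO, WithZero.exp_le_exp] at h7
  omega

end core

end AC

end K670.ClaimG
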