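import Groth.Agent.FunFld.K670.SetC

/-! Rigidity, case (ii). -/

set_option autoImplicit false
set_option linter.style.haveILetI false
set_option linter.unusedSectionVars false

namespace K670.CoreH

open FunFld K670.Aff K670.InvDer K670.Param K670.ClaimG K670.Pairs K670.SetG K670.SetC

variable {k K : Type*} [Field k] [Field K] [Algebra k K]
variable [IsAlgClosed k] (hK : IsFunctionField k K)
include hK

/-- Two functions with the same pole order at `O`: a combination with smaller pole order. -/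
theorem exists_sub_smul (O : Place k K) {x y : K} {n : ℤ} (hx : O.1 x ≤ WithZero.exp n)
    (hy : O.1 y = WithZero.exp n) : ∃ c : k, O.1 (x - c • y) ≤ WithZero.exp (n - 1) := by
  have hy0 : y ≠ 0 := by
    rintro rfl; rw [map_zero] at hy; exact WithZero.exp_ne_zero hy.symm
  obtain ⟨c, hc⟩ : ∃ c : k, O.1 (x / y - algebraMap k K c) < 1 := by
    apply Gen.exists_const_sub_lt_one hK
    rw [map_div₀, hy]
    rcases eq_or_ne x 0 with rfl | h0
    · rw [map_zero, zero_div]; exact zero_le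
    · rw [Gen.v_eq_exp O h0, WithZero.exp_le_exp] at hx
      rw [Gen.v_eq_exp O h0, ← WithZero.exp_sub, ← WithZero.exp_zero, WithZero.exp_le_exp]
      omega
  refine ⟨c, ?_⟩
  have e1 : x - c • y = (x / y - algebraMap k K c) * y := by
    rw [Algebra.smul_def]; field_simp
  rw [e1, map_mul, hy]
  rcases eq_or_ne (x / y - algebraMap k K c) 0 with h0 | h0
  · rw [h0, map_zero, zero_mul]; exact zero_le
  · rw [Gen.v_eq_exp O h0, ← WithZero.exp_zero, WithZero.exp_lt_exp] at hc
    rw [Gen.v_eq_exp O h0, ← WithZero.exp_add, WithZero.exp_le_exp]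
    omega

section e

variable (hg : genus k K = 1) {O P Q : Place k K} (hP : P ≠ O) (hQ : Q ≠ O) (hPQ : P ≠ Q)
  {a b : ℕ}
include hg hP hQ hPQ

/-- The function `e` spanning `L((a+b+1)O - aP - bQ)`. -/
theorem exists_e {h : K} (hh : h ∈ aff (k := k) O) (hhO : O.1 h = WithZero.exp ((a : ℤ) + b + 2))
    (hhP : P.1 h ≤ WithZero.exp (-((a + 1 : ℕ) : ℤ))) (hhQ : Q.1 h ≤ WithZero.exp (-((b + 1 : ℕ) : ℤ))) :
    ∃ e : K, e ∈ aff (k := k) O ∧ O.1 e ≤ WithZero.exp ((a : ℤ) + b + 1) ∧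
      P.1 e = WithZero.exp (-(a : ℤ)) ∧ Q.1 e = WithZero.exp (-(b : ℤ)) ∧
      ∀ z : K, z ∈ aff (k := k) O → O.1 z ≤ WithZero.exp ((a : ℤ) + b + 1) →
        P.1 z ≤ WithZero.exp (-(a : ℤ)) → Q.1 z ≤ WithZero.exp (-(b : ℤ)) → ∃ c : k, z = c • e := by
  classical
  set D : Divisor k K := Finsupp.single O ((a : ℤ) + b + 1) - Finsupp.single P (a : ℤ) -
    Finsupp.single Q (b : ℤ) with hD
  have hdeg : D.deg = 1 := by rw [hD, deg_three hK]; ring
  have hfr := finrank_eq_deg hK hg (D := D) (by rw [hdeg])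
  rw [hdeg] at hfr
  have hfr' : Module.finrank k ↥(L D) = 1 := by exact_mod_cast hfr
  haveI : Nontrivial ↥(L D) := Module.nontrivial_of_finrank_pos (R := k) (by omega)
  obtain ⟨⟨e, heD⟩, he0⟩ := exists_ne (0 : ↥(L D))
  have he : e ≠ 0 := fun h0 => he0 (Subtype.ext h0)
  have hh0 : h ≠ 0 := by
    rintro rfl; rw [map_zero] at hhO; exact WithZero.exp_ne_zero hhO.symm
  have hDO : D O = (a : ℤ) + b + 1 := by
    rw [hD, Finsupp.sub_apply, Finsupp.sub_apply, Finsupp.single_eq_same, Finsupp.single_apply,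
      Finsupp.single_apply, if_neg hP, if_neg hQ]; ring
  have hDP : D P = -(a : ℤ) := by
    rw [hD, Finsupp.sub_apply, Finsupp.sub_apply, Finsupp.single_apply, Finsupp.single_apply,
      Finsupp.single_apply, if_neg (Ne.symm hP), if_pos rfl, if_neg (Ne.symm hPQ)]; ring
  have hDQ : D Q = -(b : ℤ) := by
    rw [hD, Finsupp.sub_apply, Finsupp.sub_apply, Finsupp.single_apply, Finsupp.single_apply,
      Finsupp.single_apply, if_neg (Ne.symm hQ), if_neg hPQ, if_pos rfl]; ring
  have hDR : ∀ R, R ≠ O → R ≠ P → R ≠ Q → D R = 0 := by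
    intro R h1 h2 h3
    rw [hD, Finsupp.sub_apply, Finsupp.sub_apply, Finsupp.single_apply, Finsupp.single_apply,
      Finsupp.single_apply, if_neg (Ne.symm h1), if_neg (Ne.symm h2), if_neg (Ne.symm h3)]; ring
  have heO : O.1 e ≤ WithZero.exp ((a : ℤ) + b + 1) := by have := heD O; rwa [hDO] at this
  have heP : P.1 e ≤ WithZero.exp (-(a : ℤ)) := by have := heD P; rwa [hDP] at this
  have heQ : Q.1 e ≤ WithZero.exp (-(b : ℤ)) := by have := heD Q; rwa [hDQ] at this
  have heA : e ∈ aff (k := k) O := by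
    intro R hR
    by_cases h1 : R = P
    · subst h1; refine heP.trans ?_
      rw [← WithZero.exp_zero, WithZero.exp_le_exp]; omega
    · by_cases h2 : R = Q
      · subst h2; refine heQ.trans ?_
        rw [← WithZero.exp_zero, WithZero.exp_le_exp]; omega
      · have := heD R
        rwa [hDR R hR h1 h2, WithZero.exp_zero] at this
  -- the divisor of `h`
  have hhD := mem_L_three hK hP hQ hPQ hh hhO.le hhP hhQ
  have hdivh := Gen.div_eq_neg_of_mem_L hK hh0 hhD (by
    rw [deg_three hK]; push_cast; ring)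
  have hordR : ∀ R, R ≠ O → R ≠ P → R ≠ Q → R.ord h = 0 := by
    intro R h1 h2 h3
    have := DFunLike.congr_fun hdivh R
    rw [Gen.div_apply hK] at this
    rw [this, Finsupp.neg_apply, Finsupp.sub_apply, Finsupp.sub_apply, Finsupp.single_apply,
      Finsupp.single_apply, Finsupp.single_apply, if_neg (Ne.symm h1), if_neg (Ne.symm h2),
      if_neg (Ne.symm h3)]
    ring
  have hordP : P.ord h = a + 1 := by
    have := DFunLike.congr_fun hdivh P
    rw [Gen.div_apply hK] at this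
    rw [this, Finsupp.neg_apply, Finsupp.sub_apply, Finsupp.sub_apply, Finsupp.single_apply,
      Finsupp.single_apply, Finsupp.single_apply, if_neg (Ne.symm hP), if_pos rfl,
      if_neg (Ne.symm hPQ)]
    push_cast; ring
  have hordQ : Q.ord h = b + 1 := by
    have := DFunLike.congr_fun hdivh Q
    rw [Gen.div_apply hK] at this
    rw [this, Finsupp.neg_apply, Finsupp.sub_apply, Finsupp.sub_apply, Finsupp.single_apply,
      Finsupp.single_apply, Finsupp.single_apply, if_neg (Ne.symm hQ), if_neg hPQ,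
      if_pos rfl]
    push_cast; ring
  have hordO : O.ord h = -((a : ℤ) + b + 2) := by
    rw [Gen.v_eq_exp O hh0, WithZero.exp_inj] at hhO; omega
  -- no function with one zero and one pole
  have key : ∀ R : Place k K, R ≠ O → (∀ S : Place k K, S ≠ O → S ≠ R → 0 ≤ S.ord (e / h)) →
      -1 ≤ R.ord (e / h) → 1 ≤ O.ord (e / h) → False := by
    intro R hR h1 h2 h3
    have hz : e / h ≠ 0 := div_ne_zero he hh0
    have hmem : e / h ∈ L (Finsupp.single R 1 - Finsupp.single O 1) := by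
      intro S
      rw [Gen.v_le_exp_iff S hz, Finsupp.sub_apply, Finsupp.single_apply, Finsupp.single_apply]
      by_cases hS : S = O
      · subst hS
        rw [if_neg hR, if_pos rfl]; omega
      · by_cases hS' : S = R
        · subst hS'
          rw [if_pos rfl, if_neg (Ne.symm hS)]; omega
        · rw [if_neg (Ne.symm hS'), if_neg (Ne.symm hS)]
          have := h1 S hS hS'
          omega
    have h4 := Gen.div_eq_neg_of_mem_L hK hz hmem (by
      rw [Gen.deg_sub_single hK, Gen.deg_single' hK]; ring)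
    rw [neg_sub] at h4
    exact hR (Base.eq_of_single_sub_single_eq_div hK (by omega) O R (Gen.place_deg hK O)
      (Gen.place_deg hK R) _ hz h4.symm).symm
  have hordeO : -((a : ℤ) + b + 1) ≤ O.ord e := (Gen.v_le_exp_iff O he _).mp heO
  have hordeP : (a : ℤ) ≤ P.ord e := by have := (Gen.v_le_exp_iff P he _).mp heP; omega
  have hordeQ : (b : ℤ) ≤ Q.ord e := by have := (Gen.v_le_exp_iff Q he _).mp heQ; omega
  have hordeR : ∀ R, R ≠ O → R ≠ P → R ≠ Q → 0 ≤ R.ord e := by
    intro R h1 h2 h3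
    have := (Gen.v_le_exp_iff R he _).mp (heD R)
    rw [hDR R h1 h2 h3] at this
    omega
  have hP' : P.ord e = a := by
    by_contra hne
    refine key Q hQ ?_ ?_ ?_
    · intro S h1 h2
      rw [Gen.ord_div S he hh0]
      by_cases h3 : S = P
      · subst h3; rw [hordP]; omega
      · rw [hordR S h1 h3 h2]
        have := hordeR S h1 h3 h2
        omega
    · rw [Gen.ord_div Q he hh0, hordQ]; omega
    · rw [Gen.ord_div O he hh0, hordO]; omega
  have hQ' : Q.ord e = b := by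
    by_contra hne
    refine key P hP ?_ ?_ ?_
    · intro S h1 h2
      rw [Gen.ord_div S he hh0]
      by_cases h3 : S = Q
      · subst h3; rw [hordQ]; omega
      · rw [hordR S h1 h2 h3]
        have := hordeR S h1 h2 h3
        omega
    · rw [Gen.ord_div P he hh0, hordP]; omega
    · rw [Gen.ord_div O he hh0, hordO]; omega
  refine ⟨e, heA, heO, ?_, ?_, ?_⟩
  · rw [Gen.v_eq_exp P he, hP']
  · rw [Gen.v_eq_exp Q he, hQ']
  · intro z hz hzO hzP hzQ
    exact exists_smul_eq_of_deg_one hK hg hdeg heD he (mem_L_three hK hP hQ hPQ hz hzO hzP hzQ)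

end e

section core

variable {δ : Derivation k K K} (hδ : IsInv δ)
variable (hg : genus k K = 1) {O P Q : Place k K} (hP : P ≠ O) (hQ : Q ≠ O) {a b : ℕ}
variable {g h : aff (k := k) O} (hgO : O.1 (g : K) ≤ WithZero.exp ((a : ℤ) + b + 1))
  (hhO : O.1 (h : K) = WithZero.exp ((a : ℤ) + b + 2))
  (hgP : P.1 ((g : K) - 1) ≤ WithZero.exp (-((a + 1 : ℕ) : ℤ)))
  (hgQ : Q.1 (g : K) ≤ WithZero.exp (-((b + 1 : ℕ) : ℤ)))
  (hhP : P.1 (h : K) ≤ WithZero.exp (-((a + 1 : ℕ) : ℤ)))
  (hhQ : Q.1 (h : K) ≤ WithZero.exp (-((b + 1 : ℕ) : ℤ)))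
include hδ hg hP hQ hgO hhO hgP hgQ hhP hhQ

/-- The derivative of `g` in terms of `e` and `h`. -/
theorem exists_dg : ∃ e : aff (k := k) O, ev hK O P hP ((dA hδ O ^ a) e) ≠ 0 ∧
    ev hK O Q hQ ((dA hδ O ^ b) e) ≠ 0 ∧
    O.1 (e : K) ≤ WithZero.exp ((a : ℤ) + b + 1) ∧
    (∃ c c' : k, dA hδ O g = c • e + c' • h) ∧
    ∀ z : aff (k := k) O, O.1 (z : K) ≤ WithZero.exp ((a : ℤ) + b + 1) →
        P.1 (z : K) ≤ WithZero.exp (-(a : ℤ)) → Q.1 (z : K) ≤ WithZero.exp (-(b : ℤ)) →
          ∃ c : k, z = c • e := by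
  have hPQ : P ≠ Q := ne_of_values (lt_of_le_of_lt hgP (exp_neg_lt_one hK (by omega)))
    (lt_of_le_of_lt hgQ (exp_neg_lt_one hK (by omega)))
  obtain ⟨e, heA, heO, heP, heQ, hspan⟩ := exists_e hK hg hP hQ hPQ h.2 hhO hhP hhQ
  refine ⟨⟨e, heA⟩, ((taylor_eq hδ hK O P hP a ⟨e, heA⟩).mp heP).2,
    ((taylor_eq hδ hK O Q hQ b ⟨e, heA⟩).mp heQ).2, heO, ?_, ?_⟩
  · have h1 : O.1 (δ (g : K)) ≤ WithZero.exp ((a : ℤ) + b + 2) := by
      have := le_exp hδ O hgO (by omega)
      convert this using 2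
      ring
    have h2 : P.1 (δ (g : K)) ≤ WithZero.exp (-(a : ℤ)) := by
      rcases Nat.eq_zero_or_pos a with h0 | hpos
      · subst h0
        simp only [Nat.cast_zero, neg_zero, WithZero.exp_zero]
        exact hδ.le_one P _ (g.2 P hP)
      · have h3 := le_exp hδ P hgP (by push_cast; omega)
        have h4 : δ ((g : K) - 1) = δ (g : K) := by
          rw [map_sub, Derivation.map_one_eq_zero, sub_zero]
        rw [h4] at h3
        convert h3 using 2
        push_cast; ring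
    have h3 : Q.1 (δ (g : K)) ≤ WithZero.exp (-(b : ℤ)) := by
      rcases Nat.eq_zero_or_pos b with h0 | hpos
      · subst h0
        simp only [Nat.cast_zero, neg_zero, WithZero.exp_zero]
        exact hδ.le_one Q _ (g.2 Q hQ)
      · have h3 := le_exp hδ Q hgQ (by push_cast; omega)
        convert h3 using 2
        push_cast; ring
    obtain ⟨c', hc'⟩ := exists_sub_smul hK O h1 hhO
    have hsm : ∀ (R : Place k K) (c : k) (x : K), R.1 (c • x) ≤ R.1 x := by
      intro R c x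
      rw [Algebra.smul_def, map_mul]
      calc _ ≤ 1 * R.1 x := mul_le_mul' (R.2.1 c) le_rfl
        _ = _ := one_mul _
    obtain ⟨c, hc⟩ := hspan (δ (g : K) - c' • (h : K)) ((dA hδ O g - c' • h : aff (k := k) O).2)
      (by convert hc' using 2; ring)
      ((P.1.map_sub _ _).trans (max_le h2 ((hsm P c' _).trans (hhP.trans
        (WithZero.exp_le_exp.mpr (by push_cast; omega))))))
      ((Q.1.map_sub _ _).trans (max_le h3 ((hsm Q c' _).trans (hhQ.trans
        (WithZero.exp_le_exp.mpr (by push_cast; omega))))))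
    refine ⟨c, c', Subtype.ext ?_⟩
    show δ (g : K) = c • e + c' • (h : K)
    rw [← hc]; ring
  · intro z hz1 hz2 hz3
    obtain ⟨c, hc⟩ := hspan z z.2 hz1 hz2 hz3
    exact ⟨c, Subtype.ext hc⟩

/-- If `1 - g` vanishes to higher order at `P`, so does `g` at `Q`. -/
theorem dichotomy (hd : ev hK O P hP ((dA hδ O ^ (a + 1)) g) = 0) :
    P.1 ((g : K) - 1) ≤ WithZero.exp (-((a + 1 + 1 : ℕ) : ℤ)) ∧
      Q.1 (g : K) ≤ WithZero.exp (-((b + 1 + 1 : ℕ) : ℤ)) := by
  obtain ⟨e, heP, heQ, heO, ⟨c, c', hcc⟩, hspan⟩ :=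
    exists_dg hK hδ hg hP hQ hgO hhO hgP hgQ hhP hhQ
  have tP := (taylor hδ hK O P hP (a + 1) (g - 1)).mp hgP
  have tQ := (taylor hδ hK O Q hQ (b + 1) g).mp hgQ
  have sP := (taylor hδ hK O P hP (a + 1) h).mp hhP
  have sQ := (taylor hδ hK O Q hQ (b + 1) h).mp hhQ
  have hstep : ∀ i, (dA hδ O ^ (i + 1)) g = (dA hδ O ^ i) (dA hδ O g) := by
    intro i; rw [pow_succ]; rfl
  have hc0 : c = 0 := by
    rw [hstep, hcc, map_add, map_smul, map_smul, map_add, map_smul, map_smul, sP a (by omega),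
      smul_zero, add_zero, smul_eq_mul] at hd
    exact (mul_eq_zero.mp hd).resolve_right heP
  refine ⟨?_, ?_⟩
  · refine (taylor hδ hK O P hP (a + 1 + 1) (g - 1)).mpr ?_
    intro i hi
    rcases Nat.lt_succ_iff_lt_or_eq.mp hi with h1 | h1
    · exact tP i h1
    · rw [h1, map_sub, dA_pow_one hδ hK O _ (by omega), sub_zero]
      exact hd
  · refine (taylor hδ hK O Q hQ (b + 1 + 1) g).mpr ?_
    intro i hi
    rcases Nat.lt_succ_iff_lt_or_eq.mp hi with h1 | h1
    · exact tQ i h1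
    · rw [h1, hstep, hcc, hc0, zero_smul, zero_add, map_smul, map_smul, sQ b (by omega), smul_zero]

/-- Rigidity, case (ii). -/
theorem core (hd : ev hK O P hP ((dA hδ O ^ (a + 1)) g) ≠ 0)
    {γ η : aff (k := k) O} (hγO : O.1 (γ : K) ≤ WithZero.exp ((a : ℤ) + b + 1))
    (hηO : O.1 (η : K) ≤ WithZero.exp ((a : ℤ) + b + 1)) {α β : k}
    (h1 : ∀ i ≤ a, α * ev hK O P hP ((dA hδ O ^ (i + 1)) g) + ev hK O P hP ((dA hδ O ^ i) γ) = 0)
    (h2 : ∀ i ≤ b, β * ev hK O Q hQ ((dA hδ O ^ (i + 1)) g) + ev hK O Q hQ ((dA hδ O ^ i) γ) = 0)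
    (h3 : ∀ i ≤ a, α * ev hK O P hP ((dA hδ O ^ (i + 1)) h) + ev hK O P hP ((dA hδ O ^ i) η) = 0)
    (h4 : ∀ i ≤ b, β * ev hK O Q hQ ((dA hδ O ^ (i + 1)) h) + ev hK O Q hQ ((dA hδ O ^ i) η) = 0) :
    γ = 0 ∧ η = 0 ∧ α = 0 ∧ β = 0 := by
  obtain ⟨e, heP, heQ, heO, ⟨c, c', hcc⟩, hspan⟩ :=
    exists_dg hK hδ hg hP hQ hgO hhO hgP hgQ hhP hhQ
  have hPQ : P ≠ Q := ne_of_values (lt_of_le_of_lt hgP (exp_neg_lt_one hK (by omega)))
    (lt_of_le_of_lt hgQ (exp_neg_lt_one hK (by omega)))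
  have tP := (taylor hδ hK O P hP (a + 1) (g - 1)).mp hgP
  have tQ := (taylor hδ hK O Q hQ (b + 1) g).mp hgQ
  have sP := (taylor hδ hK O P hP (a + 1) h).mp hhP
  have sQ := (taylor hδ hK O Q hQ (b + 1) h).mp hhQ
  have tP' : ∀ i, 1 ≤ i → i ≤ a → ev hK O P hP ((dA hδ O ^ i) g) = 0 := by
    intro i hi hia
    have := tP i (by omega)
    rwa [map_sub, dA_pow_one hδ hK O i hi, sub_zero] at this
  have hstep : ∀ (z : aff (k := k) O) i, (dA hδ O ^ (i + 1)) z = (dA hδ O ^ i) (dA hδ O z) := by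
    intro z i; rw [pow_succ]; rfl
  have hPg : ev hK O P hP ((dA hδ O ^ (a + 1)) g) = c * ev hK O P hP ((dA hδ O ^ a) e) := by
    rw [hstep, hcc, map_add, map_smul, map_smul, map_add, map_smul, map_smul, sP a (by omega),
      smul_zero, add_zero, smul_eq_mul]
  have hQg : ev hK O Q hQ ((dA hδ O ^ (b + 1)) g) = c * ev hK O Q hQ ((dA hδ O ^ b) e) := by
    rw [hstep, hcc, map_add, map_smul, map_smul, map_add, map_smul, map_smul, sQ b (by omega),
      smul_zero, add_zero, smul_eq_mul]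
  have hc0 : c ≠ 0 := by
    rintro rfl
    rw [hPg, zero_mul] at hd
    exact hd rfl
  -- `γ = lam • e`
  obtain ⟨lam, hlam⟩ := hspan γ hγO
    ((taylor hδ hK O P hP a γ).mpr fun i hi => by
      have := h1 i hi.le
      rwa [tP' (i + 1) (by omega) (by omega), mul_zero, zero_add] at this)
    ((taylor hδ hK O Q hQ b γ).mpr fun i hi => by
      have := h2 i hi.le
      rwa [tQ (i + 1) (by omega), mul_zero, zero_add] at this)
  have hα : α * c + lam = 0 := by
    have := h1 a le_rfl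
    rw [hPg, hlam, map_smul, map_smul, smul_eq_mul, ← mul_assoc, ← add_mul] at this
    exact (mul_eq_zero.mp this).resolve_right heP
  have hβ : β * c + lam = 0 := by
    have := h2 b le_rfl
    rw [hQg, hlam, map_smul, map_smul, smul_eq_mul, ← mul_assoc, ← add_mul] at this
    exact (mul_eq_zero.mp this).resolve_right heQ
  have hαβ : β = α := by
    have : (β - α) * c = 0 := by linear_combination hβ - hα
    exact sub_eq_zero.mp ((mul_eq_zero.mp this).resolve_right hc0)
  -- `ζ = η + α • dA h`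
  set ζ : aff (k := k) O := η + α • dA hδ O h with hζ
  have hζP : P.1 (ζ : K) ≤ WithZero.exp (-((a + 1 : ℕ) : ℤ)) := by
    refine (taylor hδ hK O P hP (a + 1) ζ).mpr fun i hi => ?_
    have := h3 i (by omega)
    rw [hζ, map_add, map_smul, map_add, map_smul, ← hstep, smul_eq_mul, add_comm]
    exact this
  have hζQ : Q.1 (ζ : K) ≤ WithZero.exp (-((b + 1 : ℕ) : ℤ)) := by
    refine (taylor hδ hK O Q hQ (b + 1) ζ).mpr fun i hi => ?_
    have := h4 i (by omega)
    rw [hζ, map_add, map_smul, map_add, map_smul, ← hstep, smul_eq_mul, add_comm, ← hαβ]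
    exact this
  have hdhO : O.1 (δ (h : K)) = WithZero.exp ((a : ℤ) + b + 3) := by
    have := v_eq hδ O hhO (by omega)
    rw [this]; congr 1
  have hsm : ∀ (R : Place k K) (c : k) (x : K), R.1 (c • x) ≤ R.1 x := by
    intro R c x
    rw [Algebra.smul_def, map_mul]
    calc _ ≤ 1 * R.1 x := mul_le_mul' (R.2.1 c) le_rfl
      _ = _ := one_mul _
  have hsm' : ∀ (R : Place k K) (c : k) (x : K), c ≠ 0 → R.1 (c • x) = R.1 x := by
    intro R c x hc
    rw [Algebra.smul_def, map_mul, Gen.v_algebraMap R hc, one_mul]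
  have hζK : (ζ : K) = (η : K) + α • δ (h : K) := rfl
  have hζO : O.1 (ζ : K) ≤ WithZero.exp ((a : ℤ) + b + 3) := by
    rw [hζK]
    refine (O.1.map_add _ _).trans (max_le (hηO.trans (WithZero.exp_le_exp.mpr (by omega)))
      ((hsm _ _ _).trans hdhO.le))
  have hh0 : (h : K) ≠ 0 := by
    intro h0; rw [h0, map_zero] at hhO; exact WithZero.exp_ne_zero hhO.symm
  obtain ⟨ν, hν⟩ := exists_smul_eq_of_deg_one hK hg
    (D := Finsupp.single O ((a : ℤ) + b + 3) - Finsupp.single P (((a + 1 : ℕ) : ℤ)) -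
      Finsupp.single Q (((b + 1 : ℕ) : ℤ))) (by rw [deg_three hK]; push_cast; ring)
    (mem_L_three hK hP hQ hPQ h.2 (hhO.le.trans (WithZero.exp_le_exp.mpr (by omega))) hhP hhQ) hh0
    (mem_L_three hK hP hQ hPQ ζ.2 hζO hζP hζQ)
  have hα0 : α = 0 := by
    by_contra hα0
    have e1 : O.1 (ζ : K) = WithZero.exp ((a : ℤ) + b + 3) := by
      rw [hζK, Valuation.map_add_eq_of_lt_right, hsm' _ _ _ hα0, hdhO]
      rw [hsm' _ _ _ hα0, hdhO]
      refine lt_of_le_of_lt hηO ?_
      rw [WithZero.exp_lt_exp]; omega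
    have e2 : O.1 (ζ : K) ≤ WithZero.exp ((a : ℤ) + b + 2) := by
      rw [hν]; exact (hsm _ _ _).trans hhO.le
    rw [e1, WithZero.exp_le_exp] at e2
    omega
  have hζη : (ζ : K) = η := by rw [hζK, hα0, zero_smul, add_zero]
  have hν0 : ν = 0 := by
    by_contra hν0
    have e1 : O.1 (η : K) = WithZero.exp ((a : ℤ) + b + 2) := by
      rw [← hζη, hν, hsm' _ _ _ hν0, hhO]
    rw [e1, WithZero.exp_le_exp] at hηO
    omega
  have hη0 : η = 0 := by
    apply Subtype.ext
    rw [← hζη, hν, hν0, zero_smul]; rfl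
  have hlam0 : lam = 0 := by rw [hα0, zero_mul, zero_add] at hα; exact hα
  exact ⟨by rw [hlam, hlam0, zero_smul], hη0, hα0, by rw [hαβ, hα0]⟩

end core

end K670.CoreH
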