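import Groth.Agent.FunFld.K670.SetH
import Groth.Agent.FunFld.K667.DiffOrd
import Groth.Agent.FunFld.K669.DiffCalc
import Groth.Agent.FunFld.K669.Expansion
import Groth.Agent.FunFld.K660.Sep
import Groth.Agent.S11000

/-! Existence of a nowhere vanishing derivation of a genus one function field in characteristic zero,
by a Weierstrass equation `y² = c₃x³ + c₂x² + c₁x + c₀`. -/

set_option autoImplicit false
set_option linter.style.haveILetI false
set_option linter.unusedSectionVars false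

namespace K670.Deriv

open FunFld K670.Aff K670.InvDer K670.ClaimG K670.SetC K670.CoreH

universe u v
variable {k : Type u} {K : Type v} [Field k] [Field K] [Algebra k K]
variable [IsAlgClosed k] (hK : IsFunctionField k K)

theorem v_two [CharZero k] (P : Place k K) (x : K) : P.1 (2 * x) = P.1 x := by
  have h : (2 : K) = algebraMap k K 2 := (map_ofNat (algebraMap k K) 2).symm
  rw [map_mul, h, Gen.v_algebraMap P two_ne_zero, one_mul]

theorem v_smul_le (P : Place k K) (c : k) (x : K) : P.1 (c • x) ≤ P.1 x := by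
  rw [Algebra.smul_def, map_mul]
  calc _ ≤ 1 * P.1 x := mul_le_mul' (P.2.1 c) le_rfl
    _ = _ := one_mul _

theorem v_smul (P : Place k K) {c : k} (hc : c ≠ 0) (x : K) : P.1 (c • x) = P.1 x := by
  rw [Algebra.smul_def, map_mul, Gen.v_algebraMap P hc, one_mul]

/-- A derivation with the expected value on one function is compatible with the expansion. -/
theorem key (hΩ : Module.finrank K (KaehlerDifferential k K) = 1) (δ : Derivation k K K) (P : Place k K)
    (φ : K →ₐ[k] LaurentSeries k) (hφ : LocRes.IsExpansionAt P.1 φ) {z₀ : K} (h0 : P.1 (δ z₀) ≠ 0)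
    (h1 : Valued.v (LocRes.D k (φ z₀)) = P.1 (δ z₀)) (z : K) :
    P.1 (δ z) = Valued.v (LocRes.D k (φ z)) := by
  have hδ0 : δ z₀ ≠ 0 := (Valuation.ne_zero_iff _).mp h0
  have hD : KaehlerDifferential.D k K z₀ ≠ 0 := by
    intro h2
    apply hδ0
    rw [← δ.liftKaehlerDifferential_comp_D z₀, h2, map_zero]
  obtain ⟨a, ha⟩ := exists_smul_eq_of_finrank_eq_one hΩ hD (KaehlerDifferential.D k K z)
  have h2 : δ z = a * δ z₀ := by
    rw [← δ.liftKaehlerDifferential_comp_D z, ← ha, map_smul, δ.liftKaehlerDifferential_comp_D z₀,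
      smul_eq_mul]
  have h3 := K669.DiffCalc.mul_D_congr φ (u := a) (v := z₀) (u' := 1) (v' := z)
    (by rw [ha, one_smul])
  rw [map_one, one_mul] at h3
  rw [h2, ← h3, map_mul, map_mul, h1, hφ.1]

/-- Derivations compatible with expansions at all places. -/
theorem isInv_of [CharZero k] (hΩ : Module.finrank K (KaehlerDifferential k K) = 1)
    (δ : Derivation k K K)
    (h : ∀ P : Place k K, ∃ (φ : K →ₐ[k] LaurentSeries k) (z₀ : K), LocRes.IsExpansionAt P.1 φ ∧
      P.1 (δ z₀) ≠ 0 ∧ Valued.v (LocRes.D k (φ z₀)) = P.1 (δ z₀)) : IsInv δ := by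
  refine ⟨fun P z hz => ?_, fun P z hz hord => ?_⟩
  · obtain ⟨φ, z₀, hφ, h0, h1⟩ := h P
    rw [key hΩ δ P φ hφ h0 h1]
    exact K667.DiffOrd.v_D_le_one (by rw [hφ.1]; exact hz)
  · obtain ⟨φ, z₀, hφ, h0, h1⟩ := h P
    have h2 : P.1 (δ z) = WithZero.exp (-(P.ord z) + 1) := by
      rw [key hΩ δ P φ hφ h0 h1]
      refine K667.DiffOrd.v_D_eq (by rw [hφ.1, Gen.v_eq_exp P hz]) ?_
      rw [Int.cast_ne_zero]; omega
    have h3 : δ z ≠ 0 := by
      intro h4; rw [h4, map_zero] at h2; exact WithZero.exp_ne_zero h2.symm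
    refine ⟨h3, ?_⟩
    rw [Gen.v_eq_exp P h3, WithZero.exp_inj] at h2
    omega

include hK

theorem finrank_Omega [CharZero k] : Module.finrank K (KaehlerDifferential k K) = 1 := by
  obtain ⟨t, ht, hsep⟩ := K660.Sep.exists_isSeparable hK (Groth.Agent.S11000.result k K hK)
  exact K660.Sep.finrank_kaehler ht hsep

/-- Weierstrass equation. -/
theorem exists_weierstrass [CharZero k] (hg : genus k K = 1) (O : Place k K) :
    ∃ (x y : K) (c₀ c₁ c₂ c₃ : k), x ∈ aff (k := k) O ∧ y ∈ aff (k := k) O ∧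
      O.1 x = WithZero.exp 2 ∧ O.1 y = WithZero.exp 3 ∧ c₃ ≠ 0 ∧
      y ^ 2 = c₃ • x ^ 3 + c₂ • x ^ 2 + c₁ • x + algebraMap k K c₀ := by
  have hL : ∀ n : ℕ, 1 ≤ n → ∃ x ∈ aff (k := k) O, O.1 x = WithZero.exp ((n : ℤ) + 1) := by
    intro n hn
    have hn1 : (Module.finrank k ↥(L (Finsupp.single O ((n : ℤ) + 1))) : ℤ) = n + 1 := by
      have := finrank_eq_deg hK hg (D := Finsupp.single O ((n : ℤ) + 1))
        (by rw [Gen.deg_single' hK]; omega)
      rw [this, Gen.deg_single' hK]
    have hn0 : (Module.finrank k ↥(L (Finsupp.single O (n : ℤ))) : ℤ) = n := by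
      have := finrank_eq_deg hK hg (D := Finsupp.single O (n : ℤ))
        (by rw [Gen.deg_single' hK]; omega)
      rw [this, Gen.deg_single' hK]
    have hnle : ¬ L (Finsupp.single O ((n : ℤ) + 1)) ≤ L (Finsupp.single O (n : ℤ)) := by
      intro hle
      haveI := Base.finiteDimensional_L hK (Finsupp.single O (n : ℤ))
      have := Submodule.finrank_mono hle
      omega
    obtain ⟨x, hx1, hx2⟩ := SetLike.not_le_iff_exists.mp hnle
    refine ⟨x, mem_aff_of_mem_L hx1, ?_⟩
    have hx0 : x ≠ 0 := by rintro rfl; exact hx2 (Submodule.zero_mem _)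
    have h1 := hx1 O
    rw [Finsupp.single_eq_same, Gen.v_le_exp_iff O hx0] at h1
    rw [Gen.v_eq_exp O hx0]
    congr 1
    by_contra hne
    apply hx2
    classical
    intro R
    rw [Finsupp.single_apply]
    split_ifs with hR
    · subst hR
      rw [Gen.v_le_exp_iff O hx0]; omega
    · rw [WithZero.exp_zero]
      exact mem_aff_of_mem_L hx1 R (Ne.symm hR)
  obtain ⟨x, hxA, hx⟩ := hL 1 le_rfl
  obtain ⟨y₀, hyA, hy⟩ := hL 2 (by norm_num)
  have hx : O.1 x = WithZero.exp 2 := by rw [hx]; rfl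
  have hy : O.1 y₀ = WithZero.exp 3 := by rw [hy]; rfl
  have e6 : O.1 (y₀ ^ 2) = WithZero.exp 6 := by
    rw [map_pow, hy, ← WithZero.exp_nsmul]; rfl
  have f6 : O.1 (x ^ 3) = WithZero.exp 6 := by
    rw [map_pow, hx, ← WithZero.exp_nsmul]; rfl
  have f5 : O.1 (x * y₀) = WithZero.exp 5 := by
    rw [map_mul, hx, hy, ← WithZero.exp_add]; rfl
  have f4 : O.1 (x ^ 2) = WithZero.exp 4 := by
    rw [map_pow, hx, ← WithZero.exp_nsmul]; rfl
  obtain ⟨c₃, hc₃⟩ := exists_sub_smul hK O e6.le f6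
  obtain ⟨d₁, hd₁⟩ := exists_sub_smul hK O hc₃ f5
  obtain ⟨c₂, hc₂⟩ := exists_sub_smul hK O hd₁ f4
  obtain ⟨d₀, hd₀⟩ := exists_sub_smul hK O hc₂ hy
  obtain ⟨c₁, hc₁⟩ := exists_sub_smul hK O hd₀ hx
  set r : K := y₀ ^ 2 - c₃ • x ^ 3 - d₁ • (x * y₀) - c₂ • x ^ 2 - d₀ • y₀ - c₁ • x with hr
  have hrA : r ∈ aff (k := k) O := by
    refine Subalgebra.sub_mem _ (Subalgebra.sub_mem _ (Subalgebra.sub_mem _ (Subalgebra.sub_mem _
      (Subalgebra.sub_mem _ (Subalgebra.pow_mem _ hyA 2) ?_) ?_) ?_) ?_) ?_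
    · exact Subalgebra.smul_mem _ (Subalgebra.pow_mem _ hxA 3) _
    · exact Subalgebra.smul_mem _ (Subalgebra.mul_mem _ hxA hyA) _
    · exact Subalgebra.smul_mem _ (Subalgebra.pow_mem _ hxA 2) _
    · exact Subalgebra.smul_mem _ hyA _
    · exact Subalgebra.smul_mem _ hxA _
  have hmemL : ∀ z : K, z ∈ aff (k := k) O → O.1 z ≤ WithZero.exp 1 →
      z ∈ L (Finsupp.single O (1 : ℤ)) := by
    classical
    intro z hz hz1 R
    rw [Finsupp.single_apply]
    split_ifs with hR
    · subst hR; exact hz1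
    · rw [WithZero.exp_zero]; exact hz R (Ne.symm hR)
  obtain ⟨c₀, hc₀⟩ := exists_smul_eq_of_deg_one hK hg (D := Finsupp.single O (1 : ℤ))
    (Gen.deg_single' hK O 1) (hmemL 1 (Subalgebra.one_mem _)
      (by rw [map_one, ← WithZero.exp_zero, WithZero.exp_le_exp]; norm_num)) one_ne_zero
    (hmemL r hrA (hc₁.trans (by rw [WithZero.exp_le_exp]; norm_num)))
  -- complete the square
  haveI : CharZero K := charZero_of_injective_algebraMap (algebraMap k K).injective
  have h2 : (2 : K) ≠ 0 := two_ne_zero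
  have h4' : (4 : K) ≠ 0 := by norm_num
  set y : K := y₀ - (algebraMap k K (d₁ / 2) * x + algebraMap k K (d₀ / 2)) with hydef
  have hyA' : y ∈ aff (k := k) O := by
    refine Subalgebra.sub_mem _ hyA (Subalgebra.add_mem _ (Subalgebra.mul_mem _
      (Subalgebra.algebraMap_mem _ _) hxA) (Subalgebra.algebraMap_mem _ _))
  have hyv : O.1 y = WithZero.exp 3 := by
    rw [hydef, Valuation.map_sub_eq_of_lt_left, hy]
    rw [hy]
    refine lt_of_le_of_lt (O.1.map_add _ _) (max_lt ?_ ?_)
    · rw [map_mul, hx]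
      calc _ ≤ 1 * WithZero.exp (2 : ℤ) := mul_le_mul' (O.2.1 _) le_rfl
        _ < WithZero.exp 3 := by rw [one_mul, WithZero.exp_lt_exp]; norm_num
    · refine lt_of_le_of_lt (O.2.1 _) ?_
      rw [← WithZero.exp_zero, WithZero.exp_lt_exp]; norm_num
  refine ⟨x, y, c₀ + d₀ ^ 2 / 4, c₁ + d₀ * d₁ / 2, c₂ + d₁ ^ 2 / 4, c₃, hxA, hyA', hx, hyv, ?_, ?_⟩
  · rintro rfl
    rw [zero_smul, sub_zero, e6, WithZero.exp_le_exp] at hc₃
    norm_num at hc₃
  · have h4 : y₀ ^ 2 = c₃ • x ^ 3 + d₁ • (x * y₀) + c₂ • x ^ 2 + d₀ • y₀ + c₁ • x +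
        c₀ • (1 : K) := by
      rw [← hc₀, hr]; ring
    simp only [Algebra.smul_def, mul_one] at h4 ⊢
    rw [hydef]
    simp only [map_add, map_mul, map_div₀, map_pow, map_ofNat]
    field_simp
    linear_combination 16 * h4

/-- The nowhere vanishing derivation. -/
theorem exists_isInv [CharZero k] (hg : genus k K = 1) (O : Place k K) :
    ∃ δ : Derivation k K K, IsInv δ := by
  haveI : CharZero K := charZero_of_injective_algebraMap (algebraMap k K).injective
  have hΩ := finrank_Omega hK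
  obtain ⟨x, y, c₀, c₁, c₂, c₃, hxA, hyA, hxO, hyO, hc₃, hW⟩ := exists_weierstrass hK hg O
  have hexp : ∀ P : Place k K, ∃ φ : K →ₐ[k] LaurentSeries k, LocRes.IsExpansionAt P.1 φ := by
    intro P
    obtain ⟨t, ht0, ht⟩ := Gen.exists_ord_eq_one P
    obtain ⟨φ, hφ, -⟩ := K669.Expansion.exists_expansion hK P t (by rw [Gen.v_eq_exp P ht0, ht])
    exact ⟨φ, hφ⟩
  have hy0 : y ≠ 0 := by
    rintro rfl; rw [map_zero] at hyO; exact WithZero.exp_ne_zero hyO.symm
  have hx0 : x ≠ 0 := by
    rintro rfl; rw [map_zero] at hxO; exact WithZero.exp_ne_zero hxO.symm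
  -- `dx ≠ 0`
  have hdx : KaehlerDifferential.D k K x ≠ 0 := by
    intro h0
    obtain ⟨φ, hφ⟩ := hexp O
    have h1 := K669.DiffCalc.mul_D_congr φ (u := 1) (v := x) (u' := 0) (v' := x)
      (by rw [h0, smul_zero, smul_zero])
    rw [map_one, one_mul, map_zero, zero_mul] at h1
    have h2 : Valued.v (LocRes.D k (φ x)) = WithZero.exp (2 + 1) :=
      K667.DiffOrd.v_D_eq (by rw [hφ.1, hxO]) (by norm_num)
    rw [h1, map_zero] at h2
    exact WithZero.exp_ne_zero h2.symm
  obtain ⟨ℓ, hℓ⟩ : ∃ ℓ : Module.Dual K (KaehlerDifferential k K), ℓ (KaehlerDifferential.D k K x) ≠ 0 := by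
    by_contra hcon
    push Not at hcon
    exact hdx ((Module.forall_dual_apply_eq_zero_iff K _).mp hcon)
  let δ : Derivation k K K :=
    (((2 * y) * (ℓ (KaehlerDifferential.D k K x))⁻¹) • ℓ).compDer (KaehlerDifferential.D k K)
  have hδx : δ x = 2 * y := by
    show ((2 * y) * (ℓ (KaehlerDifferential.D k K x))⁻¹) * ℓ (KaehlerDifferential.D k K x) = 2 * y
    field_simp
  refine ⟨δ, isInv_of hΩ δ fun P => ?_⟩
  obtain ⟨φ, hφ⟩ := hexp P
  by_cases hPO : P = O
  · subst hPO
    refine ⟨φ, x, hφ, ?_, ?_⟩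
    · rw [hδx, v_two, hyO]; exact WithZero.exp_ne_zero
    · rw [hδx, v_two, hyO]
      have h2 : Valued.v (LocRes.D k (φ x)) = WithZero.exp (2 + 1) :=
        K667.DiffOrd.v_D_eq (by rw [hφ.1, hxO]) (by norm_num)
      rw [h2]; rfl
  -- values at `P`
  set x₀ : k := ev hK O P hPO ⟨x, hxA⟩ with hx₀
  set y₀ : k := ev hK O P hPO ⟨y, hyA⟩ with hy₀
  have hxx : P.1 (x - algebraMap k K x₀) < 1 := ev_spec hK O P hPO ⟨x, hxA⟩
  have hyy : P.1 (y - algebraMap k K y₀) < 1 := ev_spec hK O P hPO ⟨y, hyA⟩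
  set X : K := x - algebraMap k K x₀ with hX
  have hXA : X ∈ aff (k := k) O := Subalgebra.sub_mem _ hxA (Subalgebra.algebraMap_mem _ _)
  have hXO : O.1 X = WithZero.exp 2 := by
    rw [hX, Valuation.map_sub_eq_of_lt_left, hxO]
    rw [hxO]
    refine lt_of_le_of_lt (O.2.1 _) ?_
    rw [← WithZero.exp_zero, WithZero.exp_lt_exp]; norm_num
  have hX0 : X ≠ 0 := by
    intro h; rw [h, map_zero] at hXO; exact WithZero.exp_ne_zero hXO.symm
  have hδX : δ X = 2 * y := by rw [hX, map_sub, Derivation.map_algebraMap, sub_zero, hδx]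
  have hDX : LocRes.D k (φ X) = LocRes.D k (φ x) := by
    have h1 := K669.DiffCalc.mul_D_congr φ (u := 1) (v := X) (u' := 1) (v' := x)
      (by rw [hX, map_sub, Derivation.map_algebraMap, sub_zero])
    rwa [map_one, one_mul, one_mul] at h1
  -- the equation in `X`
  obtain ⟨d₀, d₁, d₂, hW'⟩ : ∃ d₀ d₁ d₂ : k,
      y ^ 2 = c₃ • X ^ 3 + d₂ • X ^ 2 + d₁ • X + algebraMap k K d₀ := by
    refine ⟨c₃ * x₀ ^ 3 + c₂ * x₀ ^ 2 + c₁ * x₀ + c₀, 3 * c₃ * x₀ ^ 2 + 2 * c₂ * x₀ + c₁,
      3 * c₃ * x₀ + c₂, ?_⟩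
    rw [hW]
    simp only [Algebra.smul_def, hX, map_add, map_mul, map_pow, map_ofNat]
    ring
  have hd₀ : d₀ = y₀ ^ 2 := by
    apply const_unique P (z := y ^ 2)
    · have e1 : y ^ 2 - algebraMap k K d₀ = X * (c₃ • X ^ 2 + d₂ • X + algebraMap k K d₁) := by
        rw [hW']; simp only [Algebra.smul_def]; ring
      rw [e1, map_mul]
      have h2 : P.1 (c₃ • X ^ 2 + d₂ • X + algebraMap k K d₁) ≤ 1 := by
        refine (Subalgebra.add_mem (aff (k := k) O) (Subalgebra.add_mem _
          (Subalgebra.smul_mem _ (Subalgebra.pow_mem _ hXA 2) _) (Subalgebra.smul_mem _ hXA _))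
          (Subalgebra.algebraMap_mem _ _)) P hPO
      calc P.1 X * _ ≤ P.1 X * 1 := mul_le_mul_right h2 _
        _ < 1 := by rw [mul_one]; exact hxx
    · have e1 : y ^ 2 - algebraMap k K (y₀ ^ 2) = (y - algebraMap k K y₀) * (y + algebraMap k K y₀) := by
        rw [map_pow]; ring
      rw [e1, map_mul]
      have h2 : P.1 (y + algebraMap k K y₀) ≤ 1 :=
        (Subalgebra.add_mem (aff (k := k) O) hyA (Subalgebra.algebraMap_mem _ _)) P hPO
      calc P.1 (y - algebraMap k K y₀) * _ ≤ P.1 (y - algebraMap k K y₀) * 1 := mul_le_mul_right h2 _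
        _ < 1 := by rw [mul_one]; exact hyy
  have hδy : δ y = c₃ • (3 * X ^ 2) + d₂ • (2 * X) + algebraMap k K d₁ := by
    have h1 := congrArg δ hW'
    rw [map_add, map_add, map_add, Derivation.map_algebraMap, δ.map_smul, δ.map_smul, δ.map_smul,
      Derivation.leibniz_pow, Derivation.leibniz_pow, Derivation.leibniz_pow, hδX] at h1
    simp only [smul_eq_mul, nsmul_eq_mul] at h1
    simp only [Algebra.smul_def] at h1 ⊢
    have h2 : (2 * y) * (δ y - (algebraMap k K c₃ * (3 * X ^ 2) + algebraMap k K d₂ * (2 * X) +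
        algebraMap k K d₁)) = 0 := by
      push_cast at h1
      linear_combination h1
    rcases mul_eq_zero.mp h2 with h3 | h3
    · exact absurd h3 (mul_ne_zero two_ne_zero hy0)
    · exact sub_eq_zero.mp h3
  by_cases hy₀0 : y₀ = 0
  · -- `y` vanishes at `P`
    rw [hy₀0, map_zero, sub_zero] at hyy
    rw [hy₀0] at hd₀
    have hd₀' : d₀ = 0 := by rw [hd₀]; ring
    have hW'' : y ^ 2 = X * (c₃ • X ^ 2 + d₂ • X + algebraMap k K d₁) := by
      rw [hW', hd₀']; simp only [Algebra.smul_def, map_zero]; ring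
    have hd₁ : d₁ ≠ 0 := by
      rintro rfl
      -- `y / X` has a simple pole only at `O`
      set t : K := y / X with ht
      have ht2 : t ^ 2 = c₃ • X + algebraMap k K d₂ := by
        rw [ht, div_pow, hW'']
        simp only [Algebra.smul_def, map_zero]
        field_simp
        ring
      have htA : t ∈ aff (k := k) O := by
        intro R hR
        have h1 : R.1 (t ^ 2) ≤ 1 := by
          rw [ht2]
          exact (Subalgebra.add_mem (aff (k := k) O) (Subalgebra.smul_mem _ hXA _)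
            (Subalgebra.algebraMap_mem _ _)) R hR
        rw [map_pow] at h1
        exact (pow_le_one_iff (by norm_num)).mp h1
      have htO : O.1 t = WithZero.exp 1 := by
        rw [ht, map_div₀, hyO, hXO, ← WithZero.exp_sub]; rfl
      have hmem : t ∈ L (Finsupp.single O (1 : ℤ)) := by
        classical
        intro R
        rw [Finsupp.single_apply]
        split_ifs with hR
        · subst hR; exact htO.le
        · rw [WithZero.exp_zero]; exact htA R (Ne.symm hR)
      have hmem1 : (1 : K) ∈ L (Finsupp.single O (1 : ℤ)) := by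
        classical
        intro R
        rw [map_one, Finsupp.single_apply]
        split_ifs with hR
        · rw [← WithZero.exp_zero, WithZero.exp_le_exp]; norm_num
        · rw [WithZero.exp_zero]
      obtain ⟨c, hc⟩ := exists_smul_eq_of_deg_one hK hg (D := Finsupp.single O (1 : ℤ))
        (Gen.deg_single' hK O 1) hmem1 one_ne_zero hmem
      have h2 : O.1 t ≤ 1 := by
        rw [hc]; exact (v_smul_le O c 1).trans (by rw [map_one])
      rw [htO, ← WithZero.exp_zero, WithZero.exp_le_exp] at h2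
      norm_num at h2
    have hunit : P.1 (c₃ • X ^ 2 + d₂ • X + algebraMap k K d₁) = 1 := by
      rw [Valuation.map_add_eq_of_lt_right, Gen.v_algebraMap P hd₁]
      rw [Gen.v_algebraMap P hd₁]
      have e1 : c₃ • X ^ 2 + d₂ • X = X * (c₃ • X + algebraMap k K d₂) := by
        simp only [Algebra.smul_def]; ring
      rw [e1, map_mul]
      have h2 : P.1 (c₃ • X + algebraMap k K d₂) ≤ 1 :=
        (Subalgebra.add_mem (aff (k := k) O) (Subalgebra.smul_mem _ hXA _)
            (Subalgebra.algebraMap_mem _ _)) P hPO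
      calc P.1 X * _ ≤ P.1 X * 1 := mul_le_mul_right h2 _
        _ < 1 := by rw [mul_one]; exact hxx
    have hyP : P.1 y = WithZero.exp (-1) := by
      have h3 : P.1 y ^ 2 = P.1 X := by
        rw [← map_pow, hW'', map_mul, hunit, mul_one]
      rw [Gen.v_eq_exp P hy0] at hyy h3 ⊢
      rw [Gen.v_eq_exp P hX0, ← WithZero.exp_nsmul, WithZero.exp_inj] at h3
      rw [← WithZero.exp_zero, WithZero.exp_lt_exp] at hyy
      have h4 := zero_le_pole hK hPO hX0 hXA (n := 2) (r := P.ord X) hXO.le (Gen.v_eq_exp P hX0).le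
      simp only [nsmul_eq_mul, Nat.cast_ofNat] at h3
      congr 1
      omega
    have hδyP : P.1 (δ y) = 1 := by
      rw [hδy, Valuation.map_add_eq_of_lt_right, Gen.v_algebraMap P hd₁]
      rw [Gen.v_algebraMap P hd₁]
      have e1 : c₃ • (3 * X ^ 2) + d₂ • (2 * X) =
          X * ((c₃ * 3) • X + algebraMap k K (d₂ * 2)) := by
        simp only [Algebra.smul_def, map_mul, map_ofNat]; ring
      rw [e1, map_mul]
      have h2 : P.1 ((c₃ * 3) • X + algebraMap k K (d₂ * 2)) ≤ 1 :=
        (Subalgebra.add_mem (aff (k := k) O) (Subalgebra.smul_mem _ hXA _)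
            (Subalgebra.algebraMap_mem _ _)) P hPO
      calc P.1 X * _ ≤ P.1 X * 1 := mul_le_mul_right h2 _
        _ < 1 := by rw [mul_one]; exact hxx
    refine ⟨φ, y, hφ, ?_, ?_⟩
    · rw [hδyP]; exact one_ne_zero
    · rw [hδyP]
      exact K667.DiffOrd.v_D_uniformizer (by rw [hφ.1, hyP])
  · -- `y` is a unit at `P`
    have hyP : P.1 y = 1 := by
      have e1 : y = (y - algebraMap k K y₀) + algebraMap k K y₀ := by ring
      rw [e1, Valuation.map_add_eq_of_lt_right, Gen.v_algebraMap P hy₀0]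
      rw [Gen.v_algebraMap P hy₀0]; exact hyy
    have hXP : P.1 X = WithZero.exp (-1) := by
      by_contra hne
      have hX2 : P.1 X ≤ WithZero.exp (-2) := by
        rw [Gen.v_eq_exp P hX0] at hxx hne ⊢
        rw [← WithZero.exp_zero, WithZero.exp_lt_exp] at hxx
        rw [WithZero.exp_inj] at hne
        rw [WithZero.exp_le_exp]
        omega
      set Y : K := y - algebraMap k K y₀ with hY
      have hYA : Y ∈ aff (k := k) O := Subalgebra.sub_mem _ hyA (Subalgebra.algebraMap_mem _ _)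
      have hYO : O.1 Y = WithZero.exp 3 := by
        rw [hY, Valuation.map_sub_eq_of_lt_left, hyO]
        rw [hyO]
        refine lt_of_le_of_lt (O.2.1 _) ?_
        rw [← WithZero.exp_zero, WithZero.exp_lt_exp]; norm_num
      have e1 : Y * (y + algebraMap k K y₀) = X * (c₃ • X ^ 2 + d₂ • X + algebraMap k K d₁) := by
        have : Y * (y + algebraMap k K y₀) = y ^ 2 - algebraMap k K (y₀ ^ 2) := by
          rw [hY, map_pow]; ring
        rw [this, hW', ← hd₀]; simp only [Algebra.smul_def]; ring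
      have hsum : P.1 (y + algebraMap k K y₀) = 1 := by
        have e2 : y + algebraMap k K y₀ = Y + algebraMap k K (2 * y₀) := by
          rw [hY, map_mul, map_ofNat]; ring
        rw [e2, Valuation.map_add_eq_of_lt_right, Gen.v_algebraMap P (mul_ne_zero two_ne_zero hy₀0)]
        rw [Gen.v_algebraMap P (mul_ne_zero two_ne_zero hy₀0)]; exact hyy
      have hY2 : P.1 Y ≤ WithZero.exp (-2) := by
        have h2 : P.1 (c₃ • X ^ 2 + d₂ • X + algebraMap k K d₁) ≤ 1 := by
          refine (Subalgebra.add_mem (aff (k := k) O) (Subalgebra.add_mem _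
            (Subalgebra.smul_mem _ (Subalgebra.pow_mem _ hXA 2) _) (Subalgebra.smul_mem _ hXA _))
            (Subalgebra.algebraMap_mem _ _)) P hPO
        have h3 := congrArg P.1 e1
        rw [map_mul, hsum, mul_one, map_mul] at h3
        rw [h3]
        calc P.1 X * _ ≤ P.1 X * 1 := mul_le_mul_right h2 _
          _ ≤ WithZero.exp (-2) := by rw [mul_one]; exact hX2
      have hmem : ∀ z : K, z ∈ aff (k := k) O → O.1 z ≤ WithZero.exp 3 → P.1 z ≤ WithZero.exp (-2) →
          z ∈ L (Finsupp.single O (3 : ℤ) - Finsupp.single P (2 : ℤ)) := by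
        classical
        intro z hz h1 h2 R
        rw [Finsupp.sub_apply, Finsupp.single_apply, Finsupp.single_apply]
        by_cases h3 : O = R
        · subst h3
          rw [if_pos rfl, if_neg hPO]; simpa using h1
        · rw [if_neg h3]
          by_cases h4 : P = R
          · subst h4
            rw [if_pos rfl]; simpa using h2
          · rw [if_neg h4]
            simpa using hz R (Ne.symm h3)
      obtain ⟨c, hc⟩ := exists_smul_eq_of_deg_one hK hg
        (D := Finsupp.single O (3 : ℤ) - Finsupp.single P (2 : ℤ))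
        (by rw [Gen.deg_sub_single hK, Gen.deg_single' hK]; norm_num)
        (hmem X hXA (hXO.le.trans (by rw [WithZero.exp_le_exp]; norm_num)) hX2) hX0
        (hmem Y hYA hYO.le hY2)
      have h5 : O.1 Y ≤ WithZero.exp 2 := by
        rw [hc]; exact (v_smul_le O c X).trans hXO.le
      rw [hYO, WithZero.exp_le_exp] at h5
      norm_num at h5
    have hδxP : P.1 (δ x) = 1 := by rw [hδx, v_two, hyP]
    refine ⟨φ, x, hφ, ?_, ?_⟩
    · rw [hδxP]; exact one_ne_zero
    · rw [hδxP, ← hDX]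
      exact K667.DiffOrd.v_D_uniformizer (by rw [hφ.1, hXP])

end K670.Deriv
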