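import Groth.Agent.FunFld.K670.Base
import Mathlib.FieldTheory.IsAlgClosed.Basic
import Mathlib.LinearAlgebra.FiniteDimensional.Lemmas
import Mathlib.Algebra.BigOperators.Intervals
import Mathlib.Tactic

/-! Generic facts on divisors, `L(D)`, and vanishing spaces `V ⊓ L(D - nP)` for function fields of
one variable over an algebraically closed field. -/

set_option autoImplicit false
set_option linter.style.haveILetI false
set_option linter.unusedVariables false
set_option linter.unusedSectionVars false

namespace K670.Gen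
open FunFld

variable {k K : Type*} [Field k] [Field K] [Algebra k K]

/-! ### degrees -/

theorem deg_zero : (0 : Divisor k K).deg = 0 := by simp [Divisor.deg]

theorem deg_add (D E : Divisor k K) : (D + E).deg = D.deg + E.deg := by
  unfold Divisor.deg
  exact Finsupp.sum_add_index' (by simp) (by intros; ring)

theorem deg_neg (D : Divisor k K) : (-D).deg = -D.deg := by
  have h := deg_add D (-D)
  rw [add_neg_cancel, deg_zero] at h
  linarith

theorem deg_sub (D E : Divisor k K) : (D - E).deg = D.deg - E.deg := by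
  rw [sub_eq_add_neg, deg_add, deg_neg]; ring

theorem deg_single (P : Place k K) (n : ℤ) :
    Divisor.deg (Finsupp.single P n : Divisor k K) = n * P.deg := by
  unfold Divisor.deg
  rw [Finsupp.sum_single_index]; simp

theorem deg_nonneg {D : Divisor k K} (h : 0 ≤ D) : 0 ≤ D.deg := by
  unfold Divisor.deg Finsupp.sum
  refine Finset.sum_nonneg fun P _ => mul_nonneg ?_ (Int.natCast_nonneg _)
  simpa using h P

theorem deg_mono {D E : Divisor k K} (h : D ≤ E) : D.deg ≤ E.deg := by
  have h1 : 0 ≤ E - D := sub_nonneg.mpr h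
  have := deg_nonneg h1
  rw [deg_sub] at this
  linarith

section ordlemmas

variable (P : Place k K)

theorem v_ne_zero {x : K} (hx : x ≠ 0) : P.1 x ≠ 0 := (Valuation.ne_zero_iff _).mpr hx

theorem v_eq_exp {x : K} (hx : x ≠ 0) : P.1 x = WithZero.exp (-(P.ord x)) := by
  unfold Place.ord
  rw [neg_neg, WithZero.exp_log (v_ne_zero P hx)]

theorem v_le_exp_iff {x : K} (hx : x ≠ 0) (n : ℤ) : P.1 x ≤ WithZero.exp n ↔ -n ≤ P.ord x := by
  rw [v_eq_exp P hx, WithZero.exp_le_exp]; constructor <;> intro h <;> linarith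

theorem ord_mul {x y : K} (hx : x ≠ 0) (hy : y ≠ 0) : P.ord (x * y) = P.ord x + P.ord y := by
  unfold Place.ord
  rw [map_mul, WithZero.log_mul (v_ne_zero P hx) (v_ne_zero P hy)]; ring

theorem ord_one : P.ord (1 : K) = 0 := by simp [Place.ord]

theorem ord_zero : P.ord (0 : K) = 0 := by simp [Place.ord]

theorem ord_inv {x : K} (hx : x ≠ 0) : P.ord x⁻¹ = - P.ord x := by
  have h := ord_mul P hx (inv_ne_zero hx)
  rw [mul_inv_cancel₀ hx, ord_one] at h
  linarith

theorem ord_div {x y : K} (hx : x ≠ 0) (hy : y ≠ 0) : P.ord (x / y) = P.ord x - P.ord y := by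
  rw [div_eq_mul_inv, ord_mul P hx (inv_ne_zero hy), ord_inv P hy]; ring

theorem ord_pow {x : K} (hx : x ≠ 0) (n : ℕ) : P.ord (x ^ n) = n * P.ord x := by
  induction n with
  | zero => simp [ord_one]
  | succ n ih => rw [pow_succ, ord_mul P (pow_ne_zero n hx) hx, ih]; push_cast; ring

theorem ord_zpow {x : K} (hx : x ≠ 0) (n : ℤ) : P.ord (x ^ n) = n * P.ord x := by
  rcases Int.eq_nat_or_neg n with ⟨m, rfl | rfl⟩
  · rw [zpow_natCast, ord_pow P hx]
  · rw [zpow_neg, zpow_natCast, ord_inv P (pow_ne_zero m hx), ord_pow P hx]; ring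

theorem v_algebraMap {c : k} (hc : c ≠ 0) : P.1 (algebraMap k K c) = 1 := by
  apply le_antisymm (P.2.1 c)
  have h1 := P.2.1 c⁻¹
  have h2 : P.1 (algebraMap k K c) * P.1 (algebraMap k K c⁻¹) = 1 := by
    rw [← map_mul, ← map_mul, mul_inv_cancel₀ hc, map_one, map_one]
  calc (1 : WithZero (Multiplicative ℤ)) = P.1 (algebraMap k K c) * P.1 (algebraMap k K c⁻¹) := h2.symm
    _ ≤ P.1 (algebraMap k K c) * 1 := mul_le_mul_right h1 _
    _ = _ := mul_one _

theorem ord_algebraMap (c : k) : P.ord (algebraMap k K c) = 0 := by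
  rcases eq_or_ne c 0 with rfl | hc
  · simp [Place.ord]
  · simp [Place.ord, v_algebraMap P hc]

theorem ord_smul {c : k} (hc : c ≠ 0) (x : K) : P.ord (c • x) = P.ord x := by
  rcases eq_or_ne x 0 with rfl | hx
  · simp
  · rw [Algebra.smul_def, ord_mul P (by simpa using hc) hx, ord_algebraMap, zero_add]

theorem ord_add_ge {x y : K} (hx : x ≠ 0) (hy : y ≠ 0) (hxy : x + y ≠ 0) {n : ℤ}
    (h1 : n ≤ P.ord x) (h2 : n ≤ P.ord y) : n ≤ P.ord (x + y) := by
  have h := P.1.map_add x y
  have h3 := (v_le_exp_iff P hx (-n)).mpr (by simpa using h1)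
  have h4 := (v_le_exp_iff P hy (-n)).mpr (by simpa using h2)
  have := (v_le_exp_iff P hxy (-n)).mp (h.trans (max_le h3 h4))
  simpa using this

theorem exists_ord_eq_one : ∃ t : K, t ≠ 0 ∧ P.ord t = 1 := by
  obtain ⟨t, ht⟩ := P.2.2 (WithZero.exp (-1))
  refine ⟨t, ?_, ?_⟩
  · rintro rfl
    rw [map_zero] at ht
    exact WithZero.exp_ne_zero ht.symm
  · unfold Place.ord; rw [ht]; simp

end ordlemmas

/-! ### `L(D)` -/

theorem mem_L {D : Divisor k K} {x : K} : x ∈ L D ↔ ∀ P : Place k K, P.1 x ≤ WithZero.exp (D P) :=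
  Iff.rfl

theorem mem_L_iff_ord {D : Divisor k K} {x : K} (hx : x ≠ 0) :
    x ∈ L D ↔ ∀ P : Place k K, 0 ≤ P.ord x + D P := by
  rw [mem_L]
  refine forall_congr' fun P => ?_
  rw [v_le_exp_iff P hx]
  constructor <;> intro h <;> linarith

theorem L_mono {D E : Divisor k K} (h : D ≤ E) : L D ≤ L E := fun x hx P =>
  (hx P).trans (WithZero.exp_le_exp.mpr (h P))

theorem L_inf_L (D E : Divisor k K) : L D ⊓ L E = L (D ⊓ E) := by
  ext x
  simp only [Submodule.mem_inf, mem_L]
  constructor
  · rintro ⟨h1, h2⟩ P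
    rw [Finsupp.inf_apply]
    rcases le_total (D P) (E P) with h | h
    · rw [inf_eq_left.mpr h]; exact h1 P
    · rw [inf_eq_right.mpr h]; exact h2 P
  · intro h
    exact ⟨fun P => (h P).trans (WithZero.exp_le_exp.mpr (by rw [Finsupp.inf_apply]; exact inf_le_left)),
      fun P => (h P).trans (WithZero.exp_le_exp.mpr (by rw [Finsupp.inf_apply]; exact inf_le_right))⟩

section FF

variable (hK : IsFunctionField k K)
include hK

theorem div_apply (x : K) (P : Place k K) : FunFld.div k x P = P.ord x := by
  classical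
  unfold FunFld.div
  rw [dif_pos (Base.finite_support_ord hK x)]
  rfl

theorem mem_L_iff_div {D : Divisor k K} {x : K} (hx : x ≠ 0) :
    x ∈ L D ↔ 0 ≤ FunFld.div k x + D := by
  rw [mem_L_iff_ord hx, Finsupp.le_def]
  refine forall_congr' fun P => ?_
  rw [Finsupp.add_apply, div_apply hK, Finsupp.zero_apply]

theorem div_one : FunFld.div k (1 : K) = 0 := by
  ext P; rw [div_apply hK, ord_one, Finsupp.zero_apply]

theorem div_mul {x y : K} (hx : x ≠ 0) (hy : y ≠ 0) :
    FunFld.div k (x * y) = FunFld.div k x + FunFld.div k y := by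
  ext P; rw [Finsupp.add_apply, div_apply hK, div_apply hK, div_apply hK, ord_mul P hx hy]

theorem div_inv {x : K} (hx : x ≠ 0) : FunFld.div k (x⁻¹) = - FunFld.div k x := by
  ext P; rw [Finsupp.neg_apply, div_apply hK, div_apply hK, ord_inv P hx]

theorem div_div {x y : K} (hx : x ≠ 0) (hy : y ≠ 0) :
    FunFld.div k (x / y) = FunFld.div k x - FunFld.div k y := by
  ext P; rw [Finsupp.sub_apply, div_apply hK, div_apply hK, div_apply hK, ord_div P hx hy]

theorem div_zpow {x : K} (hx : x ≠ 0) (n : ℤ) : FunFld.div k (x ^ n) = n • FunFld.div k x := by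
  ext P; rw [Finsupp.smul_apply, div_apply hK, div_apply hK, ord_zpow P hx, smul_eq_mul]

/-- The members of `L(D)` for a divisor of degree `0` have divisor exactly `-D`. -/
theorem div_eq_neg_of_mem_L_of_deg_zero {D : Divisor k K} {x : K} (hx : x ≠ 0) (h : x ∈ L D)
    (hD : D.deg = 0) (hpos : ∀ P : Place k K, 0 < P.deg) : FunFld.div k x = -D := by
  classical
  rw [mem_L_iff_div hK hx] at h
  have h1 : (FunFld.div k x + D).deg = 0 := by rw [deg_add, Base.deg_div hK, hD, add_zero]
  have h2 : FunFld.div k x + D = 0 := by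
    ext P
    by_contra hne
    have hPpos : 0 < (FunFld.div k x + D) P := lt_of_le_of_ne (by simpa using h P) (Ne.symm hne)
    have : Finsupp.single P ((FunFld.div k x + D) P) ≤ FunFld.div k x + D := by
      rw [Finsupp.le_def]
      intro Q
      by_cases hQ : Q = P
      · subst hQ; simp
      · rw [Finsupp.single_apply, if_neg (fun hh => hQ hh.symm)]; simpa using h Q
    have h3 := deg_mono this
    rw [deg_single, h1] at h3
    have : 0 < (FunFld.div k x + D) P * (P.deg : ℤ) := mul_pos hPpos (by exact_mod_cast hpos P)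
    linarith
  rw [eq_neg_iff_add_eq_zero, h2]

/-- Linearly equivalent divisors have spaces `L` of the same dimension. -/
theorem finrank_L_add_div (D : Divisor k K) {x : K} (hx : x ≠ 0) :
    Module.finrank k ↥(L (D + FunFld.div k x)) = Module.finrank k ↥(L D) := by
  -- multiplication by `x` is an isomorphism `L (D + div x) ≃ L D`
  have hmem : ∀ y : K, y ∈ L (D + FunFld.div k x) ↔ x * y ∈ L D := by
    intro y
    rcases eq_or_ne y 0 with rfl | hy
    · simp
    · rw [mem_L_iff_ord hy, mem_L_iff_ord (mul_ne_zero hx hy)]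
      refine forall_congr' fun P => ?_
      rw [Finsupp.add_apply, div_apply hK, ord_mul P hx hy]
      constructor <;> intro h <;> linarith
  let e : K ≃ₗ[k] K :=
    { toFun := fun y => x * y
      map_add' := fun a b => mul_add x a b
      map_smul' := fun c a => by simp
      invFun := fun y => x⁻¹ * y
      left_inv := fun y => by field_simp
      right_inv := fun y => by field_simp }
  have hmap : Submodule.map (e : K →ₗ[k] K) (L (D + FunFld.div k x)) = L D := by
    ext y
    rw [Submodule.mem_map]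
    constructor
    · rintro ⟨z, hz, rfl⟩
      exact (hmem z).mp hz
    · intro hy
      refine ⟨x⁻¹ * y, (hmem _).mpr ?_, ?_⟩
      · rw [← mul_assoc, mul_inv_cancel₀ hx, one_mul]; exact hy
      · show x * (x⁻¹ * y) = y
        rw [← mul_assoc, mul_inv_cancel₀ hx, one_mul]
  rw [← hmap]
  exact (LinearEquiv.finrank_eq (e.submoduleMap (L (D + FunFld.div k x))))

theorem finrank_L_of_equiv {D E : Divisor k K} {x : K} (hx : x ≠ 0) (h : E = D + FunFld.div k x) :
    Module.finrank k ↥(L E) = Module.finrank k ↥(L D) := by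
  rw [h]; exact finrank_L_add_div hK D hx

/-! ### dimension bounds -/

theorem finrank_L_zero : Module.finrank k ↥(L (0 : Divisor k K)) = 1 := by
  rw [Base.L_zero hK, Submodule.one_eq_span]
  exact finrank_span_singleton (by simp)

/-- The drop of dimension from `V ⊓ L E` to `V ⊓ L E'` is at most `deg E - deg E'`. -/
theorem finrank_inf_L_le (V : Submodule k K) {E E' : Divisor k K} (h : E' ≤ E) :
    (Module.finrank k ↥(V ⊓ L E) : ℤ) ≤ Module.finrank k ↥(V ⊓ L E') + (E.deg - E'.deg) := by
  haveI := Base.finiteDimensional_L hK E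
  haveI := Base.finiteDimensional_L hK E'
  haveI : FiniteDimensional k ↥(V ⊓ L E) := Submodule.finiteDimensional_of_le inf_le_right
  haveI : FiniteDimensional k ↥(V ⊓ L E') := Submodule.finiteDimensional_of_le inf_le_right
  have h1 := Submodule.finrank_sup_add_finrank_inf_eq (V ⊓ L E) (L E')
  have h2 : (V ⊓ L E) ⊓ L E' = V ⊓ L E' := by
    rw [inf_assoc, inf_eq_right.mpr (L_mono h)]
  have h3 : (V ⊓ L E) ⊔ L E' ≤ L E := sup_le inf_le_right (L_mono h)
  have h4 := Submodule.finrank_mono h3
  have h5 := Base.ell_sub_ell_le hK E' E h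
  unfold ell at h5
  rw [h2] at h1
  have h1' : (Module.finrank k ↥(V ⊓ L E ⊔ L E') : ℤ) + Module.finrank k ↥(V ⊓ L E') =
      Module.finrank k ↥(V ⊓ L E) + Module.finrank k ↥(L E') := by exact_mod_cast h1
  have h4' : (Module.finrank k ↥(V ⊓ L E ⊔ L E') : ℤ) ≤ Module.finrank k ↥(L E) := by
    exact_mod_cast h4
  linarith

omit hK in
/-- Two subspaces of `V`. -/
theorem finrank_add_le_inf {A B V : Submodule k K} [FiniteDimensional k ↥V] (hA : A ≤ V)
    (hB : B ≤ V) : Module.finrank k ↥A + Module.finrank k ↥B ≤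
      Module.finrank k ↥V + Module.finrank k ↥(A ⊓ B) := by
  haveI : FiniteDimensional k ↥A := Submodule.finiteDimensional_of_le hA
  haveI : FiniteDimensional k ↥B := Submodule.finiteDimensional_of_le hB
  have h1 := Submodule.finrank_sup_add_finrank_inf_eq A B
  have h2 : Module.finrank k ↥(A ⊔ B) ≤ Module.finrank k ↥V := Submodule.finrank_mono (sup_le hA hB)
  omega

theorem finiteDimensional_inf (V : Submodule k K) (E : Divisor k K) :
    FiniteDimensional k ↥(V ⊓ L E) := by
  haveI := Base.finiteDimensional_L hK E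
  exact Submodule.finiteDimensional_of_le inf_le_right

theorem finrank_inf_mono (V : Submodule k K) {E E' : Divisor k K} (h : E' ≤ E) :
    Module.finrank k ↥(V ⊓ L E') ≤ Module.finrank k ↥(V ⊓ L E) := by
  haveI := finiteDimensional_inf hK V E
  exact Submodule.finrank_mono (inf_le_inf_left V (L_mono h))

theorem finrank_L_mono {E E' : Divisor k K} (h : E' ≤ E) :
    Module.finrank k ↥(L E') ≤ Module.finrank k ↥(L E) := by
  haveI := Base.finiteDimensional_L hK E
  exact Submodule.finrank_mono (L_mono h)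

theorem finrank_inf_eq_zero_of_deg_neg (V : Submodule k K) {E : Divisor k K} (h : E.deg < 0) :
    Module.finrank k ↥(V ⊓ L E) = 0 := by
  rw [Base.L_eq_bot_of_deg_neg hK E h, inf_bot_eq]
  exact finrank_bot k K

end FF

section AC

variable [IsAlgClosed k] (hK : IsFunctionField k K)
include hK

theorem place_deg (P : Place k K) : P.deg = 1 := by
  have h := Base.finiteDimensional_residueField hK P
  unfold Place.deg
  letI hh : Algebra k (IsLocalRing.ResidueField P.O) := IsLocalRing.ResidueField.algebra P.O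
  have h' : @Module.Finite k (IsLocalRing.ResidueField P.O) _ _ hh.toModule := h
  have : Algebra.IsIntegral k (IsLocalRing.ResidueField P.O) :=
    @Algebra.IsIntegral.of_finite k (IsLocalRing.ResidueField P.O) _ _ hh h'
  have hb : Function.Bijective (algebraMap k (IsLocalRing.ResidueField P.O)) :=
    IsAlgClosed.algebraMap_bijective_of_isIntegral
  have e := AlgEquiv.ofBijective (Algebra.ofId k (IsLocalRing.ResidueField P.O)) hb
  have h2 := e.toLinearEquiv.finrank_eq
  have h3 : Module.finrank k k = 1 := Module.finrank_self k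
  exact h2.symm.trans h3

theorem deg_single' (P : Place k K) (n : ℤ) :
    Divisor.deg (Finsupp.single P n : Divisor k K) = n := by
  rw [deg_single, place_deg hK]; simp

theorem deg_eq_sum (D : Divisor k K) : D.deg = D.sum fun _ n => n := by
  unfold Divisor.deg
  refine Finsupp.sum_congr fun P _ => ?_
  rw [place_deg hK]; simp

theorem deg_sub_single (D : Divisor k K) (P : Place k K) (n : ℤ) :
    (D - Finsupp.single P n).deg = D.deg - n := by
  rw [deg_sub, deg_single' hK]

theorem div_eq_neg_of_mem_L {D : Divisor k K} {x : K} (hx : x ≠ 0) (h : x ∈ L D)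
    (hD : D.deg = 0) : FunFld.div k x = -D :=
  div_eq_neg_of_mem_L_of_deg_zero hK hx h hD fun P => by rw [place_deg hK P]; exact one_pos

end AC

end K670.Gen
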