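import Groth.Agent.FunFld.K670.Van

/-! Values at a place, small degrees, genus zero. -/

set_option autoImplicit false
set_option linter.style.haveILetI false
set_option linter.unusedVariables false
set_option linter.unusedSectionVars false

namespace K670.Gen
open FunFld

variable {k K : Type*} [Field k] [Field K] [Algebra k K]

section AC

variable [IsAlgClosed k] (hK : IsFunctionField k K)
include hK

/-- Over an algebraically closed constant field every integral element has a value in `k`. -/
theorem exists_const_sub_lt_one (Q : Place k K) {x : K} (hx : Q.1 x ≤ 1) :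
    ∃ c : k, Q.1 (x - algebraMap k K c) < 1 := by
  have h := Base.finiteDimensional_residueField hK Q
  letI hh : Algebra k (IsLocalRing.ResidueField Q.O) := IsLocalRing.ResidueField.algebra Q.O
  have h' : @Module.Finite k (IsLocalRing.ResidueField Q.O) _ _ hh.toModule := h
  have : Algebra.IsIntegral k (IsLocalRing.ResidueField Q.O) :=
    @Algebra.IsIntegral.of_finite k (IsLocalRing.ResidueField Q.O) _ _ hh h'
  have hb : Function.Bijective (algebraMap k (IsLocalRing.ResidueField Q.O)) :=
    IsAlgClosed.algebraMap_bijective_of_isIntegral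
  let x' : Q.O := ⟨x, (Valuation.mem_valuationSubring_iff Q.1 x).mpr hx⟩
  obtain ⟨c, hc⟩ := hb.2 (IsLocalRing.residue Q.O x')
  refine ⟨c, ?_⟩
  have h1 : IsLocalRing.residue Q.O (x' - algebraMap k Q.O c) = 0 := by
    rw [map_sub, sub_eq_zero, ← hc]; rfl
  rw [IsLocalRing.residue_eq_zero_iff, IsLocalRing.mem_maximalIdeal, mem_nonunits_iff] at h1
  set y : Q.O := x' - algebraMap k Q.O c with hy
  have hyval : (y : K) = x - algebraMap k K c := rfl
  rw [← hyval]
  by_contra hcon
  push Not at hcon
  have hy1 : Q.1 (y : K) = 1 := le_antisymm ((Valuation.mem_valuationSubring_iff Q.1 _).mp y.2) hcon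
  have hy0 : (y : K) ≠ 0 := by
    intro h0; rw [h0, map_zero] at hy1; exact zero_ne_one hy1
  apply h1
  have hinv : Q.1 ((y : K)⁻¹) ≤ 1 := by rw [map_inv₀, hy1, inv_one]
  let z : Q.O := ⟨(y : K)⁻¹, (Valuation.mem_valuationSubring_iff Q.1 _).mpr hinv⟩
  refine IsUnit.of_mul_eq_one z ?_
  apply Subtype.ext
  show (y : K) * (y : K)⁻¹ = 1
  exact mul_inv_cancel₀ hy0

theorem eq_zero_of_nonneg_of_deg_zero {D : Divisor k K} (h : 0 ≤ D) (hd : D.deg = 0) : D = 0 := by
  classical
  ext P
  by_contra hne
  have hPpos : 0 < D P := lt_of_le_of_ne (by simpa using h P) (Ne.symm hne)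
  have : Finsupp.single P (D P) ≤ D := by
    rw [Finsupp.le_def]
    intro Q
    by_cases hQ : Q = P
    · subst hQ; simp
    · rw [Finsupp.single_apply, if_neg (fun hh => hQ hh.symm)]; simpa using h Q
  have h3 := deg_mono this
  rw [deg_single' hK, hd] at h3
  linarith

theorem exists_sub_single_nonneg {D : Divisor k K} (h : 0 ≤ D) (hd : 0 < D.deg) :
    ∃ P : Place k K, 0 ≤ D - Finsupp.single P 1 := by
  classical
  have hne : D ≠ 0 := by rintro rfl; rw [deg_zero] at hd; exact lt_irrefl _ hd
  obtain ⟨P, hP⟩ : ∃ P, D P ≠ 0 := by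
    by_contra hcon
    push Not at hcon
    exact hne (Finsupp.ext hcon)
  refine ⟨P, ?_⟩
  rw [Finsupp.le_def]
  intro Q
  rw [Finsupp.sub_apply, Finsupp.zero_apply]
  by_cases hQ : P = Q
  · subst hQ
    rw [Finsupp.single_eq_same]
    have := h P
    rw [Finsupp.zero_apply] at this
    omega
  · rw [Finsupp.single_apply, if_neg hQ]; simpa using h Q

theorem eq_single_of_nonneg_of_deg_one {D : Divisor k K} (h : 0 ≤ D) (hd : D.deg = 1) :
    ∃ P : Place k K, D = Finsupp.single P 1 := by
  obtain ⟨P, hP⟩ := exists_sub_single_nonneg hK h (by rw [hd]; exact one_pos)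
  refine ⟨P, ?_⟩
  have := eq_zero_of_nonneg_of_deg_zero hK hP (by rw [deg_sub_single hK, hd]; norm_num)
  exact sub_eq_zero.mp this

/-- A nonzero space `L(D)` of a divisor of degree `0`. -/
theorem exists_div_eq_neg_of_finrank_pos {E : Divisor k K} (hdeg : E.deg = 0)
    (h : 1 ≤ Module.finrank k ↥(L E)) : ∃ x : K, x ≠ 0 ∧ FunFld.div k x = -E := by
  have hne : L E ≠ ⊥ := by
    intro h0
    rw [h0, finrank_bot] at h
    omega
  obtain ⟨f, hf, hf0⟩ := Submodule.exists_mem_ne_zero_of_ne_bot hne
  exact ⟨f, hf0, div_eq_neg_of_mem_L hK hf0 hf hdeg⟩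

/-- In positive genus a divisor of degree one has at most one section up to scalar. -/
theorem finrank_L_le_one_of_deg_one (hg : 0 < genus k K) {E : Divisor k K} (hE : E.deg = 1) :
    Module.finrank k ↥(L E) ≤ 1 := by
  classical
  by_contra hcon
  push Not at hcon
  haveI := Base.finiteDimensional_L hK E
  have hne : L E ≠ ⊥ := by
    intro h0
    rw [h0, finrank_bot] at hcon
    omega
  -- two distinct places
  obtain ⟨t, ht, -⟩ := hK.1
  have hK' := hK
  have htr : t ∉ Set.range (algebraMap k K) := by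
    rintro ⟨c, rfl⟩
    exact ht (isAlgebraic_algebraMap c)
  obtain ⟨⟨P, hP⟩, ⟨P', hP'⟩⟩ := Base.exists_zero_and_exists_pole hK' t htr
  have hPP : P ≠ P' := by rintro rfl; linarith
  have key : ∀ R : Place k K, ∃ x : K, x ≠ 0 ∧ FunFld.div k x = Finsupp.single R 1 - E := by
    intro R
    have h1 := finrank_inf_L_le hK' ⊤ (E := E) (E' := E - Finsupp.single R 1) (by
      have h := Van.sub_single_le (D := E) (P := R) (n := 0) (m := 1) (by norm_num)
      simpa using h)
    rw [top_inf_eq, top_inf_eq, deg_sub_single hK'] at h1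
    obtain ⟨x, hx0, hx⟩ := exists_div_eq_neg_of_finrank_pos hK' (E := E - Finsupp.single R 1)
      (by rw [deg_sub_single hK', hE]; norm_num) (by omega)
    exact ⟨x, hx0, by rw [hx, neg_sub]⟩
  obtain ⟨x, hx0, hx⟩ := key P
  obtain ⟨y, hy0, hy⟩ := key P'
  refine hPP (Base.eq_of_single_sub_single_eq_div hK' hg P P' (place_deg hK' P) (place_deg hK' P')
    (x / y) (div_ne_zero hx0 hy0) ?_)
  rw [div_div hK' hx0 hy0, hx, hy]; abel

/-- In genus zero any two places are linearly equivalent. -/
theorem exists_div_eq_of_genus_zero (hg : genus k K = 0) (P P' : Place k K) :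
    ∃ x : K, x ≠ 0 ∧ FunFld.div k x = Finsupp.single P 1 - Finsupp.single P' 1 := by
  set E : Divisor k K := Finsupp.single P' 1 - Finsupp.single P 1 with hE
  have hdeg : E.deg = 0 := by
    rw [hE, deg_sub, deg_single' hK, deg_single' hK]; norm_num
  have h1 := Base.ell_eq_of_deg_ge hK E (by rw [hg, hdeg]; norm_num)
  rw [hg, hdeg] at h1
  have hne : L E ≠ ⊥ := by
    intro h0
    unfold ell at h1
    rw [h0, finrank_bot] at h1
    norm_num at h1
  obtain ⟨f, hf, hf0⟩ := Submodule.exists_mem_ne_zero_of_ne_bot hne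
  refine ⟨f, hf0, ?_⟩
  rw [div_eq_neg_of_mem_L hK hf0 hf hdeg, hE, neg_sub]

/-- If `ℓ(D) ≤ 1` then an effective divisor `D` is the only effective divisor equivalent to it. -/
theorem eq_of_effective_equiv {D E : Divisor k K} (hD : 0 ≤ D) (hE : 0 ≤ E)
    (hell : Module.finrank k ↥(L D) ≤ 1) {x : K} (hx0 : x ≠ 0) (hx : E + FunFld.div k x = D) :
    D = E := by
  classical
  haveI := Base.finiteDimensional_L hK D
  -- `x⁻¹ ∈ L D`
  have h1 : x⁻¹ ∈ L D := by
    rw [mem_L_iff_div hK (inv_ne_zero hx0), div_inv hK hx0, ← hx]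
    have : -FunFld.div k x + (E + FunFld.div k x) = E := by abel
    rw [this]; exact hE
  have h2 : (1 : K) ∈ L D := by
    rw [mem_L_iff_div hK one_ne_zero, div_one hK, zero_add]; exact hD
  -- so `x` is a constant
  obtain ⟨c, hc⟩ : ∃ c : k, c • (1 : K) = x⁻¹ := by
    by_contra hcon
    push Not at hcon
    have hind : LinearIndependent k ![(1 : K), x⁻¹] := by
      rw [LinearIndependent.pair_iff' one_ne_zero]
      exact hcon
    have hW : Module.finrank k ↥(Submodule.span k (Set.range ![(1 : K), x⁻¹])) = 2 := by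
      rw [finrank_span_eq_card hind]; rfl
    have hWV : Submodule.span k (Set.range ![(1 : K), x⁻¹]) ≤ L D := by
      rw [Submodule.span_le]
      rintro z ⟨i, rfl⟩
      fin_cases i
      · exact h2
      · exact h1
    have := Submodule.finrank_mono hWV
    omega
  have hdivx : FunFld.div k x = 0 := by
    have h3 : FunFld.div k (x⁻¹) = 0 := by
      ext P
      rw [div_apply hK, ← hc, ← Algebra.algebraMap_eq_smul_one, ord_algebraMap, Finsupp.zero_apply]
    rw [div_inv hK hx0, neg_eq_zero] at h3
    exact h3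
  rw [← hx, hdivx, add_zero]

/-- A point outside an effective divisor is not a base point. -/
theorem finrank_L_sub_single_lt {D : Divisor k K} (hD : 0 ≤ D) {B : Place k K} (hB : D B = 0) :
    Module.finrank k ↥(L (D - Finsupp.single B 1)) < Module.finrank k ↥(L D) := by
  haveI := Base.finiteDimensional_L hK D
  apply Submodule.finrank_lt_finrank_of_lt
  refine lt_of_le_of_ne (L_mono ?_) ?_
  · have h := Van.sub_single_le (D := D) (P := B) (n := 0) (m := 1) (by norm_num)
    simpa using h
  · intro heq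
    have h1 : (1 : K) ∈ L D := by
      rw [mem_L_iff_div hK one_ne_zero, div_one hK, zero_add]; exact hD
    rw [← heq, mem_L_iff_ord one_ne_zero] at h1
    have h2 := h1 B
    rw [ord_one, Finsupp.sub_apply, hB, Finsupp.single_eq_same] at h2
    norm_num at h2

/-- Genus two: a divisor of degree two moving in a pencil is canonical. -/
theorem genus_two_equiv (hg : genus k K = 2) {C : Divisor k K} (hC : IsCanonical k K C)
    {D : Divisor k K} (hD : D.deg = 2) (h : 2 ≤ Module.finrank k ↥(L D)) :
    ∃ z : K, z ≠ 0 ∧ FunFld.div k z = D - C := by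
  have hCdeg := ((Base.isCanonical_iff hK C).mp hC).2
  rw [hg] at hCdeg
  have hRR := Base.riemann_roch hK C hC D
  unfold FunFld.ell at hRR
  rw [hD, hg] at hRR
  obtain ⟨z, hz0, hz⟩ := exists_div_eq_neg_of_finrank_pos hK (E := C - D)
    (by rw [deg_sub, hCdeg, hD]; norm_num) (by push_cast at hRR; omega)
  exact ⟨z, hz0, by rw [hz, neg_sub]⟩

end AC

end K670.Gen
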