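import Groth.Agent.FunFld.K662.Inertia
import Groth.Agent.FunFld.K666.DiffEx
import Groth.Agent.FunFld.K667.ResField
import Groth.Agent.FunFld.K660.Sep
import Mathlib.FieldTheory.PrimitiveElement

/-!
# Hilbert's different formula

`K'/K` finite Galois, `Q | P` with ramification index `e`, residue extension separable, expansions at
both places.  There is `y` in `O_Q` (`exists_good`) whose powers approximate `O_Q`, small at the other
places above `P`; then `v_Q(σ y - y)` computes the ramification groups (`G_iff`) and `v_Q(f'(y))`,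
`f = ∏ (X - σ y)`, is the different exponent (`val_deriv`).
-/

set_option autoImplicit false
set_option linter.unusedSectionVars false
open WithZero FunFld K661.Place K661.Galois K662.Galois K662.Unram Polynomial
open scoped Pointwise

namespace K670.HilbertDiff

variable {k K K' : Type*} [Field k] [Field K] [Field K'] [Algebra k K] [Algebra K K']
  [Algebra k K'] [IsScalarTower k K K'] [FiniteDimensional K K'] {Q : Place k K'} {P : Place k K}
  (h : IsOver Q P)

/-- The higher ramification groups. -/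
def G (Q : Place k K') (n : ℤ) (σ : K' ≃ₐ[K] K') : Prop :=
  ∀ z : K', Q.1 z ≤ 1 → Q.1 (σ z - z) ≤ exp (-n)

theorem ev_coe (y : Q.O) (p : (P.O)[X]) :
    ((ev h y p : Q.O) : K') = aeval (y : K') (p.map (algebraMap P.O K)) := by
  rw [ev, coe_eval₂RingHom, aeval_def, eval₂_map]
  change Q.O.subtype (eval₂ _ _ _) = _
  rw [hom_eval₂]
  rfl

theorem val_ev_lt_one_iff (y : Q.O) (p : (P.O)[X]) :
    Q.1 ((ev h y p : Q.O) : K') < 1 ↔
      eval₂ (ιF h) (IsLocalRing.residue Q.O y) (p.map (IsLocalRing.residue P.O)) = 0 := by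
  rw [← residue_ev, IsLocalRing.residue_eq_zero_iff, mem_maximalIdeal_iff]

theorem val_ev_eq_one_iff (y : Q.O) (p : (P.O)[X]) :
    Q.1 ((ev h y p : Q.O) : K') = 1 ↔
      eval₂ (ιF h) (IsLocalRing.residue Q.O y) (p.map (IsLocalRing.residue P.O)) ≠ 0 := by
  have h1 : Q.1 ((ev h y p : Q.O) : K') ≤ 1 := (ev h y p).2
  rw [Ne, ← val_ev_lt_one_iff, not_lt]
  exact ⟨fun h2 => h2.ge, fun h2 => le_antisymm h1 h2⟩

/-- The data of a good generator `y` at `Q`. -/
structure Good (y : Q.O) (g : (P.O)[X]) : Prop where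
  monic : g.Monic
  val_g : Q.1 ((ev h y g : Q.O) : K') = exp (-1 : ℤ)
  val_g' : Q.1 ((ev h y (derivative g) : Q.O) : K') = 1
  val : Q.1 (y : K') = 1
  small : ∀ σ : K' ≃ₐ[K] K', comapEquiv Q σ ≠ Q → Q.1 (σ y) < 1
  approx : ∀ z : Q.O, ∃ p : (P.O)[X], Q.1 ((z - ev h y p : Q.O) : K') < 1
  dvd : ∀ p : (P.O)[X], Q.1 ((ev h y p : Q.O) : K') < 1 →
    g.map (IsLocalRing.residue P.O) ∣ p.map (IsLocalRing.residue P.O)

theorem sub_ev (y y' : Q.O) (p : (P.O)[X]) : y - y' ∣ ev h y p - ev h y' p := by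
  have h1 : ∀ w : Q.O, ev h w p = eval w (p.map (ιO h)) := fun w => by
    rw [ev, coe_eval₂RingHom, eval_map]
  rw [h1, h1]
  exact sub_dvd_eval_sub _ _ _

theorem exp_neg_one_lt : (exp (-1 : ℤ) : ℤᵐ⁰) < 1 := by
  rw [← exp_zero, exp_lt_exp]
  omega

theorem le_of_lt {v : ℤᵐ⁰} {n : ℤ} (h : v < exp n) : v ≤ exp (n - 1) := by
  rcases eq_or_ne v 0 with h0 | h0
  · rw [h0]; exact zero_le
  · rw [← exp_log h0] at h ⊢
    rw [exp_lt_exp] at h
    rw [exp_le_exp]
    omega

theorem log_nonpos {v : ℤᵐ⁰} (h0 : v ≠ 0) (h : v ≤ 1) : log v ≤ 0 := by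
  rw [← exp_log h0, ← exp_zero, exp_le_exp] at h
  exact h

theorem le_of_lt_one {v : ℤᵐ⁰} (h : v < 1) : v ≤ exp (-1) := by
  rw [← exp_zero] at h
  exact le_of_lt h

theorem exists_good (hG : ∃ t : K, K660.Places.IsGen k K t)
    (hsep : letI := (ιF h).toAlgebra
      Algebra.IsSeparable (IsLocalRing.ResidueField P.O) (IsLocalRing.ResidueField Q.O)) :
    ∃ (y : Q.O) (g : (P.O)[X]), Good h y g := by
  classical
  have hG' : ∃ t : K', K660.Places.IsGen k K' t := by
    obtain ⟨t, ht⟩ := hG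
    exact ⟨_, K661.OverFF.isGen_algebraMap ht⟩
  have hfQ := (K660.Compare.finite_residue_and_degG hG' Q).1
  let _ : Algebra (IsLocalRing.ResidueField P.O) (IsLocalRing.ResidueField Q.O) := (ιF h).toAlgebra
  have htower : IsScalarTower k (IsLocalRing.ResidueField P.O) (IsLocalRing.ResidueField Q.O) := by
    refine IsScalarTower.of_algebraMap_eq fun c => ?_
    change IsLocalRing.residue Q.O _ = ιF h (IsLocalRing.residue P.O _)
    rw [ιF_residue]
    congr 1
    refine Subtype.ext ?_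
    rw [ιO_coe]
    exact IsScalarTower.algebraMap_apply k K K' c
  have hfin : FiniteDimensional (IsLocalRing.ResidueField P.O) (IsLocalRing.ResidueField Q.O) :=
    @Module.Finite.of_restrictScalars_finite k _ _ _ _ _ _ _ _ htower _
  -- a nonzero primitive element
  obtain ⟨α, hα0, hα⟩ : ∃ α : IsLocalRing.ResidueField Q.O, α ≠ 0 ∧
      IntermediateField.adjoin (IsLocalRing.ResidueField P.O) {α} = ⊤ := by
    obtain ⟨α, hα⟩ := Field.exists_primitive_element (IsLocalRing.ResidueField P.O)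
      (IsLocalRing.ResidueField Q.O)
    by_cases h0 : α = 0
    · refine ⟨1, one_ne_zero, ?_⟩
      rw [IntermediateField.adjoin_one]
      rw [h0, IntermediateField.adjoin_zero] at hα
      exact hα
    · exact ⟨α, h0, hα⟩
  have hαi : IsIntegral (IsLocalRing.ResidueField P.O) α := Algebra.IsIntegral.isIntegral α
  have hαs := Algebra.IsSeparable.isSeparable (IsLocalRing.ResidueField P.O) α
  obtain ⟨g, hg1, hg2, hg3⟩ := Polynomial.lifts_and_natDegree_eq_and_monic
    (f := IsLocalRing.residue P.O) (p := minpoly (IsLocalRing.ResidueField P.O) α)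
    (by
      rw [Polynomial.lifts_iff_coeff_lifts]
      exact fun n => IsLocalRing.residue_surjective _) (minpoly.monic hαi)
  obtain ⟨y₀, hy₀⟩ := IsLocalRing.residue_surjective α
  -- adjust `y₀` so that `g(y₀)` is a uniformizer
  have hroot : eval₂ (ιF h) α (g.map (IsLocalRing.residue P.O)) = 0 := by
    rw [hg1]; exact minpoly.aeval _ α
  have hderiv : eval₂ (ιF h) α ((derivative g).map (IsLocalRing.residue P.O)) ≠ 0 := by
    rw [← derivative_map, hg1]
    exact hαs.aeval_derivative_ne_zero (minpoly.aeval _ α)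
  obtain ⟨y₁, hy₁, hgy₁⟩ : ∃ y₁ : Q.O, IsLocalRing.residue Q.O y₁ = α ∧
      Q.1 ((ev h y₁ g : Q.O) : K') = exp (-1 : ℤ) := by
    have h1 : Q.1 ((ev h y₀ g : Q.O) : K') < 1 := by rw [val_ev_lt_one_iff, hy₀]; exact hroot
    have h2 : Q.1 ((ev h y₀ g : Q.O) : K') ≤ exp (-1 : ℤ) := le_of_lt_one h1
    rcases h2.lt_or_eq with h3 | h3
    · obtain ⟨π, hπ⟩ := Q.2.2 (exp (-1 : ℤ))
      let π' : Q.O := ⟨π, by rw [K661.Place.mem_O, hπ]; exact exp_neg_one_lt.le⟩
      have hπ' : Q.1 (π' : K') = exp (-1 : ℤ) := hπ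
      refine ⟨y₀ + π', ?_, ?_⟩
      · rw [map_add, hy₀, (IsLocalRing.residue_eq_zero_iff _).2, add_zero]
        rw [mem_maximalIdeal_iff, hπ']
        exact exp_neg_one_lt
      · have h4 : ∀ w : Q.O, ev h w g = eval w (g.map (ιO h)) := fun w => by
          rw [ev, coe_eval₂RingHom, eval_map]
        have h4' : ev h y₀ (derivative g) = eval y₀ (derivative (g.map (ιO h))) := by
          rw [ev, coe_eval₂RingHom, derivative_map, eval_map]
        obtain ⟨c, hc⟩ := Polynomial.binomExpansion (g.map (ιO h)) y₀ π'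
        have h5 : Q.1 ((ev h y₀ (derivative g) : Q.O) : K') = 1 := by
          rw [val_ev_eq_one_iff, hy₀]; exact hderiv
        rw [h4, hc, ← h4, ← h4']
        have h6 : (((ev h y₀ g + ev h y₀ (derivative g) * π' + c * π' ^ 2 : Q.O)) : K') =
            ((ev h y₀ (derivative g) : Q.O) : K') * π' +
              (((ev h y₀ g : Q.O) : K') + (c : K') * (π' : K') ^ 2) := by
          push_cast
          ring
        have h7 : Q.1 (((ev h y₀ (derivative g) : Q.O) : K') * π') = exp (-1 : ℤ) := by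
          rw [map_mul, h5, one_mul, hπ']
        rw [h6, Valuation.map_add_eq_of_lt_left]
        · exact h7
        · rw [h7]
          refine Q.1.map_add_lt h3 ?_
          rw [map_mul, map_pow, hπ']
          refine lt_of_le_of_lt (mul_le_mul_left (α := ℤᵐ⁰) c.2 _) ?_
          rw [one_mul, ← exp_nsmul, exp_lt_exp]
          simp
    · exact ⟨y₀, hy₀, h3⟩
  -- make it small at the other places
  let S : Finset (Place k K') := Finset.univ.image fun σ : K' ≃ₐ[K] K' => comapEquiv Q σ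
  obtain ⟨y, hy⟩ := K664.weak_approx_le S (fun R => if R = Q then (y₁ : K') else 0) (fun _ => 2)
  have hSmem : ∀ σ : K' ≃ₐ[K] K', comapEquiv Q σ ∈ S := fun σ =>
    Finset.mem_image.2 ⟨σ, Finset.mem_univ _, rfl⟩
  have h2lt : (exp (-2 : ℤ) : ℤᵐ⁰) < exp (-1 : ℤ) := by
    rw [exp_lt_exp]
    omega
  have hyQ : Q.1 (y - y₁) ≤ exp (-2 : ℤ) := by
    have h1 := hy Q (hSmem 1)
    rwa [if_pos rfl] at h1
  have hyσ : ∀ σ : K' ≃ₐ[K] K', comapEquiv Q σ ≠ Q → Q.1 (σ y) < 1 := by
    intro σ hσ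
    have h1 := hy _ (hSmem σ)
    rw [if_neg hσ, sub_zero] at h1
    exact h1.trans_lt (h2lt.trans exp_neg_one_lt)
  have hyle : Q.1 y ≤ 1 := by
    have h5 : y = (y - y₁) + y₁ := by ring
    rw [h5]
    exact (Q.1.map_add _ _).trans (max_le (hyQ.trans (h2lt.trans exp_neg_one_lt).le) y₁.2)
  have hres : IsLocalRing.residue Q.O ⟨y, hyle⟩ = α := by
    rw [← hy₁, ← sub_eq_zero, ← map_sub, IsLocalRing.residue_eq_zero_iff, mem_maximalIdeal_iff]
    exact hyQ.trans_lt (h2lt.trans exp_neg_one_lt)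
  refine ⟨⟨y, hyle⟩, g, hg3, ?_, ?_, ?_, hyσ, ?_, ?_⟩
  · obtain ⟨c, hc⟩ := sub_ev h ⟨y, hyle⟩ y₁ g
    have h1 : ((ev h ⟨y, hyle⟩ g : Q.O) : K') = ((ev h y₁ g : Q.O) : K') + (y - y₁) * c := by
      have h2 : ev h ⟨y, hyle⟩ g = ev h y₁ g + (⟨y, hyle⟩ - y₁) * c := by rw [← hc]; ring
      rw [h2]
      rfl
    rw [h1, Valuation.map_add_eq_of_lt_left]
    · exact hgy₁
    · rw [hgy₁, map_mul]
      refine lt_of_le_of_lt (mul_le_mul' hyQ c.2) ?_
      rw [mul_one]
      exact h2lt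
  · rw [val_ev_eq_one_iff, hres]
    exact hderiv
  · have h1 : ¬ Q.1 y < 1 := by
      intro h2
      apply hα0
      rw [← hres, IsLocalRing.residue_eq_zero_iff, mem_maximalIdeal_iff]
      exact h2
    exact le_antisymm hyle (not_lt.1 h1)
  · intro z
    have h1 : IsLocalRing.residue Q.O z ∈ Algebra.adjoin (IsLocalRing.ResidueField P.O) {α} := by
      rw [← IntermediateField.adjoin_simple_toSubalgebra_of_isAlgebraic hαi.isAlgebraic, hα]
      exact Algebra.mem_top
    rw [Algebra.adjoin_singleton_eq_range_aeval] at h1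
    obtain ⟨p, hp⟩ := h1
    obtain ⟨p', hp'⟩ := Polynomial.map_surjective (IsLocalRing.residue P.O)
      IsLocalRing.residue_surjective p
    refine ⟨p', ?_⟩
    rw [← mem_maximalIdeal_iff, ← IsLocalRing.residue_eq_zero_iff, map_sub, residue_ev, hres, hp',
      sub_eq_zero]
    exact hp.symm
  · intro p hp
    rw [val_ev_lt_one_iff, hres] at hp
    rw [hg1]
    exact minpoly.dvd _ _ hp

section

variable {h} {y : Q.O} {g : (P.O)[X]} (hy : Good h y g)
include hy

/-- Polynomials in `y` over `O_P` approximate every element of `O_Q`. -/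
theorem Good.exists_approx (n : ℕ) (z : Q.O) :
    ∃ p : (P.O)[X], Q.1 ((z - ev h y p : Q.O) : K') ≤ exp (-(n : ℤ)) := by
  induction n with
  | zero =>
    refine ⟨0, ?_⟩
    rw [map_zero, sub_zero]
    simp only [Nat.cast_zero, neg_zero, exp_zero]
    exact z.2
  | succ n ih =>
    obtain ⟨p, hp⟩ := ih
    have hg0 : ((ev h y g : Q.O) : K') ≠ 0 := by
      intro h0
      have h1 := hy.val_g
      rw [h0, map_zero] at h1
      exact exp_ne_zero h1.symm
    have hgn : Q.1 (((ev h y g : Q.O) : K') ^ n) = exp (-(n : ℤ)) := by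
      rw [map_pow, hy.val_g, ← exp_nsmul]
      simp
    let w : K' := ((z - ev h y p : Q.O) : K') / ((ev h y g : Q.O) : K') ^ n
    have hw : Q.1 w ≤ 1 := by
      rw [map_div₀, hgn, div_le_iff₀ (by simp), one_mul]
      exact hp
    obtain ⟨q, hq⟩ := hy.approx ⟨w, hw⟩
    refine ⟨p + g ^ n * q, ?_⟩
    have h1 : ((z - ev h y (p + g ^ n * q) : Q.O) : K') =
        ((ev h y g : Q.O) : K') ^ n * ((⟨w, hw⟩ - ev h y q : Q.O) : K') := by
      have h2 : ((z - ev h y p : Q.O) : K') = ((ev h y g : Q.O) : K') ^ n * w := by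
        rw [mul_div_cancel₀ _ (pow_ne_zero _ hg0)]
      rw [map_add, map_mul, map_pow]
      push_cast at h2 ⊢
      rw [mul_sub, ← h2]
      ring
    rw [h1, map_mul, hgn]
    calc exp (-(n : ℤ)) * Q.1 ((⟨w, hw⟩ - ev h y q : Q.O) : K')
        ≤ exp (-(n : ℤ)) * exp (-1) := mul_le_mul' le_rfl (le_of_lt_one hq)
      _ = exp (-((n + 1 : ℕ) : ℤ)) := by
        rw [← exp_add]
        congr 1
        push_cast
        ring

/-- `y` detects the ramification groups. -/
theorem Good.G_iff {n : ℕ} (hn : 1 ≤ n) (σ : K' ≃ₐ[K] K') :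
    G Q n σ ↔ Q.1 (σ y - y) ≤ exp (-(n : ℤ)) := by
  refine ⟨fun h1 => h1 y y.2, fun h1 z hz => ?_⟩
  have hlt : Q.1 (σ y - y) < 1 := by
    refine h1.trans_lt ?_
    rw [← exp_zero, exp_lt_exp]
    omega
  have hσ : comapEquiv Q σ = Q := by
    by_contra hne
    have h2 := hy.small σ hne
    have h3 : Q.1 (σ y - y) = 1 := by
      rw [Valuation.map_sub_swap, Valuation.map_sub_eq_of_lt_left, hy.val]
      rw [hy.val]
      exact h2
    rw [h3] at hlt
    exact lt_irrefl _ hlt
  have hσ' := comapEquiv_eq_iff.1 hσ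
  obtain ⟨p, hp⟩ := hy.exists_approx n ⟨z, hz⟩
  have hσy : Q.1 (σ y) ≤ 1 := by rw [hσ']; exact y.2
  have h2 : σ ((ev h y p : Q.O) : K') = ((ev h ⟨σ y, hσy⟩ p : Q.O) : K') := by
    rw [ev_coe, ev_coe]
    exact (aeval_algHom_apply (σ : K' →ₐ[K] K') (y : K') _).symm
  obtain ⟨c, hc⟩ := sub_ev h ⟨σ y, hσy⟩ y p
  have h3 : σ z - z = σ ((⟨z, hz⟩ - ev h y p : Q.O) : K') - ((⟨z, hz⟩ - ev h y p : Q.O) : K') +
      (σ y - y) * c := by
    have h4 : ((ev h ⟨σ y, hσy⟩ p - ev h y p : Q.O) : K') = (σ y - y) * c := by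
      rw [hc]
      rfl
    rw [← h4]
    push_cast
    rw [map_sub, h2]
    ring
  rw [h3]
  refine (Q.1.map_add _ _).trans (max_le ?_ ?_)
  · refine (Valuation.map_sub _ _ _).trans (max_le ?_ hp)
    rw [hσ']
    exact hp
  · rw [map_mul]
    calc Q.1 (σ y - y) * Q.1 (c : K') ≤ exp (-(n : ℤ)) * 1 := mul_le_mul' h1 c.2
      _ = _ := mul_one _

theorem Good.ne {σ : K' ≃ₐ[K] K'} (hσ : σ ≠ 1) : σ (y : K') ≠ y := by
  intro h1
  apply hσ
  have h2 : ∀ z : K', Q.1 z ≤ 1 → σ z = z := by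
    intro z hz
    by_contra hne
    have h3 : Q.1 (σ z - z) ≠ 0 := (Valuation.ne_zero_iff _).2 (sub_ne_zero.2 hne)
    obtain ⟨n, hn1, hn2⟩ : ∃ n : ℕ, 1 ≤ n ∧ exp (-(n : ℤ)) < Q.1 (σ z - z) := by
      refine ⟨(1 + (log (Q.1 (σ z - z))).natAbs), by omega, ?_⟩
      conv_rhs => rw [← exp_log h3]
      rw [exp_lt_exp]
      omega
    have h4 := (hy.G_iff hn1 σ).2 (by rw [h1, sub_self, map_zero]; exact zero_le) z hz
    exact absurd h4 (not_le.2 hn2)
  refine AlgEquiv.ext fun z => ?_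
  rcases le_total (Q.1 z) 1 with hz | hz
  · exact h2 z hz
  · have h3 : Q.1 z⁻¹ ≤ 1 := by
      rw [map_inv₀]
      exact inv_le_one_of_one_le₀ hz
    have h4 := h2 _ h3
    rw [map_inv₀] at h4
    exact inv_injective h4

theorem Good.exists_m : ∃ m : (K' ≃ₐ[K] K') → ℕ, ∀ σ, σ ≠ 1 → Q.1 (y - σ y) = exp (-(m σ : ℤ)) := by
  have h1 : ∀ σ : K' ≃ₐ[K] K', σ ≠ 1 → ∃ m : ℕ, Q.1 (y - σ y) = exp (-(m : ℤ)) := by
    intro σ hσ
    have h2 : Q.1 (y - σ y) ≠ 0 := (Valuation.ne_zero_iff _).2 (sub_ne_zero.2 (hy.ne hσ).symm)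
    have h3 : Q.1 (y - σ y) ≤ 1 := by
      rw [Valuation.map_sub_swap]
      by_cases h4 : comapEquiv Q σ = Q
      · refine (Valuation.map_sub _ _ _).trans (max_le ?_ y.2)
        rw [comapEquiv_eq_iff.1 h4]
        exact y.2
      · exact (Valuation.map_sub _ _ _).trans (max_le (hy.small σ h4).le y.2)
    refine ⟨(-log (Q.1 (y - σ y))).toNat, ?_⟩
    conv_lhs => rw [← exp_log h2]
    have h5 : log (Q.1 (y - σ y)) ≤ 0 := log_nonpos h2 h3
    congr 1
    omega
  classical
  exact ⟨fun σ => if hσ : σ ≠ 1 then (h1 σ hσ).choose else 0, fun σ hσ => by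
    dsimp only
    rw [dif_pos hσ]
    exact (h1 σ hσ).choose_spec⟩

end

theorem count {Γ : Type*} [Fintype Γ] [DecidableEq Γ] (o : Γ) (m : Γ → ℕ) (R : ℕ → Γ → Prop)
    (hR : ∀ i, 1 ≤ i → ∀ σ, R i σ ↔ σ = o ∨ i ≤ m σ) :
    (Function.support fun i : ℕ => (Nat.card {σ // R i σ} : ℤ) - 1).Finite ∧
      ∑ᶠ i : ℕ, (if 1 ≤ i then (Nat.card {σ // R i σ} : ℤ) - 1 else 0) =
        ∑ σ ∈ Finset.univ.erase o, (m σ : ℤ) := by
  classical
  have hcard : ∀ i, 1 ≤ i → (Nat.card {σ // R i σ} : ℤ) - 1 =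
      ∑ σ ∈ Finset.univ.erase o, if i ≤ m σ then 1 else 0 := by
    intro i hi
    have h1 : Nat.card {σ // R i σ} = (insert o ((Finset.univ.erase o).filter fun σ => i ≤ m σ)).card := by
      rw [Nat.card_eq_fintype_card, Fintype.card_subtype]
      congr 1
      ext σ
      simp only [Finset.mem_filter, Finset.mem_univ, true_and, Finset.mem_insert, Finset.mem_erase,
        and_true, ne_eq, hR i hi]
      tauto
    rw [h1, Finset.card_insert_of_notMem (by simp), Finset.sum_boole]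
    push_cast
    ring
  obtain ⟨N, hN⟩ : ∃ N : ℕ, ∀ σ, m σ < N :=
    ⟨1 + ∑ σ, m σ, fun σ => by
      have := Finset.single_le_sum (f := m) (fun _ _ => Nat.zero_le _) (Finset.mem_univ σ)
      omega⟩
  have hzero : ∀ i, 1 ≤ i → N ≤ i → (Nat.card {σ // R i σ} : ℤ) - 1 = 0 := by
    intro i hi hNi
    rw [hcard i hi]
    refine Finset.sum_eq_zero fun σ _ => ?_
    rw [if_neg]
    have := hN σ
    omega
  constructor
  · refine (Finset.range (N + 1)).finite_toSet.subset fun i hi => ?_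
    rw [Finset.mem_coe, Finset.mem_range]
    by_contra h1
    exact hi (hzero i (by omega) (by omega))
  · rw [finsum_eq_sum_of_support_subset (s := Finset.range N)]
    · have h1 : ∀ i ∈ Finset.range N, (if 1 ≤ i then (Nat.card {σ // R i σ} : ℤ) - 1 else 0) =
          ∑ σ ∈ Finset.univ.erase o, if 1 ≤ i ∧ i ≤ m σ then 1 else 0 := by
        intro i _
        by_cases hi : 1 ≤ i
        · rw [if_pos hi, hcard i hi]
          refine Finset.sum_congr rfl fun σ _ => ?_
          simp [hi]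
        · rw [if_neg hi]
          symm
          refine Finset.sum_eq_zero fun σ _ => ?_
          rw [if_neg (by tauto)]
      rw [Finset.sum_congr rfl h1, Finset.sum_comm]
      refine Finset.sum_congr rfl fun σ _ => ?_
      rw [Finset.sum_boole]
      have h2 : (Finset.range N).filter (fun i => 1 ≤ i ∧ i ≤ m σ) = Finset.Icc 1 (m σ) := by
        ext i
        simp only [Finset.mem_filter, Finset.mem_range, Finset.mem_Icc]
        have := hN σ
        omega
      rw [h2]
      simp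
    · intro i hi
      rw [Finset.mem_coe, Finset.mem_range]
      by_contra h1
      apply hi
      dsimp only
      split_ifs with h2
      · exact hzero i h2 (by omega)
      · rfl

section

variable [IsGalois K K'] {h} {y : Q.O} {g : (P.O)[X]} (hy : Good h y g)

include hy

theorem Good.le_one (σ : K' ≃ₐ[K] K') : Q.1 (σ y) ≤ 1 := by
  by_cases hσ : comapEquiv Q σ = Q
  · rw [comapEquiv_eq_iff.1 hσ]
    exact y.2
  · exact (hy.small σ hσ).le

/-- The characteristic polynomial of `y` has coefficients in `O_P`. -/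
theorem Good.exists_charpoly : ∃ f : (P.O)[X],
    f.map (ιO h) = ∏ σ : K' ≃ₐ[K] K', (X - C (⟨σ y, hy.le_one σ⟩ : Q.O)) := by
  classical
  let s : (K' ≃ₐ[K] K') → Q.O := fun σ => ⟨σ y, hy.le_one σ⟩
  let f : (Q.O)[X] := ∏ σ : K' ≃ₐ[K] K', (X - C (s σ))
  have hf1 : f.map (algebraMap Q.O K') = MulSemiringAction.charpoly (K' ≃ₐ[K] K') (y : K') := by
    rw [MulSemiringAction.charpoly_eq, Polynomial.map_prod]
    refine Finset.prod_congr rfl fun σ _ => ?_
    rw [Polynomial.map_sub, map_X, map_C]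
    rfl
  have hinv : Algebra.IsInvariant K K' (K' ≃ₐ[K] K') := by
    refine ⟨fun b hb => ?_⟩
    have := (IsGalois.mem_bot_iff_fixed (F := K) (E := K') b).2 hb
    rwa [IntermediateField.mem_bot] at this
  obtain ⟨F₀, hF₀⟩ := (mem_lifts _).1
    (Algebra.IsInvariant.charpoly_mem_lifts K K' (K' ≃ₐ[K] K') (y : K'))
  obtain ⟨F, hF⟩ : ∃ F : (P.O)[X], F.map (algebraMap P.O K) = F₀ := by
    have : F₀ ∈ Polynomial.lifts (algebraMap P.O K) := by
      rw [Polynomial.lifts_iff_coeff_lifts]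
      intro n
      refine ⟨⟨F₀.coeff n, ?_⟩, rfl⟩
      have h1 : algebraMap K K' (F₀.coeff n) = ((f.coeff n : Q.O) : K') := by
        rw [← coeff_map, hF₀, ← hf1, coeff_map]
        rfl
      exact (val_algebraMap_le_one_iff h _).1 (by rw [h1]; exact (f.coeff n).2)
    exact this
  refine ⟨F, ?_⟩
  have hinj : Function.Injective (algebraMap Q.O K') := Subtype.val_injective
  apply Polynomial.map_injective _ hinj
  rw [hf1, ← hF₀, ← hF, Polynomial.map_map, Polynomial.map_map]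
  rfl

/-- `f = g ^ e h + t r` with `v_Q(h(y)) = 0 = v_Q(r(y))`. -/
theorem Good.exists_decomp {f : (P.O)[X]}
    (hf : f.map (ιO h) = ∏ σ : K' ≃ₐ[K] K', (X - C (⟨σ y, hy.le_one σ⟩ : Q.O)))
    {e : ℕ} (he : IsOverWith Q P e) (hcard : Nat.card {σ : K' ≃ₐ[K] K' // G Q 1 σ} = e)
    {t : P.O} (ht : P.1 (t : K) = exp (-1 : ℤ)) :
    ∃ a r : (P.O)[X], f = g ^ e * a + C t * r ∧ Q.1 ((ev h y a : Q.O) : K') = 1 ∧
      Q.1 ((ev h y r : Q.O) : K') = 1 := by
  classical
  set α := IsLocalRing.residue Q.O y with hα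
  -- the reduction of `f`
  have hfb : (f.map (IsLocalRing.residue P.O)).map (ιF h) = ∏ σ : K' ≃ₐ[K] K',
      (X - C (IsLocalRing.residue Q.O (⟨σ y, hy.le_one σ⟩ : Q.O))) := by
    rw [Polynomial.map_map, ιF_comp, ← Polynomial.map_map, hf, Polynomial.map_prod]
    refine Finset.prod_congr rfl fun σ _ => ?_
    rw [Polynomial.map_sub, map_X, map_C]
  have hroots : ((f.map (IsLocalRing.residue P.O)).map (ιF h)).roots =
      ((Finset.univ : Finset (K' ≃ₐ[K] K')).val.map fun σ : K' ≃ₐ[K] K' =>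
        IsLocalRing.residue Q.O (⟨σ y, hy.le_one σ⟩ : Q.O)) := by
    rw [hfb]
    refine Eq.trans ?_ (Polynomial.roots_multiset_prod_X_sub_C _)
    rw [Multiset.map_map]
    rfl
  have hfb0 : (f.map (IsLocalRing.residue P.O)).map (ιF h) ≠ 0 := by
    rw [hfb]
    exact Finset.prod_ne_zero_iff.2 fun σ _ => X_sub_C_ne_zero _
  have hfb1 : f.map (IsLocalRing.residue P.O) ≠ 0 := by
    intro h0
    rw [h0, Polynomial.map_zero] at hfb0
    exact hfb0 rfl
  -- the multiplicity of `α`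
  have hmul : ((f.map (IsLocalRing.residue P.O)).map (ιF h)).roots.count α = e := by
    rw [hroots, Multiset.count_map, ← hcard, Nat.card_eq_fintype_card, Fintype.card_subtype]
    change (Finset.card (Finset.univ.filter _)) = _
    congr 1
    ext σ
    simp only [Finset.mem_filter, Finset.mem_univ, true_and]
    rw [show G Q 1 σ ↔ G Q ((1 : ℕ) : ℤ) σ from Iff.rfl, hy.G_iff le_rfl, hα, ← sub_eq_zero,
      ← map_sub, IsLocalRing.residue_eq_zero_iff, mem_maximalIdeal_iff, Valuation.map_sub_swap]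
    change Q.1 ((y : K') - σ y) < 1 ↔ Q.1 ((y : K') - σ y) ≤ exp (-1 : ℤ)
    exact ⟨le_of_lt_one, fun h1 => h1.trans_lt exp_neg_one_lt⟩
  -- factor out `g`
  have hgm : (g.map (IsLocalRing.residue P.O)).Monic := hy.monic.map _
  have hgroot : eval₂ (ιF h) α (g.map (IsLocalRing.residue P.O)) = 0 := by
    rw [← val_ev_lt_one_iff, hy.val_g]
    exact exp_neg_one_lt
  have hgunit : ¬ IsUnit (g.map (IsLocalRing.residue P.O)) := by
    intro hu
    have h1 := hgm.eq_one_of_isUnit hu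
    rw [h1, eval₂_one] at hgroot
    exact one_ne_zero hgroot
  have hfm : FiniteMultiplicity (g.map (IsLocalRing.residue P.O)) (f.map (IsLocalRing.residue P.O)) :=
    FiniteMultiplicity.of_not_isUnit hgunit hfb1
  obtain ⟨b, hb1, hb2⟩ := hfm.exists_eq_pow_mul_and_not_dvd
  set m := multiplicity (g.map (IsLocalRing.residue P.O)) (f.map (IsLocalRing.residue P.O)) with hm
  have hgz : (g.map (IsLocalRing.residue P.O)).map (ιF h) ≠ 0 := (hgm.map _).ne_zero
  have hbz : b.map (ιF h) ≠ 0 := by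
    intro h0
    rw [hb1, Polynomial.map_mul, h0, mul_zero] at hfb0
    exact hfb0 rfl
  obtain ⟨a, ha⟩ := Polynomial.map_surjective (IsLocalRing.residue P.O)
    IsLocalRing.residue_surjective b
  have hba : eval₂ (ιF h) α b ≠ 0 := by
    intro h0
    apply hb2
    rw [← ha]
    apply hy.dvd
    rw [val_ev_lt_one_iff, ha]
    exact h0
  have hme : m = e := by
    rw [← hmul, hb1, Polynomial.map_mul, Polynomial.map_pow, roots_mul (mul_ne_zero
      (pow_ne_zero _ hgz) hbz), roots_pow, Multiset.count_add, Multiset.count_nsmul,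
      count_roots, count_roots, (rootMultiplicity_eq_zero_iff (p := b.map (ιF h))).2, add_zero]
    · have h1 : rootMultiplicity α ((g.map (IsLocalRing.residue P.O)).map (ιF h)) = 1 := by
        apply le_antisymm
        · by_contra h2
          rw [not_le, one_lt_rootMultiplicity_iff_isRoot hgz] at h2
          have h3 := (val_ev_eq_one_iff h y (derivative g)).1 hy.val_g'
          apply h3
          have h4 := h2.2
          rw [IsRoot.def, derivative_map, derivative_map, eval_map] at h4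
          exact h4
        · rw [Nat.one_le_iff_ne_zero, ← pos_iff_ne_zero, rootMultiplicity_pos hgz, IsRoot.def,
            eval_map]
          exact hgroot
      rw [h1, mul_one]
    · intro h1
      rw [IsRoot.def, eval_map] at h1
      exact absurd h1 hba
  have hA : (f - g ^ e * a).map (IsLocalRing.residue P.O) = 0 := by
    rw [Polynomial.map_sub, Polynomial.map_mul, Polynomial.map_pow, ha, hb1, hme, sub_self]
  obtain ⟨r, hr⟩ := exists_eq_C_mul ht hA
  have hfr : f = g ^ e * a + C t * r := by rw [← hr]; ring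
  have ha1 : Q.1 ((ev h y a : Q.O) : K') = 1 := by
    rw [val_ev_eq_one_iff, ha]
    exact hba
  refine ⟨a, r, hfr, ha1, ?_⟩
  -- the value of `r`
  have hfy : ev h y f = 0 := by
    rw [ev, coe_eval₂RingHom, ← eval_map, hf, eval_prod]
    refine Finset.prod_eq_zero (Finset.mem_univ 1) ?_
    rw [eval_sub, eval_X, eval_C, sub_eq_zero]
    rfl
  have h1 : algebraMap K K' (t : K) * ((ev h y r : Q.O) : K') =
      - (((ev h y g : Q.O) : K') ^ e * ((ev h y a : Q.O) : K')) := by
    rw [hfr, map_add, map_mul, map_mul, map_pow, ev_C] at hfy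
    have h2 := congrArg (fun z : Q.O => (z : K')) hfy
    push_cast at h2
    rw [ιO_coe] at h2
    linear_combination h2
  have h2 := congrArg Q.1 h1
  rw [Valuation.map_neg, map_mul, map_mul, map_pow, hy.val_g, ha1, mul_one, he, ht] at h2
  have h3 : (exp (-1 : ℤ) : ℤᵐ⁰) ^ e ≠ 0 := pow_ne_zero _ exp_ne_zero
  exact mul_left_cancel₀ h3 (h2.trans (mul_one _).symm)

end

end K670.HilbertDiff

namespace K670.HilbertDiff

universe u v w


section Delta

variable {k : Type u} {K K' : Type v} [Field k] [Field K] [Field K'] [Algebra k K] [Algebra K K']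
  [Algebra k K'] [IsScalarTower k K K'] [FiniteDimensional K K'] {Q : Place k K'} {P : Place k K}
  (h : IsOver Q P) {F' : Type w} [Field F'] [Algebra k F'] (ψ : K' →ₐ[k] (LaurentSeries F'))

/-- `D (ψ (p(y))) - ψ (p'(y)) D (ψ y)`: the derivation applied to the coefficients. -/
noncomputable def dl (y : Q.O) (p : (P.O)[X]) : (LaurentSeries F') :=
  LocRes.D F' (ψ (ev h y p : Q.O)) - ψ (ev h y (derivative p) : Q.O) * LocRes.D F' (ψ y)

theorem dl_add (y : Q.O) (p q : (P.O)[X]) : dl h ψ y (p + q) = dl h ψ y p + dl h ψ y q := by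
  rw [dl, dl, dl, map_add, Polynomial.derivative_add, map_add]
  push_cast
  simp only [map_add]
  ring

theorem dl_mul (y : Q.O) (p q : (P.O)[X]) :
    dl h ψ y (p * q) = ψ (ev h y p : Q.O) * dl h ψ y q + ψ (ev h y q : Q.O) * dl h ψ y p := by
  rw [dl, dl, dl, Polynomial.derivative_mul, map_add, map_mul, map_mul, map_mul]
  push_cast
  rw [map_add ψ, map_mul ψ, map_mul ψ, map_mul ψ, Derivation.leibniz, smul_eq_mul, smul_eq_mul]
  ring

theorem dl_C (y : Q.O) (a : P.O) : dl h ψ y (C a) = LocRes.D F' (ψ (algebraMap K K' (a : K))) := by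
  rw [dl, Polynomial.derivative_C, map_zero, ev_C, ιO_coe]
  push_cast
  rw [map_zero, zero_mul, sub_zero]

theorem dl_X (y : Q.O) : dl h ψ y X = 0 := by
  rw [dl, Polynomial.derivative_X, map_one, ev, coe_eval₂RingHom, eval₂_X]
  push_cast
  rw [map_one, one_mul, sub_self]

section

variable {F : Type w} [Field F] [Algebra k F] {e : ℕ} (he : IsOverWith Q P e)
    {φ : K →ₐ[k] (LaurentSeries F)} (hφ : LocRes.IsExpansionAt P.1 φ)
    {ψ : K' →ₐ[k] (LaurentSeries F')} (hψ : LocRes.IsExpansionAt Q.1 ψ)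
    (h1 : Module.finrank K (Ω[K⁄k]) = 1)
    {t : K} (ht : P.1 t = exp (-1 : ℤ))

include he hφ hψ h1 ht in
theorem v_D_le_t (a : P.O) : Valued.v (LocRes.D F' (ψ (algebraMap K K' (a : K)))) ≤
    Valued.v (LocRes.D F' (ψ (algebraMap K K' t))) := by
  obtain ⟨c, hc⟩ := K667.DiffOrd.exists_eq_smul_D h1 (K667.DiffOrd.D_uniformizer_ne_zero hφ ht)
    (KaehlerDifferential.D k K (a : K))
  have hPc : P.1 c ≤ 1 := by
    have e1 := K666.DiffEx.vDiff_below φ hc
    rw [K667.DiffOrd.vDiff_uniformizer hφ ht, mul_one, hφ.1] at e1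
    rw [← e1, LocRes.vDiff, map_one, one_mul]
    exact K667.DiffOrd.v_D_le_one (by rw [hφ.1]; exact a.2)
  have hD : LocRes.D F' (ψ (algebraMap K K' (a : K))) =
      ψ (algebraMap K K' c) * LocRes.D F' (ψ (algebraMap K K' t)) := by
    have := congrArg (K667.DiffOrd.ev ψ) (K666.DiffEx.D_algebraMap (K' := K') hc)
    rw [K667.DiffOrd.ev_smul, K667.DiffOrd.ev_D, K667.DiffOrd.ev_D] at this
    exact this
  rw [hD, map_mul, hψ.1, he]
  calc P.1 c ^ e * Valued.v (LocRes.D F' (ψ (algebraMap K K' t)))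
      ≤ 1 * Valued.v (LocRes.D F' (ψ (algebraMap K K' t))) := by
        gcongr
        exact pow_le_one' hPc _
    _ = _ := one_mul _

include he hφ hψ h1 ht in
theorem v_dl_le (y : Q.O) (p : (P.O)[X]) : Valued.v (dl h ψ y p) ≤
    Valued.v (LocRes.D F' (ψ (algebraMap K K' t))) := by
  have hle : ∀ z : Q.O, Valued.v (ψ (z : K')) ≤ 1 := fun z => by rw [hψ.1]; exact z.2
  have hpow : ∀ n : ℕ, Valued.v (dl h ψ y (X ^ n)) ≤
      Valued.v (LocRes.D F' (ψ (algebraMap K K' t))) := by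
    intro n
    have h0 : dl h ψ y (X ^ n) = 0 := by
      induction n with
      | zero =>
        have := dl_C h ψ y 1
        rw [C_1] at this
        rw [pow_zero, this]
        simp
      | succ n ih => rw [pow_succ, dl_mul, dl_X, ih, mul_zero, mul_zero, add_zero]
    rw [h0, map_zero]
    exact zero_le
  induction p using Polynomial.induction_on' with
  | add p q hp hq =>
    rw [dl_add]
    exact (Valuation.map_add _ _ _).trans (max_le hp hq)
  | monomial n a =>
    rw [← C_mul_X_pow_eq_monomial, dl_mul, dl_C]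
    refine (Valuation.map_add _ _ _).trans (max_le ?_ ?_)
    · rw [map_mul]
      calc _ ≤ 1 * Valued.v (LocRes.D F' (ψ (algebraMap K K' t))) := mul_le_mul' (hle _) (hpow n)
        _ = _ := one_mul _
    · rw [map_mul]
      calc _ ≤ 1 * Valued.v (LocRes.D F' (ψ (algebraMap K K' t))) :=
            mul_le_mul' (hle _) (v_D_le_t he hφ hψ h1 ht a)
        _ = _ := one_mul _

variable [IsGalois K K'] {h} {y : Q.O} {g : (P.O)[X]} (hy : Good h y g)

theorem mul_lt_self {a b : ℤᵐ⁰} (ha : a < 1) (hb : b ≠ 0) : a * b < b := by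
  calc a * b < 1 * b := mul_lt_mul_of_pos_right ha (zero_lt_iff.2 hb)
    _ = b := one_mul b

include he hφ hψ h1 ht hy in
theorem Good.val_deriv (he2 : 2 ≤ e) (hne : Valued.v (LocRes.D F' (ψ (algebraMap K K' t))) ≠ 0)
    {f : (P.O)[X]}
    (hf : f.map (ιO h) = ∏ σ : K' ≃ₐ[K] K', (X - C (⟨σ y, hy.le_one σ⟩ : Q.O)))
    (hcard : Nat.card {σ : K' ≃ₐ[K] K' // G Q 1 σ} = e) :
    Q.1 (ev h y (derivative f) : Q.O) = Valued.v (LocRes.D F' (ψ (algebraMap K K' t))) := by
  set δ := Valued.v (LocRes.D F' (ψ (algebraMap K K' t))) with hδ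
  have hle : ∀ z : Q.O, Valued.v (ψ (z : K')) ≤ 1 := fun z => by rw [hψ.1]; exact z.2
  let t' : P.O := ⟨t, by rw [K661.Place.mem_O, ht]; exact exp_neg_one_lt.le⟩
  have ht' : P.1 (t' : K) = exp (-1 : ℤ) := ht
  obtain ⟨a, r, hfr, ha, hr⟩ := hy.exists_decomp hf he hcard ht'
  -- `v (D (ψ t)) < 1`
  have hδ1 : δ < 1 := by
    have h2 : Valued.v (ψ (algebraMap K K' t)) ≤ exp (-(e : ℤ)) := by
      rw [hψ.1, he, ht, ← exp_nsmul]
      simp
    refine (K667.DiffOrd.v_D_le h2).trans_lt ?_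
    rw [← exp_zero, exp_lt_exp]
    omega
  have hdl := fun p => v_dl_le h he hφ hψ h1 ht y p
  rw [← hδ] at hdl
  -- `v (D (ψ y)) = 1`
  have hDy : Valued.v (LocRes.D F' (ψ (y : K'))) = 1 := by
    have h2 : ψ (ev h y (derivative g) : Q.O) * LocRes.D F' (ψ (y : K')) =
        LocRes.D F' (ψ (ev h y g : Q.O)) - dl h ψ y g := by
      rw [dl]
      ring
    have h3 : Valued.v (LocRes.D F' (ψ (ev h y g : Q.O))) = 1 :=
      K667.DiffOrd.v_D_uniformizer (by rw [hψ.1, hy.val_g])
    have h4 := congrArg Valued.v h2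
    rw [map_mul, hψ.1, hy.val_g', one_mul, Valuation.map_sub_eq_of_lt_left, h3] at h4
    · exact h4
    · rw [h3]
      exact (hdl g).trans_lt hδ1
  -- `dl f`
  have hfy : ev h y f = 0 := by
    rw [ev, coe_eval₂RingHom, ← eval_map, hf, eval_prod]
    refine Finset.prod_eq_zero (Finset.mem_univ 1) ?_
    rw [eval_sub, eval_X, eval_C, sub_eq_zero]
    rfl
  have h5 : dl h ψ y f = - (ψ (ev h y (derivative f) : Q.O) * LocRes.D F' (ψ (y : K'))) := by
    rw [dl, hfy]
    push_cast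
    rw [map_zero, map_zero, zero_sub]
  have h6 : dl h ψ y f = ψ (ev h y r : Q.O) * LocRes.D F' (ψ (algebraMap K K' t)) +
      ((ψ (ev h y (g ^ e) : Q.O) * dl h ψ y a + ψ (ev h y a : Q.O) * dl h ψ y (g ^ e)) +
        ψ (algebraMap K K' t) * dl h ψ y r) := by
    rw [hfr, dl_add, dl_mul, dl_mul, dl_C, ev_C, ιO_coe]
    ring
  have hg1 : Valued.v (ψ (ev h y g : Q.O)) < 1 := by
    rw [hψ.1, hy.val_g]
    exact exp_neg_one_lt
  have h7 : ∀ n : ℕ, 1 ≤ n → Valued.v (ψ (ev h y (g ^ n) : Q.O)) < 1 := by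
    intro n hn
    rw [map_pow]
    push_cast
    rw [map_pow, map_pow]
    exact pow_lt_one₀ zero_le hg1 (by omega)
  have h8 : Valued.v (dl h ψ y (g ^ e)) < δ := by
    obtain ⟨n, rfl⟩ : ∃ n, e = n + 1 := ⟨e - 1, by omega⟩
    rw [pow_succ, dl_mul]
    refine Valuation.map_add_lt _ ?_ ?_
    · rw [map_mul]
      exact (mul_le_mul' le_rfl (hdl _)).trans_lt (mul_lt_self (h7 n (by omega)) hne)
    · rw [map_mul]
      exact (mul_le_mul' le_rfl (hdl _)).trans_lt (mul_lt_self hg1 hne)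
  have h9 : Valued.v ((ψ (ev h y (g ^ e) : Q.O) * dl h ψ y a + ψ (ev h y a : Q.O) * dl h ψ y (g ^ e)) +
        ψ (algebraMap K K' t) * dl h ψ y r) < δ := by
    refine Valuation.map_add_lt _ (Valuation.map_add_lt _ ?_ ?_) ?_
    · rw [map_mul]
      exact (mul_le_mul' le_rfl (hdl _)).trans_lt (mul_lt_self (h7 e (by omega)) hne)
    · rw [map_mul]
      exact (mul_le_mul' (hle _) le_rfl).trans_lt (by rwa [one_mul])
    · rw [map_mul]
      refine (mul_le_mul' le_rfl (hdl _)).trans_lt (mul_lt_self ?_ hne)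
      rw [hψ.1, he, ht]
      exact pow_lt_one₀ zero_le exp_neg_one_lt (by omega)
  have h10 : Valued.v (ψ (ev h y r : Q.O) * LocRes.D F' (ψ (algebraMap K K' t))) = δ := by
    rw [map_mul, hψ.1, hr, one_mul]
  have h11 := congrArg Valued.v h6
  rw [Valuation.map_add_eq_of_lt_left _ (by rw [h10]; exact h9), h10, h5, Valuation.map_neg,
    map_mul, hDy, mul_one, hψ.1] at h11
  exact h11

omit he hφ hψ h1 ht in
include hy in
open Classical in
theorem Good.deriv_eq {f : (P.O)[X]}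
    (hf : f.map (ιO h) = ∏ σ : K' ≃ₐ[K] K', (X - C (⟨σ y, hy.le_one σ⟩ : Q.O))) :
    ((ev h y (derivative f) : Q.O) : K') = ∏ σ ∈ Finset.univ.erase (1 : K' ≃ₐ[K] K'), (y - σ y) := by
  classical
  have h2 : ev h y (derivative f) = ∏ σ ∈ Finset.univ.erase (1 : K' ≃ₐ[K] K'),
      (y - ⟨σ y, hy.le_one σ⟩ : Q.O) := by
    rw [ev, coe_eval₂RingHom, ← eval_map, ← derivative_map, hf,
      ← Finset.mul_prod_erase _ _ (Finset.mem_univ (1 : K' ≃ₐ[K] K')), Polynomial.derivative_mul,
      eval_add, eval_mul, eval_mul]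
    have h3 : (⟨(1 : K' ≃ₐ[K] K') y, hy.le_one 1⟩ : Q.O) = y := rfl
    rw [h3, eval_sub, eval_X, eval_C, sub_self, zero_mul, add_zero, Polynomial.derivative_sub,
      Polynomial.derivative_X, Polynomial.derivative_C, sub_zero, eval_one, one_mul, eval_prod]
    refine Finset.prod_congr rfl fun σ _ => ?_
    rw [eval_sub, eval_X, eval_C]
  rw [h2]
  push_cast
  rfl

end

end Delta

section Main

variable {k : Type u} {K K' : Type v} [Field k] [Field K] [Field K'] [Algebra k K] [Algebra K K']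
  [Algebra k K'] [IsScalarTower k K K'] [FiniteDimensional K K'] {Q : Place k K'} {P : Place k K}

theorem finrank_omega_top [Algebra.IsSeparable K K'] (h1 : Module.finrank K (Ω[K⁄k]) = 1) :
    Module.finrank K' (Ω[K'⁄k]) = 1 := by
  have h2 : Algebra.FormallyEtale K K' := Algebra.FormallyEtale.of_isSeparable K K'
  have e1 := KaehlerDifferential.tensorKaehlerEquivOfFormallyEtale k K K'
  rw [← e1.finrank_eq, Module.finrank_baseChange, h1]

theorem isSeparable_residue [Algebra.IsSeparable K K'] (hG : ∃ t : K, K660.Places.IsGen k K t)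
    (h1 : Module.finrank K (Ω[K⁄k]) = 1) {F' : Type w} [Field F'] [Algebra k F']
    {ψ : K' →ₐ[k] (LaurentSeries F')} (hψ : LocRes.IsExpansionAt Q.1 ψ) :
    Algebra.IsSeparable k (IsLocalRing.ResidueField Q.O) := by
  have hG' : ∃ t : K', K660.Places.IsGen k K' t := by
    obtain ⟨t, ht⟩ := hG
    exact ⟨_, K661.OverFF.isGen_algebraMap ht⟩
  have hfQ := (K660.Compare.finite_residue_and_degG hG' Q).1
  let e := K667.ResField.resEquiv Q ψ hψ
  have hfF : FiniteDimensional k F' :=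
    @Module.Finite.equiv k _ _ _ _ _ _ _ hfQ e.toLinearEquiv
  have hsep := K667.ResField.isSeparable_coeff (finrank_omega_top h1) hψ
  exact Algebra.IsSeparable.of_algHom k F' e.toAlgHom

theorem card_G_one [IsGalois K K'] (hG : ∃ t : K, K660.Places.IsGen k K t) {e : ℕ}
    (he : IsOverWith Q P e) [Algebra.IsSeparable k (IsLocalRing.ResidueField Q.O)] :
    Nat.card {σ : K' ≃ₐ[K] K' // G Q 1 σ} = e := by
  rw [← K662.Inertia.card_inertia' hG he]
  have h1 : ∀ σ : K' ≃ₐ[K] K', G Q 1 σ ↔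
      σ ∈ ((Q.O).inertiaSubgroup K).map ((Q.O).decompositionSubgroup K).subtype := by
    intro σ
    rw [K662.Inertia.mem_map_inertia_iff]
    exact ⟨fun h2 x hx => (h2 x hx).trans_lt exp_neg_one_lt, fun h2 x hx => le_of_lt_one (h2 x hx)⟩
  have h2 : Nat.card {σ : K' ≃ₐ[K] K' // G Q 1 σ} =
      Nat.card (((Q.O).inertiaSubgroup K).map ((Q.O).decompositionSubgroup K).subtype) :=
    Nat.card_congr (Equiv.subtypeEquivRight h1)
  rw [h2]
  exact Subgroup.card_map_of_injective (Subgroup.subtype_injective _)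

/-- **Hilbert's different formula.** -/
theorem main [IsGalois K K'] (hG : ∃ t : K, K660.Places.IsGen k K t)
    (h1 : Module.finrank K (Ω[K⁄k]) = 1) {F F' : Type w} [Field F] [Algebra k F] [Field F']
    [Algebra k F'] {e : ℕ} (he : IsOverWith Q P e)
    {φ : K →ₐ[k] (LaurentSeries F)} (hφ : LocRes.IsExpansionAt P.1 φ)
    {ψ : K' →ₐ[k] (LaurentSeries F')} (hψ : LocRes.IsExpansionAt Q.1 ψ)
    (x : K) (hx : LocRes.vDiff φ 1 x ≠ 0) (hx' : LocRes.vDiff ψ 1 (algebraMap K K' x) ≠ 0) :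
    (Function.support fun i : ℕ => (Nat.card {σ : K' ≃ₐ[K] K' // G Q (i : ℤ) σ} : ℤ) - 1).Finite ∧
    LocRes.diffExp φ ψ e x = ∑ᶠ i : ℕ, if 1 ≤ i then
      (Nat.card {σ : K' ≃ₐ[K] K' // G Q (i : ℤ) σ} : ℤ) - 1 else 0 := by
  classical
  have h : IsOver Q P := ⟨e, he⟩
  have hsep := isSeparable_residue (Q := Q) hG h1 hψ
  have hcard := card_G_one hG he
  obtain ⟨y, g, hy⟩ := exists_good h hG (by
    let _ : Algebra (IsLocalRing.ResidueField P.O) (IsLocalRing.ResidueField Q.O) :=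
      (ιF h).toAlgebra
    have htower : IsScalarTower k (IsLocalRing.ResidueField P.O) (IsLocalRing.ResidueField Q.O) := by
      refine IsScalarTower.of_algebraMap_eq fun c => ?_
      change IsLocalRing.residue Q.O _ = ιF h (IsLocalRing.residue P.O _)
      rw [ιF_residue]
      congr 1
      refine Subtype.ext ?_
      rw [ιO_coe]
      exact IsScalarTower.algebraMap_apply k K K' c
    exact Algebra.isSeparable_tower_top_of_isSeparable k _ _)
  obtain ⟨m, hm⟩ := hy.exists_m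
  obtain ⟨hfin, hsum⟩ := count (1 : K' ≃ₐ[K] K') m (fun i σ => G Q (i : ℤ) σ) (by
    intro i hi σ
    rw [hy.G_iff hi]
    by_cases hσ : σ = 1
    · subst hσ
      simp
    · rw [Valuation.map_sub_swap, hm σ hσ, exp_le_exp]
      constructor
      · intro h2
        right
        omega
      · rintro (h2 | h2)
        · exact absurd h2 hσ
        · omega)
  refine ⟨hfin, ?_⟩
  rw [hsum]
  obtain ⟨t, ht⟩ := P.2.2 (exp (-1 : ℤ))
  obtain ⟨h2, h3⟩ := K666.DiffEx.diffExp_eq_uniformizer he hφ hψ h1 x hx hx' t ht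
  rw [h3]
  rw [LocRes.vDiff, map_one, one_mul] at h2 ⊢
  have hprod : Q.1 (∏ σ ∈ Finset.univ.erase (1 : K' ≃ₐ[K] K'), ((y : K') - σ y)) =
      exp (-∑ σ ∈ Finset.univ.erase (1 : K' ≃ₐ[K] K'), (m σ : ℤ)) := by
    rw [map_prod, Finset.prod_congr rfl fun σ hσ => hm σ (Finset.ne_of_mem_erase hσ),
      ← Finset.sum_neg_distrib]
    induction (Finset.univ.erase (1 : K' ≃ₐ[K] K')) using Finset.induction_on with
    | empty => simp
    | insert a s ha ih => rw [Finset.prod_insert ha, Finset.sum_insert ha, ih, exp_add]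
  have he0 : e ≠ 0 := by
    rintro rfl
    have h4 : Nonempty {σ : K' ≃ₐ[K] K' // G Q 1 σ} := ⟨⟨1, fun z _ => by simp⟩⟩
    have h5 := Nat.card_pos (α := {σ : K' ≃ₐ[K] K' // G Q 1 σ})
    omega
  by_cases he2 : 2 ≤ e
  · obtain ⟨f, hf⟩ := hy.exists_charpoly
    have h4 := hy.val_deriv he hφ hψ h1 ht he2 h2 hf hcard
    rw [hy.deriv_eq hf, hprod] at h4
    rw [← h4, log_exp, neg_neg]
  · have he1 : e = 1 := by omega
    subst he1
    have h4 : Valued.v (LocRes.D F' (ψ (algebraMap K K' t))) = 1 :=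
      K667.DiffOrd.v_D_uniformizer (by rw [hψ.1, he, ht, pow_one])
    rw [h4, log_one, neg_zero]
    symm
    refine Finset.sum_eq_zero fun σ hσ => ?_
    have hσ1 := Finset.ne_of_mem_erase hσ
    by_contra hne
    apply hσ1
    have h5 : G Q ((1 : ℕ) : ℤ) σ := by
      rw [hy.G_iff le_rfl, Valuation.map_sub_swap, hm σ hσ1, exp_le_exp]
      have : m σ ≠ 0 := by exact_mod_cast hne
      omega
    obtain ⟨_, h6⟩ := Nat.card_eq_one_iff_unique.1 hcard
    have h7 := Nat.card_eq_one_iff_unique.1 hcard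
    have := h7.1
    exact congrArg Subtype.val (Subsingleton.elim (α := {σ : K' ≃ₐ[K] K' // G Q 1 σ}) ⟨σ, h5⟩
      ⟨1, fun z _ => by simp⟩)

end Main

end K670.HilbertDiff
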