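import Groth.Agent.FunFld.K670.Aff
import Mathlib.RingTheory.Derivation.Basic

/-! Nowhere vanishing derivations of a function field (genus one) and Taylor coefficients. -/

set_option autoImplicit false
set_option linter.style.haveILetI false
set_option linter.unusedSectionVars false

namespace K670.InvDer

open FunFld K670.Aff

variable {k K : Type*} [Field k] [Field K] [Algebra k K]

/-- A derivation lowering every nonzero order by exactly one (the derivation dual to a differential
without zeros and poles, in characteristic zero). -/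
structure IsInv (δ : Derivation k K K) : Prop where
  le_one : ∀ (P : Place k K) (z : K), P.1 z ≤ 1 → P.1 (δ z) ≤ 1
  ord_eq : ∀ (P : Place k K) (z : K), z ≠ 0 → P.ord z ≠ 0 → δ z ≠ 0 ∧ P.ord (δ z) = P.ord z - 1

variable {δ : Derivation k K K} (hδ : IsInv δ)
include hδ

theorem le_exp (P : Place k K) {z : K} {n : ℤ} (h : P.1 z ≤ WithZero.exp n) (hn : n ≠ -1) :
    P.1 (δ z) ≤ WithZero.exp (n + 1) := by
  rcases eq_or_ne z 0 with rfl | hz
  · rw [map_zero, map_zero]; exact zero_le
  rw [Gen.v_le_exp_iff P hz] at h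
  by_cases h0 : P.ord z = 0
  · have h1 : P.1 z ≤ 1 := by
      have := (Gen.v_le_exp_iff P hz 0).mpr (by rw [h0]; simp)
      rwa [WithZero.exp_zero] at this
    refine (hδ.le_one P z h1).trans ?_
    rw [← WithZero.exp_zero, WithZero.exp_le_exp]
    rw [h0] at h
    omega
  · obtain ⟨h1, h2⟩ := hδ.ord_eq P z hz h0
    rw [Gen.v_le_exp_iff P h1, h2]
    omega

theorem v_eq (P : Place k K) {z : K} {n : ℤ} (h : P.1 z = WithZero.exp n) (hn : n ≠ 0) :
    P.1 (δ z) = WithZero.exp (n + 1) := by
  have hz : z ≠ 0 := by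
    rintro rfl; rw [map_zero] at h; exact WithZero.exp_ne_zero h.symm
  have h1 : P.ord z = -n := by
    rw [Gen.v_eq_exp P hz, WithZero.exp_inj] at h; omega
  obtain ⟨h2, h3⟩ := hδ.ord_eq P z hz (by omega)
  rw [Gen.v_eq_exp P h2, h3, h1]
  congr 1
  ring

/-- A positive order from the derivative. -/
theorem v_le_of_lt (P : Place k K) {z : K} {n : ℤ} (h0 : P.1 z < 1)
    (h : P.1 (δ z) ≤ WithZero.exp (n + 1)) : P.1 z ≤ WithZero.exp n := by
  rcases eq_or_ne z 0 with rfl | hz
  · rw [map_zero]; exact zero_le
  have h1 : 0 < P.ord z := by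
    rw [Gen.v_eq_exp P hz, ← WithZero.exp_zero, WithZero.exp_lt_exp] at h0; omega
  obtain ⟨h2, h3⟩ := hδ.ord_eq P z hz (by omega)
  rw [Gen.v_le_exp_iff P h2, h3] at h
  rw [Gen.v_le_exp_iff P hz]
  omega

/-- The derivation on the affine ring. -/
noncomputable def dA (O : Place k K) : aff (k := k) O →ₗ[k] aff (k := k) O where
  toFun z := ⟨δ z, fun P hP => hδ.le_one P z (z.2 P hP)⟩
  map_add' x y := Subtype.ext (by simp)
  map_smul' c x := Subtype.ext (by simp)

theorem coe_dA (O : Place k K) (z : aff (k := k) O) : ((dA hδ O z : aff O) : K) = δ z := rfl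

theorem dA_mul (O : Place k K) (x y : aff (k := k) O) :
    dA hδ O (x * y) = x * dA hδ O y + y * dA hδ O x := by
  apply Subtype.ext
  show δ ((x : K) * y) = x * δ y + y * δ x
  rw [Derivation.leibniz]; rfl

theorem dA_algebraMap (O : Place k K) (c : k) : dA hδ O (algebraMap k (aff O) c) = 0 := by
  apply Subtype.ext
  show δ (algebraMap k K c) = 0
  exact Derivation.map_algebraMap δ c

section AC

variable [IsAlgClosed k] (hK : IsFunctionField k K)
include hK

/-- Taylor coefficients. -/
theorem taylor (O P : Place k K) (hP : P ≠ O) (n : ℕ) (z : aff (k := k) O) :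
    P.1 (z : K) ≤ WithZero.exp (-(n : ℤ)) ↔ ∀ i < n, ev hK O P hP ((dA hδ O ^ i) z) = 0 := by
  induction n generalizing z with
  | zero =>
    simp only [Nat.cast_zero, neg_zero, WithZero.exp_zero, Nat.not_lt_zero, false_imp_iff,
      implies_true, iff_true]
    exact z.2 P hP
  | succ n ih =>
    have hstep : ∀ i, (dA hδ O ^ (i + 1)) z = (dA hδ O ^ i) (dA hδ O z) := by
      intro i; rw [pow_succ]; rfl
    constructor
    · intro h i hi
      rcases Nat.eq_zero_or_pos i with h0 | hpos
      · subst h0
        rw [pow_zero]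
        show ev hK O P hP z = 0
        rw [ev_eq_zero_iff]
        refine lt_of_le_of_lt h ?_
        rw [← WithZero.exp_zero, WithZero.exp_lt_exp]
        push_cast; omega
      · obtain ⟨j, rfl⟩ : ∃ j, i = j + 1 := ⟨i - 1, by omega⟩
        rw [hstep]
        refine (ih (dA hδ O z)).mp ?_ j (by omega)
        rw [coe_dA]
        rcases Nat.eq_zero_or_pos n with h0 | hn
        · subst h0
          simp only [Nat.cast_zero, neg_zero, WithZero.exp_zero]
          exact hδ.le_one P z (z.2 P hP)
        · have := le_exp hδ P h (by push_cast; omega)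
          convert this using 2
          push_cast; ring
    · intro h
      have h0 : P.1 (z : K) < 1 := by
        have := h 0 (by omega)
        rw [pow_zero] at this
        exact (ev_eq_zero_iff hK O P hP z).mp this
      apply v_le_of_lt hδ P h0
      have h1 := (ih (dA hδ O z)).mpr (fun i hi => by rw [← hstep]; exact h (i + 1) (by omega))
      rw [coe_dA] at h1
      convert h1 using 2
      push_cast; ring

/-- An element of the affine ring with a simple zero at `P`. -/
theorem exists_simple_zero (O P : Place k K) (hP : P ≠ O) :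
    ∃ t : aff (k := k) O, P.1 (t : K) = WithZero.exp (-1) := by
  classical
  set g := genus k K with hg
  set D : Divisor k K := Finsupp.single O (2 * (g : ℤ) + 1) - Finsupp.single P 1 with hD
  set D' : Divisor k K := Finsupp.single O (2 * (g : ℤ) + 1) - Finsupp.single P 2 with hD'
  have hdegD : D.deg = 2 * (g : ℤ) := by
    rw [hD, Gen.deg_sub_single hK, Gen.deg_single' hK]; ring
  have hdegD' : D'.deg = 2 * (g : ℤ) - 1 := by
    rw [hD', Gen.deg_sub_single hK, Gen.deg_single' hK]; ring
  have h1 := Base.ell_eq_of_deg_ge hK D (by rw [hdegD, ← hg]; linarith)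
  have h2 := Base.ell_eq_of_deg_ge hK D' (by rw [hdegD', ← hg])
  rw [hdegD] at h1
  rw [hdegD'] at h2
  unfold ell at h1 h2
  have hnle : ¬ L D ≤ L D' := by
    intro hle
    haveI := Base.finiteDimensional_L hK D'
    have := Submodule.finrank_mono hle
    omega
  obtain ⟨z, hz1, hz2⟩ := SetLike.not_le_iff_exists.mp hnle
  have hz0 : z ≠ 0 := by rintro rfl; exact hz2 (Submodule.zero_mem _)
  have hzaff : z ∈ aff O := by
    intro R hR
    refine (hz1 R).trans ?_
    rw [← WithZero.exp_zero, WithZero.exp_le_exp, hD, Finsupp.sub_apply, Finsupp.single_apply,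
      if_neg (Ne.symm hR), Finsupp.single_apply]
    split_ifs <;> norm_num
  refine ⟨⟨z, hzaff⟩, ?_⟩
  show P.1 z = _
  have h3 := hz1 P
  rw [hD, Finsupp.sub_apply, Finsupp.single_apply, if_neg (Ne.symm hP), Finsupp.single_eq_same,
    Gen.v_le_exp_iff P hz0] at h3
  rw [Gen.v_eq_exp P hz0]
  congr 1
  by_contra hne
  apply hz2
  intro R
  by_cases hR : R = P
  · subst hR
    rw [hD', Finsupp.sub_apply, Finsupp.single_apply, if_neg (Ne.symm hP), Finsupp.single_eq_same,
      Gen.v_le_exp_iff R hz0]
    omega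
  · have := hz1 R
    rw [hD, Finsupp.sub_apply, Finsupp.single_apply (a := P), if_neg (Ne.symm hR)] at this
    rw [hD', Finsupp.sub_apply, Finsupp.single_apply (a := P), if_neg (Ne.symm hR)]
    exact this

/-- Every point derivation at `P` is a multiple of `z ↦ (δ z)(P)`. -/
theorem exists_derivation_eq (O P : Place k K) (hP : P ≠ O) (D : aff (k := k) O →ₗ[k] k)
    (hD : ∀ x y, D (x * y) = ev hK O P hP x * D y + ev hK O P hP y * D x)
    (hD2 : ∀ z : aff (k := k) O, P.1 (z : K) ≤ WithZero.exp (-2) → D z = 0) :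
    ∃ α : k, ∀ z, D z = α * ev hK O P hP (dA hδ O z) := by
  obtain ⟨t, ht⟩ := exists_simple_zero hδ hK O P hP
  have ht0 : (t : K) ≠ 0 := by
    intro h0; rw [h0, map_zero] at ht; exact WithZero.exp_ne_zero ht.symm
  have hδt : P.1 (δ (t : K)) = 1 := by
    have := v_eq hδ P ht (by norm_num)
    simpa using this
  have hβ : ev hK O P hP (dA hδ O t) ≠ 0 := by
    intro h0
    rw [ev_eq_zero_iff, coe_dA, hδt] at h0
    exact lt_irrefl _ h0
  have hD1 : D 1 = 0 := by
    have h2 : D 1 = D 1 + D 1 := by
      have := hD 1 1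
      rw [mul_one, map_one (ev hK O P hP), one_mul] at this
      exact this
    exact left_eq_add.mp h2
  refine ⟨D t / ev hK O P hP (dA hδ O t), fun z => ?_⟩
  set c := ev hK O P hP z with hc
  have hzc : P.1 ((z : K) - algebraMap k K c) < 1 := ev_spec hK O P hP z
  have hquot : P.1 (((z : K) - algebraMap k K c) / t) ≤ 1 := by
    rcases eq_or_ne ((z : K) - algebraMap k K c) 0 with h0 | h0
    · rw [h0, zero_div, map_zero]; exact zero_le
    · rw [Gen.v_eq_exp P h0, ← WithZero.exp_zero, WithZero.exp_lt_exp] at hzc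
      rw [map_div₀, ht, Gen.v_eq_exp P h0, ← WithZero.exp_sub, ← WithZero.exp_zero,
        WithZero.exp_le_exp]
      omega
  obtain ⟨c1, hc1⟩ := Gen.exists_const_sub_lt_one hK P hquot
  set w : aff (k := k) O := z - algebraMap k (aff O) c - c1 • t with hw
  have hwK : (w : K) = t * (((z : K) - algebraMap k K c) / t - algebraMap k K c1) := by
    have e1 : (w : K) = (z : K) - algebraMap k K c - c1 • (t : K) := rfl
    rw [e1, Algebra.smul_def]
    field_simp
  have hw2 : P.1 (w : K) ≤ WithZero.exp (-2) := by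
    rw [hwK, map_mul, ht]
    rcases eq_or_ne (((z : K) - algebraMap k K c) / t - algebraMap k K c1) 0 with h0 | h0
    · rw [h0, map_zero, mul_zero]; exact zero_le
    · rw [Gen.v_eq_exp P h0, ← WithZero.exp_zero, WithZero.exp_lt_exp] at hc1
      rw [Gen.v_eq_exp P h0, ← WithZero.exp_add, WithZero.exp_le_exp]
      omega
  have h1 : D z = c1 * D t := by
    have h2 := hD2 w hw2
    rw [hw, map_sub, map_sub, map_smul, smul_eq_mul, Algebra.algebraMap_eq_smul_one, map_smul,
      hD1, smul_zero, sub_zero, sub_eq_zero] at h2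
    exact h2
  have h2 : ev hK O P hP (dA hδ O z) = c1 * ev hK O P hP (dA hδ O t) := by
    have h3 : ev hK O P hP (dA hδ O w) = 0 := by
      rw [ev_eq_zero_iff, coe_dA]
      have := le_exp hδ P hw2 (by norm_num)
      refine lt_of_le_of_lt this ?_
      rw [← WithZero.exp_zero, WithZero.exp_lt_exp]; norm_num
    simp only [hw, map_sub, dA_algebraMap, map_smul, smul_eq_mul, map_zero, sub_zero] at h3
    exact sub_eq_zero.mp h3
  rw [h1, h2]
  field_simp

end AC

end K670.InvDer
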