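import Groth.Agent.FunFld.K670.ClaimG

/-! Finiteness of sets of pairs of places by the tangent space criterion. -/

set_option autoImplicit false
set_option linter.style.haveILetI false
set_option linter.unusedSectionVars false

namespace K670.Pairs

open FunFld K670.Aff K670.InvDer K670.Param K670.ClaimG TensorProduct

variable {k K : Type*} [Field k] [Field K] [Algebra k K]
variable {δ : Derivation k K K} (hδ : IsInv δ)
variable [IsAlgClosed k] (hK : IsFunctionField k K)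
include hδ hK

theorem finite_pairs (O : Place k K) (ι : Type) [Fintype ι] (G : Set (PA O ι)) (s : PA O ι)
    (S : Set (Place k K × Place k K))
    (h1 : ∀ (P Q : Place k K) (hP : P ≠ O) (hQ : Q ≠ O) (p : PA O ι →ₐ[k] k) (D : PA O ι →ₗ[k] k)
      (α β : k), (∀ z, p (lft O ι z) = ev hK O P hP z) → (∀ z, p (rgt O ι z) = ev hK O Q hQ z) →
      (∀ x y, D (x * y) = p x * D y + p y * D x) →
      (∀ z, D (lft O ι z) = α * ev hK O P hP (dA hδ O z)) →
      (∀ z, D (rgt O ι z) = β * ev hK O Q hQ (dA hδ O z)) →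
      (∀ x ∈ G, p x = 0) → p s ≠ 0 → (∀ x ∈ G, D x = 0) →
      (∀ j, D (MvPolynomial.X j) = 0) ∧ α = 0 ∧ β = 0)
    (h2 : ∀ PQ ∈ S, ∃ (hP : PQ.1 ≠ O) (hQ : PQ.2 ≠ O) (c : ι → k), ∀ p : PA O ι →ₐ[k] k,
      (∀ z, p (lft O ι z) = ev hK O PQ.1 hP z) → (∀ z, p (rgt O ι z) = ev hK O PQ.2 hQ z) →
      (∀ j, p (MvPolynomial.X j) = c j) → (∀ x ∈ G, p x = 0) ∧ p s ≠ 0) :
    S.Finite := by
  classical
  haveI := finiteType O ι hK
  have hfin := Rigid.finite_points (PA O ι) (Ideal.span G) s (by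
    intro p hp hps D hD hDI
    obtain ⟨P, hP, hpP, hP2⟩ := exists_ev_eq hK O (p.comp (lft O ι))
    obtain ⟨Q, hQ, hpQ, hQ2⟩ := exists_ev_eq hK O (p.comp (rgt O ι))
    have hpP' : ∀ z, p (lft O ι z) = ev hK O P hP z := fun z => by rw [← hpP]; rfl
    have hpQ' : ∀ z, p (rgt O ι z) = ev hK O Q hQ z := fun z => by rw [← hpQ]; rfl
    have hDl : ∀ x y, (D ∘ₗ (lft O ι).toLinearMap) (x * y) =
        ev hK O P hP x * (D ∘ₗ (lft O ι).toLinearMap) y +
          ev hK O P hP y * (D ∘ₗ (lft O ι).toLinearMap) x := by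
      intro x y
      show D (lft O ι (x * y)) = _ * D (lft O ι y) + _ * D (lft O ι x)
      rw [map_mul, hD, hpP', hpP']
    have hDr : ∀ x y, (D ∘ₗ (rgt O ι).toLinearMap) (x * y) =
        ev hK O Q hQ x * (D ∘ₗ (rgt O ι).toLinearMap) y +
          ev hK O Q hQ y * (D ∘ₗ (rgt O ι).toLinearMap) x := by
      intro x y
      show D (rgt O ι (x * y)) = _ * D (rgt O ι y) + _ * D (rgt O ι x)
      rw [map_mul, hD, hpQ', hpQ']
    obtain ⟨α, hα⟩ := exists_derivation_eq hδ hK O P hP _ hDl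
      (hP2 _ (by rw [hpP]; exact hDl))
    obtain ⟨β, hβ⟩ := exists_derivation_eq hδ hK O Q hQ _ hDr
      (hQ2 _ (by rw [hpQ]; exact hDr))
    obtain ⟨hX, rfl, rfl⟩ := h1 P Q hP hQ p D α β hpP' hpQ' hD hα hβ
      (fun x hx => hp x (Ideal.subset_span hx)) hps (fun x hx => hDI x (Ideal.subset_span hx))
    refine D_eq_zero hD (fun z => ?_) (fun z => ?_) hX
    · have := hα z
      rw [zero_mul] at this
      exact this
    · have := hβ z
      rw [zero_mul] at this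
      exact this)
  refine Set.Finite.subset (hfin.biUnion (t := fun p =>
    {PQ : Place k K × Place k K | ∃ (hP : PQ.1 ≠ O) (hQ : PQ.2 ≠ O),
      p.comp (lft O ι) = ev hK O PQ.1 hP ∧ p.comp (rgt O ι) = ev hK O PQ.2 hQ}) ?_) ?_
  · intro p _
    apply Set.Subsingleton.finite
    rintro ⟨P, Q⟩ ⟨hP, hQ, e1, e2⟩ ⟨P', Q'⟩ ⟨hP', hQ', e1', e2'⟩
    have h3 := ev_injective hK O hP hP' (by rw [← e1, ← e1'])
    have h4 := ev_injective hK O hQ hQ' (by rw [← e2, ← e2'])
    simp only at h3 h4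
    rw [h3, h4]
  · rintro ⟨P, Q⟩ hPQ
    obtain ⟨hP, hQ, c, hc⟩ := h2 _ hPQ
    simp only at hP hQ hc
    let f₀ : aff (k := k) O ⊗[k] aff (k := k) O →ₐ[k] k :=
      Algebra.TensorProduct.lift (ev hK O P hP) (ev hK O Q hQ) (fun _ _ => Commute.all _ _)
    have hf₀ : ∀ x y, f₀ (x ⊗ₜ y) = ev hK O P hP x * ev hK O Q hQ y := fun x y =>
      Algebra.TensorProduct.lift_tmul _ _ _ _ _
    let f₁ : PA O ι →+* k := MvPolynomial.eval₂Hom (f₀ : _ →+* k) c
    have hf₁ : ∀ a, f₁ (MvPolynomial.C a) = f₀ a := fun a => MvPolynomial.eval₂Hom_C _ _ _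
    let p : PA O ι →ₐ[k] k := { f₁ with
      commutes' := by
        intro r
        show f₁ (algebraMap k (PA O ι) r) = r
        rw [IsScalarTower.algebraMap_apply k (aff (k := k) O ⊗[k] aff (k := k) O) (PA O ι)]
        show f₁ (MvPolynomial.C _) = r
        rw [hf₁, AlgHom.commutes]; rfl }
    have hpl : ∀ z, p (lft O ι z) = ev hK O P hP z := by
      intro z
      show f₁ (MvPolynomial.C (z ⊗ₜ (1 : aff (k := k) O))) = _
      rw [hf₁, hf₀, map_one (ev hK O Q hQ), mul_one]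
    have hpr : ∀ z, p (rgt O ι z) = ev hK O Q hQ z := by
      intro z
      show f₁ (MvPolynomial.C ((1 : aff (k := k) O) ⊗ₜ z)) = _
      rw [hf₁, hf₀, map_one (ev hK O P hP), one_mul]
    have hpX : ∀ j, p (MvPolynomial.X j) = c j := fun j => MvPolynomial.eval₂Hom_X' _ _ _
    obtain ⟨h3, h4⟩ := hc p hpl hpr hpX
    refine Set.mem_biUnion (x := p) ⟨?_, h4⟩ ⟨hP, hQ, ?_, ?_⟩
    · intro x hx
      have : Ideal.span G ≤ RingHom.ker (p : PA O ι →+* k) := Ideal.span_le.mpr h3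
      exact this hx
    · ext z; exact hpl z
    · ext z; exact hpr z

end K670.Pairs
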