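import Mathlib.RingTheory.Unramified.Finite
import Mathlib.RingTheory.Nullstellensatz
import Mathlib.FieldTheory.IsAlgClosed.Basic
import Mathlib.FieldTheory.Minpoly.Field
import Mathlib.RingTheory.SimpleModule.Basic
import Mathlib.RingTheory.Jacobson.Ring
import Mathlib.RingTheory.Localization.Away.Basic
import Mathlib.RingTheory.Localization.Away.AdjoinRoot
import Mathlib.RingTheory.FiniteType

/-! A locally closed set of points of an affine variety over an algebraically closed field all of whose
Zariski tangent spaces vanish is finite. -/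

set_option autoImplicit false
set_option linter.style.haveILetI false

namespace K670.Rigid

variable {k : Type*} [Field k] [IsAlgClosed k]

/-- A finite type algebra without nonzero point derivations is finite. -/
theorem finite_of_derivation_eq_zero (R : Type*) [CommRing R] [Algebra k R] [Algebra.FiniteType k R]
    (h : ∀ (p : R →ₐ[k] k) (D : R →ₗ[k] k), (∀ x y, D (x * y) = p x * D y + p y * D x) → D = 0) :
    Module.Finite k R := by
  have hsub : Subsingleton (Ω[R⁄k]) := by
    by_contra hns
    rw [not_subsingleton_iff_nontrivial] at hns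
    haveI : Module.Finite R (Ω[R⁄k]) := inferInstance
    obtain ⟨N, hN⟩ := (inferInstance : IsCoatomic (Submodule R (Ω[R⁄k]))).exists_coatom
    haveI hs : IsSimpleModule R (Ω[R⁄k] ⧸ N) := isSimpleModule_iff_isCoatom.mpr hN
    obtain ⟨m, hm, ⟨e⟩⟩ := isSimpleModule_iff_quot_maximal.mp hs
    let f : Ω[R⁄k] →ₗ[R] R ⧸ m := e.toLinearMap ∘ₗ N.mkQ
    have hf : Function.Surjective f := e.surjective.comp (Submodule.mkQ_surjective N)
    letI : Field (R ⧸ m) := Ideal.Quotient.field m
    haveI : Module.Finite k (R ⧸ m) := finite_of_finite_type_of_isJacobsonRing k (R ⧸ m)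
    have hbij : Function.Bijective (algebraMap k (R ⧸ m)) :=
      IsAlgClosed.algebraMap_bijective_of_isIntegral
    let ε : k ≃ₐ[k] (R ⧸ m) := AlgEquiv.ofBijective (Algebra.ofId k (R ⧸ m)) hbij
    let p : R →ₐ[k] k := (ε.symm : (R ⧸ m) →ₐ[k] k).comp (Ideal.Quotient.mkₐ k m)
    let D : R →ₗ[k] k := (ε.symm.toLinearMap).comp
      ((f.restrictScalars k).comp ((KaehlerDifferential.D k R : R →ₗ[k] Ω[R⁄k])))
    have hD : ∀ x, D x = ε.symm (f (KaehlerDifferential.D k R x)) := fun x => rfl
    have hD0 := h p D (by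
      intro x y
      rw [hD, hD, hD, Derivation.leibniz, map_add, map_smul, map_smul, map_add]
      have h1 : ∀ (a : R) (b : R ⧸ m), ε.symm (a • b) = p a * ε.symm b := by
        intro a b
        have : a • b = (Ideal.Quotient.mk m a) * b := by
          rw [Algebra.smul_def]; rfl
        rw [this, map_mul]; rfl
      rw [h1, h1])
    have hf0 : f = 0 := by
      have h2 : ∀ x, f (KaehlerDifferential.D k R x) = 0 := by
        intro x
        have h3 : D x = 0 := by rw [hD0]; rfl
        rw [hD] at h3
        exact (map_eq_zero_iff ε.symm ε.symm.injective).mp h3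
      apply LinearMap.ext
      intro ω
      have h4 : ω ∈ Submodule.span R (Set.range (KaehlerDifferential.D k R)) := by
        rw [KaehlerDifferential.span_range_derivation]; trivial
      induction h4 using Submodule.span_induction with
      | mem x hx => obtain ⟨y, rfl⟩ := hx; exact h2 y
      | zero => simp
      | add x y _ _ hx hy => rw [map_add, hx, hy]; simp
      | smul a x _ hx => rw [map_smul, hx]; simp
    obtain ⟨ω, hω⟩ := hf 1
    rw [hf0] at hω
    exact zero_ne_one hω
  haveI : Algebra.FormallyUnramified k R := (Algebra.formallyUnramified_iff k R).mpr hsub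
  exact Algebra.FormallyUnramified.finite_of_free k R

/-- Finiteness of a locally closed set of points with vanishing tangent spaces. -/
theorem finite_points (R₀ : Type*) [CommRing R₀] [Algebra k R₀] [Algebra.FiniteType k R₀]
    (I : Ideal R₀) (s : R₀)
    (h : ∀ p : R₀ →ₐ[k] k, (∀ x ∈ I, p x = 0) → p s ≠ 0 → ∀ D : R₀ →ₗ[k] k,
      (∀ x y, D (x * y) = p x * D y + p y * D x) → (∀ x ∈ I, D x = 0) → D = 0) :
    {p : R₀ →ₐ[k] k | (∀ x ∈ I, p x = 0) ∧ p s ≠ 0}.Finite := by
  classical
  let S := Localization.Away (Ideal.Quotient.mk I s)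
  haveI : Algebra.FiniteType k (R₀ ⧸ I) := Algebra.FiniteType.of_surjective
    (Ideal.Quotient.mkₐ k I) (Ideal.Quotient.mkₐ_surjective k I)
  haveI : Algebra.FiniteType k S := inferInstance
  let ι : R₀ →ₐ[k] S := (IsScalarTower.toAlgHom k (R₀ ⧸ I) S).comp (Ideal.Quotient.mkₐ k I)
  have hιs : IsUnit (ι s) := IsLocalization.Away.algebraMap_isUnit (Ideal.Quotient.mk I s)
  have hιI : ∀ x ∈ I, ι x = 0 := by
    intro x hx
    show algebraMap (R₀ ⧸ I) S (Ideal.Quotient.mk I x) = 0
    rw [Ideal.Quotient.eq_zero_iff_mem.mpr hx, map_zero]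
  have hιden : ∀ r : S, ∃ (x : R₀) (n : ℕ), ι s ^ n * r = ι x := by
    intro r
    obtain ⟨⟨a, b⟩, hab⟩ := IsLocalization.surj (Submonoid.powers (Ideal.Quotient.mk I s)) r
    obtain ⟨x, rfl⟩ := Ideal.Quotient.mk_surjective a
    obtain ⟨n, hn⟩ := b.2
    refine ⟨x, n, ?_⟩
    have h1 : ι s ^ n = algebraMap (R₀ ⧸ I) S b := by
      rw [← hn, map_pow]; rfl
    rw [h1, mul_comm]
    exact hab
  haveI hfin : Module.Finite k S := by
    apply finite_of_derivation_eq_zero
    intro p D hD
    have hps : p (ι s) ≠ 0 := by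
      have := hιs.map p
      exact this.ne_zero
    have h0 := h (p.comp ι) (fun x hx => by
        show p (ι x) = 0
        rw [hιI x hx, map_zero]) hps (D.comp ι.toLinearMap) (by
        intro x y
        show D (ι (x * y)) = p (ι x) * D (ι y) + p (ι y) * D (ι x)
        rw [map_mul, hD]) (by
        intro x hx
        show D (ι x) = 0
        rw [hιI x hx, map_zero])
    have h1 : ∀ x, D (ι x) = 0 := fun x => LinearMap.congr_fun h0 x
    apply LinearMap.ext
    intro r
    obtain ⟨x, n, hx⟩ := hιden r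
    have h2 : D (ι s ^ n * r) = 0 := by rw [hx, h1]
    rw [hD, ← map_pow ι, h1, mul_zero, add_zero, map_pow, map_pow] at h2
    rcases mul_eq_zero.mp h2 with h3 | h3
    · exact absurd h3 (pow_ne_zero n hps)
    · exact h3
  haveI : Fintype (S →ₐ[k] k) := minpoly.AlgHom.fintype k S k
  refine (Set.finite_range (fun q : S →ₐ[k] k => q.comp ι)).subset ?_
  rintro p ⟨hp1, hp2⟩
  let p' : (R₀ ⧸ I) →ₐ[k] k := Ideal.Quotient.liftₐ I p hp1
  have hp' : IsUnit (p' (Ideal.Quotient.mk I s)) := by
    have : p' (Ideal.Quotient.mk I s) = p s := rfl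
    rw [this]
    exact IsUnit.mk0 _ hp2
  let q : S →+* k := IsLocalization.Away.lift (Ideal.Quotient.mk I s) (g := (p' : (R₀ ⧸ I) →+* k)) hp'
  have hq : ∀ x : R₀ ⧸ I, q (algebraMap (R₀ ⧸ I) S x) = p' x := fun x =>
    IsLocalization.Away.lift_eq _ hp' x
  let q' : S →ₐ[k] k := { q with
    commutes' := by
      intro c
      show q (algebraMap k S c) = c
      rw [IsScalarTower.algebraMap_apply k (R₀ ⧸ I) S, hq, AlgHom.commutes]; rfl }
  refine ⟨q', ?_⟩
  ext x
  show q (algebraMap (R₀ ⧸ I) S (Ideal.Quotient.mk I x)) = p x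
  rw [hq]; rfl

end K670.Rigid
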