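import Groth.Agent.FunFld.K670.InvDer
import Groth.Agent.FunFld.K670.Rigid
import Mathlib.RingTheory.TensorProduct.Finite
import Mathlib.RingTheory.TensorProduct.Basic
import Mathlib.Algebra.MvPolynomial.Basic

/-! The parameter algebra for functions together with two points. -/

set_option autoImplicit false
set_option linter.style.haveILetI false
set_option linter.unusedSectionVars false

namespace K670.Param

open FunFld K670.Aff K670.InvDer TensorProduct

variable {k K : Type*} [Field k] [Field K] [Algebra k K]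

/-- The parameter algebra: coefficients indexed by `ι` and two points. -/
abbrev PA (O : Place k K) (ι : Type) : Type _ := MvPolynomial ι (aff (k := k) O ⊗[k] aff (k := k) O)

variable (O : Place k K) (ι : Type)

/-- The first point. -/
noncomputable def lft : aff (k := k) O →ₐ[k] PA O ι :=
  (IsScalarTower.toAlgHom k (aff (k := k) O ⊗[k] aff (k := k) O) (PA O ι)).comp
    Algebra.TensorProduct.includeLeft

/-- The second point. -/
noncomputable def rgt : aff (k := k) O →ₐ[k] PA O ι :=
  (IsScalarTower.toAlgHom k (aff (k := k) O ⊗[k] aff (k := k) O) (PA O ι)).comp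
    Algebra.TensorProduct.includeRight

theorem lft_mul_rgt (x y : aff (k := k) O) : lft O ι x * rgt O ι y = MvPolynomial.C (x ⊗ₜ y) := by
  show MvPolynomial.C (x ⊗ₜ (1 : aff (k := k) O)) * MvPolynomial.C ((1 : aff (k := k) O) ⊗ₜ y) = _
  rw [← map_mul, Algebra.TensorProduct.tmul_mul_tmul, mul_one, one_mul]

theorem finiteType [IsAlgClosed k] (hK : IsFunctionField k K) [Finite ι] : Algebra.FiniteType k (PA O ι) := by
  haveI := finiteType_aff hK O
  haveI : Algebra.FiniteType (aff (k := k) O) (aff (k := k) O ⊗[k] aff (k := k) O) :=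
    Algebra.FiniteType.baseChange _
  haveI : Algebra.FiniteType k (aff (k := k) O ⊗[k] aff (k := k) O) :=
    Algebra.FiniteType.trans (S := aff (k := k) O) inferInstance inferInstance
  haveI : Algebra.FiniteType (aff (k := k) O ⊗[k] aff (k := k) O) (PA O ι) :=
    inferInstance
  exact Algebra.FiniteType.trans (S := aff (k := k) O ⊗[k] aff (k := k) O) inferInstance inferInstance

section Der

variable {O ι}
variable {p : PA O ι →ₐ[k] k} {D : PA O ι →ₗ[k] k} (hD : ∀ x y, D (x * y) = p x * D y + p y * D x)
include hD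

theorem D_eq_zero (h1 : ∀ z, D (lft O ι z) = 0) (h2 : ∀ z, D (rgt O ι z) = 0)
    (h3 : ∀ j : ι, D (MvPolynomial.X j) = 0) : D = 0 := by
  have hC : ∀ a : aff (k := k) O ⊗[k] aff (k := k) O, D (MvPolynomial.C a) = 0 := by
    intro a
    induction a using TensorProduct.induction_on with
    | zero => rw [map_zero, map_zero]
    | tmul x y => rw [← lft_mul_rgt, hD, h1, h2, mul_zero, mul_zero, add_zero]
    | add x y hx hy => rw [map_add, map_add, hx, hy, add_zero]
  apply LinearMap.ext
  intro f
  induction f using MvPolynomial.induction_on with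
  | C a => rw [hC]; rfl
  | add f g hf hg => rw [map_add, hf, hg]; simp
  | mul_X f j hf => rw [hD, h3, hf]; simp

end Der

variable {δ : Derivation k K K} (hδ : IsInv δ)
variable {O ι} [Fintype ι]

/-- The `i`-th derivative at a point of the universal combination of the functions `e j`. -/
noncomputable def U (φ : aff (k := k) O →ₐ[k] PA O ι) (e : ι → aff (k := k) O) (i : ℕ) : PA O ι :=
  ∑ j, MvPolynomial.X j * φ ((dA hδ O ^ i) (e j))

theorem p_U (φ : aff (k := k) O →ₐ[k] PA O ι) (e : ι → aff (k := k) O) (i : ℕ) (p : PA O ι →ₐ[k] k) :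
    p (U hδ φ e i) = p (φ ((dA hδ O ^ i) (∑ j, p (MvPolynomial.X j) • e j))) := by
  unfold U
  simp only [map_sum, map_mul, map_smul, smul_eq_mul]

theorem D_U (φ : aff (k := k) O →ₐ[k] PA O ι) (e : ι → aff (k := k) O) (i : ℕ)
    {p : PA O ι →ₐ[k] k} {D : PA O ι →ₗ[k] k} (hD : ∀ x y, D (x * y) = p x * D y + p y * D x) :
    D (U hδ φ e i) = D (φ ((dA hδ O ^ i) (∑ j, p (MvPolynomial.X j) • e j))) +
      p (φ ((dA hδ O ^ i) (∑ j, D (MvPolynomial.X j) • e j))) := by
  unfold U
  simp only [map_sum, map_smul, smul_eq_mul, hD]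
  rw [← Finset.sum_add_distrib]
  refine Finset.sum_congr rfl fun j _ => ?_
  ring

end K670.Param
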