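import Groth.Agent.FunFld.K670.SetG

/-! Claim C: finiteness of the set of pairs `(P, Q)` with a function with poles of order at most `n`
at `O`, equal to `1` at `P` to order `> a` and to `0` at `Q` to order `> b`, `n ≤ a + b`. -/

set_option autoImplicit false
set_option linter.style.haveILetI false
set_option linter.unusedSectionVars false

namespace K670.SetC

open FunFld K670.Aff K670.InvDer K670.Param K670.ClaimG K670.Pairs K670.SetG

variable {k K : Type*} [Field k] [Field K] [Algebra k K]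

/-- Claim C. -/
def CSet (O : Place k K) (n a b : ℕ) : Set (Place k K × Place k K) :=
  {PQ | PQ.1 ≠ O ∧ PQ.2 ≠ O ∧ ∃ g : K, g ∈ aff (k := k) O ∧ O.1 g ≤ WithZero.exp (n : ℤ) ∧
    PQ.1.1 (g - 1) ≤ WithZero.exp (-((a + 1 : ℕ) : ℤ)) ∧
    PQ.2.1 g ≤ WithZero.exp (-((b + 1 : ℕ) : ℤ))}

variable [IsAlgClosed k] (hK : IsFunctionField k K)
include hK

/-- A nonzero function with zero of order at least `r` at `P` and pole of order `≤ n` at `O`. -/
theorem zero_le_pole {O P : Place k K} (hP : P ≠ O) {z : K} (hz : z ≠ 0) (hzA : z ∈ aff (k := k) O)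
    {n r : ℤ} (hO : O.1 z ≤ WithZero.exp n) (hr : P.1 z ≤ WithZero.exp (-r)) : r ≤ n := by
  classical
  have h1 : z ∈ L (Finsupp.single O n - Finsupp.single P r) := by
    intro R
    rw [Finsupp.sub_apply, Finsupp.single_apply, Finsupp.single_apply]
    by_cases h1 : O = R
    · subst h1
      rw [if_pos rfl, if_neg hP]; simpa using hO
    · rw [if_neg h1]
      by_cases h2 : P = R
      · subst h2
        rw [if_pos rfl]; simpa using hr
      · rw [if_neg h2]
        simpa using hzA R (Ne.symm h1)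
  by_contra hlt
  have h2 := Base.L_eq_bot_of_deg_neg hK (Finsupp.single O n - Finsupp.single P r)
    (by rw [Gen.deg_sub_single hK, Gen.deg_single' hK]; omega)
  rw [h2] at h1
  exact hz h1

theorem finite_CSet {δ : Derivation k K K} (hδ : IsInv δ) (hg : genus k K = 1) (O : Place k K)
    {n a b : ℕ} (hn : n ≤ a + b) : (CSet (k := k) O n a b).Finite := by
  classical
  have hT : {t : ℕ × ℕ × ℕ | t.1 ≤ n ∧ t.2.1 ≤ n ∧ t.2.2 ≤ n ∧ t.1 ≤ t.2.1 + t.2.2 ∧ 1 ≤ t.1}.Finite := by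
    refine (Set.finite_Iic ((n, n, n) : ℕ × ℕ × ℕ)).subset ?_
    rintro ⟨x, y, z⟩ ⟨h1, h2, h3, _, _⟩
    exact ⟨h1, h2, h3⟩
  refine (hT.biUnion (t := fun t => GSet (k := k) O t.1 t.2.1 t.2.2) ?_).subset ?_
  · rintro t ⟨_, _, _, h4, h5⟩
    exact finite_GSet hδ hK hg O h4 h5
  · rintro ⟨P, Q⟩ ⟨hP, hQ, g, hgA, hgO, hgP, hgQ⟩
    simp only at hP hQ hgP hgQ
    have hPlt : P.1 (g - 1) < 1 := lt_of_le_of_lt hgP (exp_neg_lt_one hK (by omega))
    have hQlt : Q.1 g < 1 := lt_of_le_of_lt hgQ (exp_neg_lt_one hK (by omega))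
    have hg0 : g ≠ 0 := by
      rintro rfl
      rw [zero_sub, Valuation.map_neg, map_one] at hPlt
      exact lt_irrefl _ hPlt
    have hg1 : g - 1 ≠ 0 := by
      intro h
      have : g = 1 := sub_eq_zero.mp h
      rw [this, map_one] at hQlt
      exact lt_irrefl _ hQlt
    have hg1A : g - 1 ∈ aff (k := k) O := Subalgebra.sub_mem _ hgA (Subalgebra.one_mem _)
    -- the orders
    have e1 := Gen.v_eq_exp P hg1
    have e2 := Gen.v_eq_exp Q hg0
    have e3 := Gen.v_eq_exp O hg0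
    rw [e1, WithZero.exp_le_exp] at hgP
    rw [e2, WithZero.exp_le_exp] at hgQ
    rw [e3, WithZero.exp_le_exp] at hgO
    have hb := zero_le_pole hK hQ hg0 hgA (n := -O.ord g) (r := Q.ord g) e3.le e2.le
    have hg1O : O.1 (g - 1) ≤ WithZero.exp (-O.ord g) := by
      refine (O.1.map_sub _ _).trans (max_le e3.le ?_)
      rw [map_one, ← WithZero.exp_zero, WithZero.exp_le_exp]
      push_cast at hgQ
      omega
    have ha := zero_le_pole hK hP hg1 hg1A (n := -O.ord g) (r := P.ord (g - 1)) hg1O e1.le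
    push_cast at hgP hgQ
    obtain ⟨m, hm⟩ : ∃ m : ℕ, -O.ord g = m := ⟨(-O.ord g).toNat, by omega⟩
    obtain ⟨a', ha'⟩ : ∃ a' : ℕ, P.ord (g - 1) = a' + 1 := ⟨(P.ord (g - 1) - 1).toNat, by omega⟩
    obtain ⟨b', hb'⟩ : ∃ b' : ℕ, Q.ord g = b' + 1 := ⟨(Q.ord g - 1).toNat, by omega⟩
    refine Set.mem_biUnion (x := (m, a', b')) ?_ ?_
    · refine ⟨?_, ?_, ?_, ?_, ?_⟩ <;> (simp only; omega)
    · refine ⟨hP, hQ, g, hgA, ?_, ?_, ?_⟩
      · rw [e3, hm]
      · rw [e1, ha']; push_cast; rfl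
      · rw [e2, hb']; push_cast; rfl

end K670.SetC
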