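import Groth.Agent.FunFld.K670.Pairs

/-! Claims G and C: pairs of points with too large multiplicities. -/

set_option autoImplicit false
set_option linter.style.haveILetI false
set_option linter.unusedSectionVars false

namespace K670.SetG

open FunFld K670.Aff K670.InvDer K670.Param K670.ClaimG K670.Pairs TensorProduct

variable {k K : Type*} [Field k] [Field K] [Algebra k K]
variable {δ : Derivation k K K} (hδ : IsInv δ)

/-- The universal function with a constant term. -/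
noncomputable def W {O : Place k K} {ι : Type} [Fintype ι] (φ : aff (k := k) O →ₐ[k] PA O ι)
    (e₀ : aff (k := k) O) (e : ι → aff (k := k) O) (i : ℕ) : PA O ι :=
  φ ((dA hδ O ^ i) e₀) + U hδ φ e i

/-- The function with coefficients `c`. -/
noncomputable def fn {O : Place k K} {ι : Type} [Fintype ι] (e₀ : aff (k := k) O)
    (e : ι → aff (k := k) O) (c : ι → k) : aff (k := k) O := e₀ + ∑ j, c j • e j

section W

variable {O : Place k K} {ι : Type} [Fintype ι] {e₀ : aff (k := k) O} {e : ι → aff (k := k) O}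
variable {p : PA O ι →ₐ[k] k} {D : PA O ι →ₗ[k] k} {c : ι → k} (hc : ∀ j, p (MvPolynomial.X j) = c j)
include hc

theorem p_W (φ : aff (k := k) O →ₐ[k] PA O ι) (i : ℕ) :
    p (W hδ φ e₀ e i) = p (φ ((dA hδ O ^ i) (fn e₀ e c))) := by
  unfold W fn
  rw [map_add, p_U, map_add, map_add, map_add]
  simp only [hc]

theorem D_W (φ : aff (k := k) O →ₐ[k] PA O ι) (i : ℕ)
    (hD : ∀ x y, D (x * y) = p x * D y + p y * D x) :
    D (W hδ φ e₀ e i) = D (φ ((dA hδ O ^ i) (fn e₀ e c))) +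
      p (φ ((dA hδ O ^ i) (fn 0 e fun j => D (MvPolynomial.X j)))) := by
  unfold W fn
  rw [map_add, D_U hδ φ e i hD, map_add, map_add, map_add, zero_add]
  simp only [hc]
  ring

end W

theorem dA_succ (O : Place k K) (i : ℕ) (z : aff (k := k) O) :
    dA hδ O ((dA hδ O ^ i) z) = (dA hδ O ^ (i + 1)) z := by
  rw [pow_succ']; rfl

section AC

variable [IsAlgClosed k] (hK : IsFunctionField k K)
include hK

section evW

variable {O : Place k K} {ι : Type} [Fintype ι] {e₀ : aff (k := k) O} {e : ι → aff (k := k) O}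
variable {p : PA O ι →ₐ[k] k} {D : PA O ι →ₗ[k] k} {c : ι → k} (hc : ∀ j, p (MvPolynomial.X j) = c j)
variable (P : Place k K) (hP : P ≠ O) {φ : aff (k := k) O →ₐ[k] PA O ι}
  (hφ : ∀ z, p (φ z) = ev hK O P hP z)
include hc hφ

theorem p_W' (i : ℕ) : p (W hδ φ e₀ e i) = ev hK O P hP ((dA hδ O ^ i) (fn e₀ e c)) := by
  rw [p_W hδ hc, hφ]

theorem D_W' (i : ℕ) (hD : ∀ x y, D (x * y) = p x * D y + p y * D x) {α : k}
    (hα : ∀ z, D (φ z) = α * ev hK O P hP (dA hδ O z)) :
    D (W hδ φ e₀ e i) = α * ev hK O P hP ((dA hδ O ^ (i + 1)) (fn e₀ e c)) +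
      ev hK O P hP ((dA hδ O ^ i) (fn 0 e fun j => D (MvPolynomial.X j))) := by
  rw [D_W hδ hc φ i hD, hφ, hα, dA_succ]

end evW

include hδ

theorem exists_coord {O : Place k K} {n : ℤ} {m : ℕ}
    (f : Module.Basis (Fin m) k ↥(L (Finsupp.single O n)))
    {z : K} (hz : z ∈ aff (k := k) O) (hzn : O.1 z ≤ WithZero.exp n) :
    ∃ c : Fin m → k, ∑ j, c j • ((f j : ↥(L (Finsupp.single O n))) : K) = z := by
  have hmem : z ∈ L (Finsupp.single O n) := by
    classical
    intro P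
    rw [Finsupp.single_apply]
    split_ifs with h
    · subst h; exact hzn
    · rw [WithZero.exp_zero]; exact hz P (Ne.symm h)
  refine ⟨fun j => f.repr ⟨z, hmem⟩ j, ?_⟩
  have := congrArg (Submodule.subtype _) (f.sum_repr ⟨z, hmem⟩)
  simp only [map_sum, map_smul, Submodule.subtype_apply] at this
  exact this

/-- Claim G. -/
def GSet (O : Place k K) (m a b : ℕ) : Set (Place k K × Place k K) :=
  {PQ | PQ.1 ≠ O ∧ PQ.2 ≠ O ∧ ∃ g : K, g ∈ aff (k := k) O ∧ O.1 g = WithZero.exp (m : ℤ) ∧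
    PQ.1.1 (g - 1) = WithZero.exp (-((a + 1 : ℕ) : ℤ)) ∧
    PQ.2.1 g = WithZero.exp (-((b + 1 : ℕ) : ℤ))}

theorem finite_GSet (hg : genus k K = 1) (O : Place k K) {m a b : ℕ} (hm : m ≤ a + b) (hm1 : 1 ≤ m) :
    (GSet (k := k) O m a b).Finite := by
  classical
  rcases (GSet (k := k) O m a b).eq_empty_or_nonempty with hemp | ⟨PQ₀, _, _, g₀, hg₀, hg₀m, _, _⟩
  · rw [hemp]; exact Set.finite_empty
  haveI := Base.finiteDimensional_L hK (Finsupp.single O ((m : ℤ) - 1))
  let f := Module.finBasis k ↥(L (Finsupp.single O ((m : ℤ) - 1) : Divisor k K))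
  set n := Module.finrank k ↥(L (Finsupp.single O ((m : ℤ) - 1) : Divisor k K)) with hn
  let e : Option (Fin n) → aff (k := k) O := fun j =>
    match j with
    | none => ⟨g₀, hg₀⟩
    | some j => ⟨f j, mem_aff_of_mem_L (f j).2⟩
  -- the function with coefficients `c`
  have hfnK : ∀ c : Option (Fin n) → k, ((fn 0 e c : aff (k := k) O) : K) =
      c none • g₀ + ((∑ j, c (some j) • f j : ↥(L (Finsupp.single O ((m : ℤ) - 1)))) : K) := by
    intro c
    unfold fn
    rw [zero_add, Fintype.sum_option]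
    push_cast
    rfl
  have hO_L : ∀ x : ↥(L (Finsupp.single O ((m : ℤ) - 1)) : Submodule k K),
      O.1 (x : K) ≤ WithZero.exp ((m : ℤ) - 1) := by
    intro x
    have := x.2 O
    rwa [Finsupp.single_eq_same] at this
  have hO_ne : ∀ c : Option (Fin n) → k, c none ≠ 0 → O.1 ((fn 0 e c : aff (k := k) O) : K) =
      WithZero.exp (m : ℤ) := by
    intro c hc
    rw [hfnK]
    have h1 : O.1 (c none • g₀) = WithZero.exp (m : ℤ) := by
      rw [Algebra.smul_def, map_mul, Gen.v_algebraMap O hc, one_mul, hg₀m]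
    rw [Valuation.map_add_eq_of_lt_left, h1]
    rw [h1]
    refine lt_of_le_of_lt (hO_L _) ?_
    rw [WithZero.exp_lt_exp]; omega
  have hO_le : ∀ c : Option (Fin n) → k, O.1 ((fn 0 e c : aff (k := k) O) : K) ≤
      WithZero.exp (m : ℤ) := by
    intro c
    rw [hfnK]
    refine (O.1.map_add _ _).trans (max_le ?_ ((hO_L _).trans ?_))
    · rw [Algebra.smul_def, map_mul, hg₀m]
      calc _ ≤ 1 * WithZero.exp (m : ℤ) := mul_le_mul' (O.2.1 _) le_rfl
        _ = _ := one_mul _
    · rw [WithZero.exp_le_exp]; omega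
  have hinj : ∀ c : Option (Fin n) → k, ((fn 0 e c : aff (k := k) O) : K) = 0 → ∀ j, c j = 0 := by
    intro c hc
    have h0 : c none = 0 := by
      by_contra h0
      have := hO_ne c h0
      rw [hc, map_zero] at this
      exact WithZero.exp_ne_zero this.symm
    rw [hfnK, h0, zero_smul, zero_add] at hc
    have h1 := Submodule.coe_eq_zero.mp hc
    have h2 := Fintype.linearIndependent_iff.mp f.linearIndependent _ h1
    intro j
    cases j with
    | none => exact h0
    | some j => exact h2 j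
  let ι := Option (Fin n)
  let G : Set (PA O ι) := {x | (∃ i ≤ b, x = W hδ (rgt O ι) 0 e i) ∨
    (x = W hδ (lft O ι) 0 e 0 - 1) ∨ (∃ i, 1 ≤ i ∧ i ≤ a ∧ x = W hδ (lft O ι) 0 e i)}
  let s : PA O ι := MvPolynomial.X none * W hδ (lft O ι) 0 e (a + 1) * W hδ (rgt O ι) 0 e (b + 1)
  refine finite_pairs hδ hK O ι G s _ ?_ ?_
  · intro P Q hP hQ p D α β hpP hpQ hD hα hβ hG hs hDG
    set c : ι → k := fun j => p (MvPolynomial.X j) with hcdef
    have hc : ∀ j, p (MvPolynomial.X j) = c j := fun j => rfl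
    have hD1 : D 1 = 0 := by
      have h2 : D 1 = D 1 + D 1 := by
        have := hD 1 1
        rw [mul_one, map_one p, one_mul] at this
        exact this
      exact left_eq_add.mp h2
    have hs' : p (MvPolynomial.X none) * p (W hδ (lft O ι) 0 e (a + 1)) *
        p (W hδ (rgt O ι) 0 e (b + 1)) ≠ 0 := by
      rw [← map_mul, ← map_mul]; exact hs
    have hs1 : c none ≠ 0 := left_ne_zero_of_mul (left_ne_zero_of_mul hs')
    have hs2 : p (W hδ (lft O ι) 0 e (a + 1)) ≠ 0 := right_ne_zero_of_mul (left_ne_zero_of_mul hs')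
    have hs3 : p (W hδ (rgt O ι) 0 e (b + 1)) ≠ 0 := right_ne_zero_of_mul hs'
    rw [p_W' hδ hK hc P hP hpP] at hs2
    rw [p_W' hδ hK hc Q hQ hpQ] at hs3
    set g : aff (k := k) O := fn 0 e c with hgdef
    set γ : aff (k := k) O := fn 0 e (fun j => D (MvPolynomial.X j)) with hγdef
    have hQg : ∀ i ≤ b, ev hK O Q hQ ((dA hδ O ^ i) g) = 0 := by
      intro i hi
      rw [← p_W' hδ hK hc Q hQ hpQ]
      exact hG _ (Or.inl ⟨i, hi, rfl⟩)
    have hPg0 : ev hK O P hP g = 1 := by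
      have h1 := hG _ (Or.inr (Or.inl rfl))
      rw [map_sub, map_one p, p_W' hδ hK hc P hP hpP, sub_eq_zero] at h1
      exact h1
    have hPg : ∀ i, 1 ≤ i → i ≤ a → ev hK O P hP ((dA hδ O ^ i) g) = 0 := by
      intro i hi hia
      rw [← p_W' hδ hK hc P hP hpP]
      exact hG _ (Or.inr (Or.inr ⟨i, hi, hia, rfl⟩))
    have hQd : ∀ i ≤ b, β * ev hK O Q hQ ((dA hδ O ^ (i + 1)) g) +
        ev hK O Q hQ ((dA hδ O ^ i) γ) = 0 := by
      intro i hi
      rw [← D_W' hδ hK hc Q hQ hpQ i hD hβ]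
      exact hDG _ (Or.inl ⟨i, hi, rfl⟩)
    have hPd : ∀ i ≤ a, α * ev hK O P hP ((dA hδ O ^ (i + 1)) g) +
        ev hK O P hP ((dA hδ O ^ i) γ) = 0 := by
      intro i hi
      rw [← D_W' hδ hK hc P hP hpP i hD hα]
      rcases Nat.eq_zero_or_pos i with rfl | hpos
      · have h1 := hDG _ (Or.inr (Or.inl rfl))
        rw [map_sub, hD1, sub_zero] at h1
        exact h1
      · exact hDG _ (Or.inr (Or.inr ⟨i, hpos, hi, rfl⟩))
    have vQ : Q.1 (g : K) = WithZero.exp (-((b + 1 : ℕ) : ℤ)) :=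
      (taylor_eq hδ hK O Q hQ (b + 1) g).mpr ⟨fun i hi => hQg i (by omega), hs3⟩
    have vP : P.1 ((g : K) - 1) = WithZero.exp (-((a + 1 : ℕ) : ℤ)) := by
      have h1 := (taylor_eq hδ hK O P hP (a + 1) (g - 1)).mpr ⟨?_, ?_⟩
      · exact h1
      · intro i hi
        rcases Nat.eq_zero_or_pos i with rfl | hpos
        · show ev hK O P hP (g - 1) = 0
          rw [map_sub, hPg0, map_one (ev hK O P hP), sub_self]
        · rw [map_sub, dA_pow_one hδ hK O i hpos, sub_zero]
          exact hPg i hpos (by omega)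
      · rw [map_sub, dA_pow_one hδ hK O _ (by omega), sub_zero]
        exact hs2
    have vQγ : Q.1 (γ : K) ≤ WithZero.exp (-(b : ℤ)) := by
      rw [taylor hδ hK O Q hQ b γ]
      intro i hi
      have h1 := hQd i hi.le
      rw [hQg (i + 1) (by omega), mul_zero, zero_add] at h1
      exact h1
    have vPγ : P.1 (γ : K) ≤ WithZero.exp (-(a : ℤ)) := by
      rw [taylor hδ hK O P hP a γ]
      intro i hi
      have h1 := hPd i hi.le
      rw [hPg (i + 1) (by omega) (by omega), mul_zero, zero_add] at h1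
      exact h1
    have hγ0 := core hδ hK hg hP hQ hm hm1 g.2 (hO_ne c hs1) vP vQ γ.2 (hO_le _) vPγ vQγ
    have hγ0' : γ = 0 := Subtype.ext hγ0
    refine ⟨hinj _ hγ0, ?_, ?_⟩
    · have h1 := hPd a le_rfl
      rw [hγ0', map_zero, map_zero, add_zero] at h1
      exact (mul_eq_zero.mp h1).resolve_right hs2
    · have h1 := hQd b le_rfl
      rw [hγ0', map_zero, map_zero, add_zero] at h1
      exact (mul_eq_zero.mp h1).resolve_right hs3
  · rintro ⟨P, Q⟩ ⟨hP, hQ, g, hgA, hgO, hgP, hgQ⟩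
    simp only at hP hQ hgP hgQ
    -- coordinates
    obtain ⟨c₀, hc₀⟩ : ∃ c₀ : k, O.1 (g / g₀ - algebraMap k K c₀) < 1 := by
      apply Gen.exists_const_sub_lt_one hK
      rw [map_div₀, hgO, hg₀m, ← WithZero.exp_sub, sub_self, WithZero.exp_zero]
    have hg₀0 : g₀ ≠ 0 := by
      rintro rfl
      rw [map_zero] at hg₀m
      exact WithZero.exp_ne_zero hg₀m.symm
    have hc₀0 : c₀ ≠ 0 := by
      rintro rfl
      rw [map_zero, sub_zero, map_div₀, hgO, hg₀m, ← WithZero.exp_sub, sub_self,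
        WithZero.exp_zero] at hc₀
      exact lt_irrefl _ hc₀
    have hrem : O.1 (g - c₀ • g₀) ≤ WithZero.exp ((m : ℤ) - 1) := by
      have e1 : g - c₀ • g₀ = (g / g₀ - algebraMap k K c₀) * g₀ := by
        rw [Algebra.smul_def]; field_simp
      rw [e1, map_mul, hg₀m]
      rcases eq_or_ne (g / g₀ - algebraMap k K c₀) 0 with h0 | h0
      · rw [h0, map_zero, zero_mul]; exact zero_le
      · rw [Gen.v_eq_exp O h0, ← WithZero.exp_zero, WithZero.exp_lt_exp] at hc₀
        rw [Gen.v_eq_exp O h0, ← WithZero.exp_add, WithZero.exp_le_exp]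
        omega
    have hremA : g - c₀ • g₀ ∈ aff (k := k) O :=
      Subalgebra.sub_mem _ hgA (Subalgebra.smul_mem _ hg₀ _)
    obtain ⟨c, hc⟩ := exists_coord hδ hK f hremA hrem
    have hsumK : ∀ c : Fin n → k,
        ((∑ j, c j • f j : ↥(L (Finsupp.single O ((m : ℤ) - 1)))) : K) =
          ∑ j, c j • ((f j : ↥(L (Finsupp.single O ((m : ℤ) - 1)))) : K) := by
      intro c; push_cast; rfl
    let c' : ι → k := fun j => match j with
      | none => c₀
      | some j => c j
    have hfn : fn 0 e c' = (⟨g, hgA⟩ : aff (k := k) O) := by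
      apply Subtype.ext
      rw [hfnK]
      show c₀ • g₀ + ((∑ j, c j • f j : ↥(L (Finsupp.single O ((m : ℤ) - 1)))) : K) = g
      rw [hsumK, hc]
      ring
    refine ⟨hP, hQ, c', ?_⟩
    intro p hpP hpQ hpX
    have tQ := (taylor_eq hδ hK O Q hQ (b + 1) ⟨g, hgA⟩).mp hgQ
    have tP := (taylor_eq hδ hK O P hP (a + 1) (⟨g, hgA⟩ - 1)).mp hgP
    have tP' : ∀ i, 1 ≤ i → i ≤ a → ev hK O P hP ((dA hδ O ^ i) ⟨g, hgA⟩) = 0 := by
      intro i hi hia
      have := tP.1 i (by omega)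
      rwa [map_sub, dA_pow_one hδ hK O i hi, sub_zero] at this
    have tP0 : ev hK O P hP ⟨g, hgA⟩ = 1 := by
      have : ev hK O P hP (⟨g, hgA⟩ - 1) = 0 := tP.1 0 (by omega)
      rwa [map_sub, map_one (ev hK O P hP), sub_eq_zero] at this
    refine ⟨?_, ?_⟩
    · rintro x (⟨i, hi, rfl⟩ | rfl | ⟨i, hi, hia, rfl⟩)
      · rw [p_W' hδ hK hpX Q hQ hpQ, hfn]
        exact tQ.1 i (by omega)
      · rw [map_sub, map_one p, p_W' hδ hK hpX P hP hpP, hfn, sub_eq_zero]
        exact tP0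
      · rw [p_W' hδ hK hpX P hP hpP, hfn]
        exact tP' i hi hia
    · show p (MvPolynomial.X none * W hδ (lft O ι) 0 e (a + 1) * W hδ (rgt O ι) 0 e (b + 1)) ≠ 0
      rw [map_mul, map_mul, p_W' hδ hK hpX P hP hpP, p_W' hδ hK hpX Q hQ hpQ, hfn, hpX]
      refine mul_ne_zero (mul_ne_zero hc₀0 ?_) tQ.2
      have := tP.2
      rwa [map_sub, dA_pow_one hδ hK O _ (by omega), sub_zero] at this

end AC

end K670.SetG
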