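import Groth.Agent.FunFld.K670.CoreH

/-! Claim H. -/

set_option autoImplicit false
set_option linter.style.haveILetI false
set_option linter.unusedSectionVars false

namespace K670.SetH

open FunFld K670.Aff K670.InvDer K670.Param K670.ClaimG K670.Pairs K670.SetG K670.SetC K670.CoreH

variable {k K : Type*} [Field k] [Field K] [Algebra k K]

/-- Claim H. -/
def HSet (O : Place k K) (a b : ℕ) : Set (Place k K × Place k K) :=
  {PQ | PQ.1 ≠ O ∧ PQ.2 ≠ O ∧ ∃ g h : aff (k := k) O,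
    O.1 (g : K) ≤ WithZero.exp ((a : ℤ) + b + 1) ∧ O.1 (h : K) = WithZero.exp ((a : ℤ) + b + 2) ∧
    PQ.1.1 ((g : K) - 1) ≤ WithZero.exp (-((a + 1 : ℕ) : ℤ)) ∧
    PQ.2.1 (g : K) ≤ WithZero.exp (-((b + 1 : ℕ) : ℤ)) ∧
    PQ.1.1 (h : K) ≤ WithZero.exp (-((a + 1 : ℕ) : ℤ)) ∧
    PQ.2.1 (h : K) ≤ WithZero.exp (-((b + 1 : ℕ) : ℤ))}

variable [IsAlgClosed k] (hK : IsFunctionField k K)
variable {δ : Derivation k K K} (hδ : IsInv δ)
include hK hδ

/-- The part of `HSet` where `1 - g` vanishes to exact order `a + 1` at `P`. -/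
theorem finite_H1 (hg : genus k K = 1) (O : Place k K) (a b : ℕ) :
    {PQ : Place k K × Place k K | ∃ (hP : PQ.1 ≠ O) (_ : PQ.2 ≠ O), ∃ g h : aff (k := k) O,
      O.1 (g : K) ≤ WithZero.exp ((a : ℤ) + b + 1) ∧ O.1 (h : K) = WithZero.exp ((a : ℤ) + b + 2) ∧
      PQ.1.1 ((g : K) - 1) ≤ WithZero.exp (-((a + 1 : ℕ) : ℤ)) ∧
      PQ.2.1 (g : K) ≤ WithZero.exp (-((b + 1 : ℕ) : ℤ)) ∧
      PQ.1.1 (h : K) ≤ WithZero.exp (-((a + 1 : ℕ) : ℤ)) ∧
      PQ.2.1 (h : K) ≤ WithZero.exp (-((b + 1 : ℕ) : ℤ)) ∧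
      ev hK O PQ.1 hP ((dA hδ O ^ (a + 1)) g) ≠ 0}.Finite := by
  classical
  set S := {PQ : Place k K × Place k K | ∃ (hP : PQ.1 ≠ O) (_ : PQ.2 ≠ O), ∃ g h : aff (k := k) O,
      O.1 (g : K) ≤ WithZero.exp ((a : ℤ) + b + 1) ∧ O.1 (h : K) = WithZero.exp ((a : ℤ) + b + 2) ∧
      PQ.1.1 ((g : K) - 1) ≤ WithZero.exp (-((a + 1 : ℕ) : ℤ)) ∧
      PQ.2.1 (g : K) ≤ WithZero.exp (-((b + 1 : ℕ) : ℤ)) ∧
      PQ.1.1 (h : K) ≤ WithZero.exp (-((a + 1 : ℕ) : ℤ)) ∧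
      PQ.2.1 (h : K) ≤ WithZero.exp (-((b + 1 : ℕ) : ℤ)) ∧
      ev hK O PQ.1 hP ((dA hδ O ^ (a + 1)) g) ≠ 0} with hS
  rcases S.eq_empty_or_nonempty with hemp | ⟨PQ₀, _, _, _, h₀, _, hh₀, _⟩
  · rw [hemp]; exact Set.finite_empty
  haveI := Base.finiteDimensional_L hK (Finsupp.single O ((a : ℤ) + b + 1))
  let f := Module.finBasis k ↥(L (Finsupp.single O ((a : ℤ) + b + 1) : Divisor k K))
  set n := Module.finrank k ↥(L (Finsupp.single O ((a : ℤ) + b + 1) : Divisor k K)) with hn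
  let f' : Fin n → aff (k := k) O := fun j => ⟨f j, mem_aff_of_mem_L (f j).2⟩
  let ι := Fin n ⊕ Fin n
  let e₁ : ι → aff (k := k) O := Sum.elim f' 0
  let e₂ : ι → aff (k := k) O := Sum.elim 0 f'
  have hfn1 : ∀ (z : aff (k := k) O) (c : ι → k), ((fn z e₁ c : aff (k := k) O) : K) =
      (z : K) + ((∑ j, c (Sum.inl j) • f j : ↥(L (Finsupp.single O ((a : ℤ) + b + 1)))) : K) := by
    intro z c
    unfold fn
    rw [Fintype.sum_sum_type]
    simp only [e₁, Sum.elim_inl, Sum.elim_inr, Pi.zero_apply, smul_zero, Finset.sum_const_zero,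
      add_zero]
    push_cast
    rfl
  have hfn2 : ∀ (z : aff (k := k) O) (c : ι → k), ((fn z e₂ c : aff (k := k) O) : K) =
      (z : K) + ((∑ j, c (Sum.inr j) • f j : ↥(L (Finsupp.single O ((a : ℤ) + b + 1)))) : K) := by
    intro z c
    unfold fn
    rw [Fintype.sum_sum_type]
    simp only [e₂, Sum.elim_inl, Sum.elim_inr, Pi.zero_apply, smul_zero, Finset.sum_const_zero,
      zero_add]
    push_cast
    rfl
  have hO_L : ∀ x : ↥(L (Finsupp.single O ((a : ℤ) + b + 1)) : Submodule k K),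
      O.1 (x : K) ≤ WithZero.exp ((a : ℤ) + b + 1) := by
    intro x
    have := x.2 O
    rwa [Finsupp.single_eq_same] at this
  have hO1 : ∀ c : ι → k, O.1 ((fn 0 e₁ c : aff (k := k) O) : K) ≤
      WithZero.exp ((a : ℤ) + b + 1) := by
    intro c
    rw [hfn1, ZeroMemClass.coe_zero, zero_add]
    exact hO_L _
  have hO2 : ∀ c : ι → k, O.1 ((fn 0 e₂ c : aff (k := k) O) : K) ≤
      WithZero.exp ((a : ℤ) + b + 1) := by
    intro c
    rw [hfn2, ZeroMemClass.coe_zero, zero_add]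
    exact hO_L _
  have hO3 : ∀ c : ι → k, O.1 ((fn h₀ e₂ c : aff (k := k) O) : K) =
      WithZero.exp ((a : ℤ) + b + 2) := by
    intro c
    rw [hfn2, Valuation.map_add_eq_of_lt_left, hh₀]
    rw [hh₀]
    refine lt_of_le_of_lt (hO_L _) ?_
    rw [WithZero.exp_lt_exp]; omega
  have hinj1 : ∀ c : ι → k, fn 0 e₁ c = 0 → ∀ j, c (Sum.inl j) = 0 := by
    intro c hc
    have h0 := hfn1 0 c
    rw [hc, ZeroMemClass.coe_zero, zero_add] at h0
    have h1 := Submodule.coe_eq_zero.mp h0.symm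
    exact Fintype.linearIndependent_iff.mp f.linearIndependent _ h1
  have hinj2 : ∀ c : ι → k, fn 0 e₂ c = 0 → ∀ j, c (Sum.inr j) = 0 := by
    intro c hc
    have h0 := hfn2 0 c
    rw [hc, ZeroMemClass.coe_zero, zero_add] at h0
    have h1 := Submodule.coe_eq_zero.mp h0.symm
    exact Fintype.linearIndependent_iff.mp f.linearIndependent _ h1
  let G : Set (PA O ι) := {x | (∃ i ≤ b, x = W hδ (rgt O ι) 0 e₁ i) ∨
    (x = W hδ (lft O ι) 0 e₁ 0 - 1) ∨ (∃ i, 1 ≤ i ∧ i ≤ a ∧ x = W hδ (lft O ι) 0 e₁ i) ∨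
    (∃ i ≤ a, x = W hδ (lft O ι) h₀ e₂ i) ∨ (∃ i ≤ b, x = W hδ (rgt O ι) h₀ e₂ i)}
  let s : PA O ι := W hδ (lft O ι) 0 e₁ (a + 1)
  refine finite_pairs hδ hK O ι G s _ ?_ ?_
  · intro P Q hP hQ p D α β hpP hpQ hD hα hβ hG hs hDG
    set c : ι → k := fun j => p (MvPolynomial.X j) with hcdef
    have hc : ∀ j, p (MvPolynomial.X j) = c j := fun j => rfl
    have hD1 : D 1 = 0 := by
      have h2 : D 1 = D 1 + D 1 := by
        have := hD 1 1
        rw [mul_one, map_one p, one_mul] at this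
        exact this
      exact left_eq_add.mp h2
    have hs2 : p (W hδ (lft O ι) 0 e₁ (a + 1)) ≠ 0 := hs
    rw [p_W' hδ hK hc P hP hpP] at hs2
    set g : aff (k := k) O := fn 0 e₁ c with hgdef
    set h : aff (k := k) O := fn h₀ e₂ c with hhdef
    set γ : aff (k := k) O := fn 0 e₁ (fun j => D (MvPolynomial.X j)) with hγdef
    set η : aff (k := k) O := fn 0 e₂ (fun j => D (MvPolynomial.X j)) with hηdef
    have hQg : ∀ i ≤ b, ev hK O Q hQ ((dA hδ O ^ i) g) = 0 := by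
      intro i hi
      rw [← p_W' hδ hK hc Q hQ hpQ]
      exact hG _ (Or.inl ⟨i, hi, rfl⟩)
    have hPg0 : ev hK O P hP g = 1 := by
      have h1 := hG _ (Or.inr (Or.inl rfl))
      rw [map_sub, map_one p, p_W' hδ hK hc P hP hpP, sub_eq_zero] at h1
      exact h1
    have hPg : ∀ i, 1 ≤ i → i ≤ a → ev hK O P hP ((dA hδ O ^ i) g) = 0 := by
      intro i hi hia
      rw [← p_W' hδ hK hc P hP hpP]
      exact hG _ (Or.inr (Or.inr (Or.inl ⟨i, hi, hia, rfl⟩)))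
    have hPh : ∀ i ≤ a, ev hK O P hP ((dA hδ O ^ i) h) = 0 := by
      intro i hi
      rw [← p_W' hδ hK hc P hP hpP]
      exact hG _ (Or.inr (Or.inr (Or.inr (Or.inl ⟨i, hi, rfl⟩))))
    have hQh : ∀ i ≤ b, ev hK O Q hQ ((dA hδ O ^ i) h) = 0 := by
      intro i hi
      rw [← p_W' hδ hK hc Q hQ hpQ]
      exact hG _ (Or.inr (Or.inr (Or.inr (Or.inr ⟨i, hi, rfl⟩))))
    have hQd : ∀ i ≤ b, β * ev hK O Q hQ ((dA hδ O ^ (i + 1)) g) +
        ev hK O Q hQ ((dA hδ O ^ i) γ) = 0 := by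
      intro i hi
      rw [← D_W' hδ hK hc Q hQ hpQ i hD hβ]
      exact hDG _ (Or.inl ⟨i, hi, rfl⟩)
    have hPd : ∀ i ≤ a, α * ev hK O P hP ((dA hδ O ^ (i + 1)) g) +
        ev hK O P hP ((dA hδ O ^ i) γ) = 0 := by
      intro i hi
      rw [← D_W' hδ hK hc P hP hpP i hD hα]
      rcases Nat.eq_zero_or_pos i with rfl | hpos
      · have h1 := hDG _ (Or.inr (Or.inl rfl))
        rw [map_sub, hD1, sub_zero] at h1
        exact h1
      · exact hDG _ (Or.inr (Or.inr (Or.inl ⟨i, hpos, hi, rfl⟩)))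
    have hPd' : ∀ i ≤ a, α * ev hK O P hP ((dA hδ O ^ (i + 1)) h) +
        ev hK O P hP ((dA hδ O ^ i) η) = 0 := by
      intro i hi
      rw [← D_W' hδ hK hc P hP hpP i hD hα]
      exact hDG _ (Or.inr (Or.inr (Or.inr (Or.inl ⟨i, hi, rfl⟩))))
    have hQd' : ∀ i ≤ b, β * ev hK O Q hQ ((dA hδ O ^ (i + 1)) h) +
        ev hK O Q hQ ((dA hδ O ^ i) η) = 0 := by
      intro i hi
      rw [← D_W' hδ hK hc Q hQ hpQ i hD hβ]
      exact hDG _ (Or.inr (Or.inr (Or.inr (Or.inr ⟨i, hi, rfl⟩))))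
    have vQ : Q.1 (g : K) ≤ WithZero.exp (-((b + 1 : ℕ) : ℤ)) :=
      (taylor hδ hK O Q hQ (b + 1) g).mpr (fun i hi => hQg i (by omega))
    have vP : P.1 ((g : K) - 1) ≤ WithZero.exp (-((a + 1 : ℕ) : ℤ)) := by
      refine (taylor hδ hK O P hP (a + 1) (g - 1)).mpr ?_
      intro i hi
      rcases Nat.eq_zero_or_pos i with rfl | hpos
      · show ev hK O P hP (g - 1) = 0
        rw [map_sub, hPg0, map_one (ev hK O P hP), sub_self]
      · rw [map_sub, dA_pow_one hδ hK O i hpos, sub_zero]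
        exact hPg i hpos (by omega)
    have vQh : Q.1 (h : K) ≤ WithZero.exp (-((b + 1 : ℕ) : ℤ)) :=
      (taylor hδ hK O Q hQ (b + 1) h).mpr (fun i hi => hQh i (by omega))
    have vPh : P.1 (h : K) ≤ WithZero.exp (-((a + 1 : ℕ) : ℤ)) :=
      (taylor hδ hK O P hP (a + 1) h).mpr (fun i hi => hPh i (by omega))
    obtain ⟨hγ0, hη0, hα0, hβ0⟩ := CoreH.core hK hδ hg hP hQ (hO1 c) (hO3 c) vP vQ vPh vQh hs2
      (hO1 _) (hO2 _) hPd hQd hPd' hQd'
    refine ⟨?_, hα0, hβ0⟩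
    rintro (j | j)
    · exact hinj1 _ hγ0 j
    · exact hinj2 _ hη0 j
  · rintro ⟨P, Q⟩ ⟨hP, hQ, g, h, hgO, hhO, hgP, hgQ, hhP, hhQ, hd⟩
    simp only at hP hQ hgP hgQ hhP hhQ hd
    -- normalize `h`
    obtain ⟨c₀, hc₀⟩ := exists_sub_smul hK O hh₀.le hhO
    have hc₀0 : c₀ ≠ 0 := by
      rintro rfl
      rw [zero_smul, sub_zero, hh₀, WithZero.exp_le_exp] at hc₀
      omega
    have hremO : O.1 ((c₀ • (h : K)) - (h₀ : K)) ≤ WithZero.exp ((a : ℤ) + b + 1) := by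
      rw [← Valuation.map_neg, neg_sub]
      convert hc₀ using 2; ring
    obtain ⟨c₁, hc₁⟩ := exists_coord hδ hK f g.2 hgO
    obtain ⟨c₂, hc₂⟩ := exists_coord hδ hK f ((c₀ • h - h₀ : aff (k := k) O).2) hremO
    have hsumK : ∀ c : Fin n → k,
        ((∑ j, c j • f j : ↥(L (Finsupp.single O ((a : ℤ) + b + 1)))) : K) =
          ∑ j, c j • ((f j : ↥(L (Finsupp.single O ((a : ℤ) + b + 1)))) : K) := by
      intro c; push_cast; rfl
    let c' : ι → k := Sum.elim c₁ c₂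
    have hfn1' : fn 0 e₁ c' = g := by
      apply Subtype.ext
      rw [hfn1]
      show _ + ((∑ j, c₁ j • f j : ↥(L (Finsupp.single O ((a : ℤ) + b + 1)))) : K) = g
      rw [hsumK, hc₁, ZeroMemClass.coe_zero, zero_add]
    have hfn2' : fn h₀ e₂ c' = c₀ • h := by
      apply Subtype.ext
      rw [hfn2]
      show _ + ((∑ j, c₂ j • f j : ↥(L (Finsupp.single O ((a : ℤ) + b + 1)))) : K) = _
      rw [hsumK, hc₂]
      show (h₀ : K) + (c₀ • (h : K) - (h₀ : K)) = c₀ • (h : K)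
      ring
    refine ⟨hP, hQ, c', ?_⟩
    intro p hpP hpQ hpX
    have tQ := (taylor hδ hK O Q hQ (b + 1) g).mp hgQ
    have tP := (taylor hδ hK O P hP (a + 1) (g - 1)).mp hgP
    have sP := (taylor hδ hK O P hP (a + 1) h).mp hhP
    have sQ := (taylor hδ hK O Q hQ (b + 1) h).mp hhQ
    have tP' : ∀ i, 1 ≤ i → i ≤ a → ev hK O P hP ((dA hδ O ^ i) g) = 0 := by
      intro i hi hia
      have := tP i (by omega)
      rwa [map_sub, dA_pow_one hδ hK O i hi, sub_zero] at this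
    have tP0 : ev hK O P hP g = 1 := by
      have : ev hK O P hP (g - 1) = 0 := tP 0 (by omega)
      rwa [map_sub, map_one (ev hK O P hP), sub_eq_zero] at this
    refine ⟨?_, ?_⟩
    · rintro x (⟨i, hi, rfl⟩ | rfl | ⟨i, hi, hia, rfl⟩ | ⟨i, hi, rfl⟩ | ⟨i, hi, rfl⟩)
      · rw [p_W' hδ hK hpX Q hQ hpQ, hfn1']
        exact tQ i (by omega)
      · rw [map_sub, map_one p, p_W' hδ hK hpX P hP hpP, hfn1', sub_eq_zero]
        exact tP0
      · rw [p_W' hδ hK hpX P hP hpP, hfn1']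
        exact tP' i hi hia
      · rw [p_W' hδ hK hpX P hP hpP, hfn2', map_smul, map_smul, sP i (by omega), smul_zero]
      · rw [p_W' hδ hK hpX Q hQ hpQ, hfn2', map_smul, map_smul, sQ i (by omega), smul_zero]
    · show p (W hδ (lft O ι) 0 e₁ (a + 1)) ≠ 0
      rw [p_W' hδ hK hpX P hP hpP, hfn1']
      exact hd

theorem finite_HSet (hg : genus k K = 1) (O : Place k K) (a b : ℕ) :
    (HSet (k := k) O a b).Finite := by
  refine ((finite_H1 hK hδ hg O a b).union (finite_CSet hK hδ hg O (n := a + b + 1) (a := a + 1)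
    (b := b + 1) (by omega))).subset ?_
  rintro ⟨P, Q⟩ ⟨hP, hQ, g, h, hgO, hhO, hgP, hgQ, hhP, hhQ⟩
  simp only at hP hQ hgP hgQ hhP hhQ
  by_cases hd : ev hK O P hP ((dA hδ O ^ (a + 1)) g) = 0
  · right
    obtain ⟨h1, h2⟩ := dichotomy hK hδ hg hP hQ hgO hhO hgP hgQ hhP hhQ hd
    refine ⟨hP, hQ, g, g.2, ?_, h1, h2⟩
    convert hgO using 2; push_cast; ring
  · left
    exact ⟨hP, hQ, g, h, hgO, hhO, hgP, hgQ, hhP, hhQ, hd⟩

end K670.SetH
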