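import Groth.Agent.FunFld.K670.Deriv
import Groth.Agent.S10991

/-! Splitting: from the linear system `L((1+a)A) + L((1+b)B)` to the pairs of claims C and H. -/

set_option autoImplicit false
set_option linter.style.haveILetI false
set_option linter.unusedSectionVars false

namespace K670.Split

open FunFld K670.Aff K670.InvDer K670.ClaimG K670.SetC K670.CoreH

variable {k K : Type*} [Field k] [Field K] [Algebra k K]
variable [IsAlgClosed k] (hK : IsFunctionField k K)
include hK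

theorem isCanonical_zero (hg : genus k K = 1) : IsCanonical k K 0 := by
  rw [Base.isCanonical_iff hK]
  refine ⟨?_, ?_⟩
  · rw [hg]; exact Gen.finrank_L_zero hK
  · rw [hg, Gen.deg_zero]; norm_num

/-- Case (i). -/
theorem exists_split (hg : genus k K = 1) {A B R : Place k K} (hAB : A ≠ B) (hRA : R ≠ A)
    (hRB : R ≠ B) {a b n : ℕ}
    (h : L (Finsupp.single A ((a : ℤ) + 1) + Finsupp.single B ((b : ℤ) + 1) -
      Finsupp.single R (n : ℤ)) ≤ L (Finsupp.single A ((a : ℤ) + 1)) ⊔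
        L (Finsupp.single B ((b : ℤ) + 1))) :
    ∃ g : K, g ∈ aff (k := k) R ∧ R.1 g ≤ WithZero.exp (n : ℤ) ∧
      A.1 (g - 1) ≤ WithZero.exp (-((a + 1 : ℕ) : ℤ)) ∧ B.1 g ≤ WithZero.exp (-((b + 1 : ℕ) : ℤ)) := by
  classical
  obtain ⟨ω, hω0, hω⟩ := isCanonical_zero hK hg
  set D' : Divisor k K := Finsupp.single R (n : ℤ) - Finsupp.single A ((a : ℤ) + 1) -
    Finsupp.single B ((b : ℤ) + 1) with hD'
  have hD'A : D' A = -((a : ℤ) + 1) := by
    rw [hD', Finsupp.sub_apply, Finsupp.sub_apply, Finsupp.single_apply, Finsupp.single_apply,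
      Finsupp.single_apply, if_neg hRA, if_pos rfl, if_neg (Ne.symm hAB)]; ring
  have hD'B : D' B = -((b : ℤ) + 1) := by
    rw [hD', Finsupp.sub_apply, Finsupp.sub_apply, Finsupp.single_apply, Finsupp.single_apply,
      Finsupp.single_apply, if_neg hRB, if_neg hAB, if_pos rfl]; ring
  have hD'R : D' R = n := by
    rw [hD', Finsupp.sub_apply, Finsupp.sub_apply, Finsupp.single_apply, Finsupp.single_apply,
      Finsupp.single_apply, if_pos rfl, if_neg (Ne.symm hRA), if_neg (Ne.symm hRB)]; ring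
  have hD'P : ∀ P, P ≠ R → P ≠ A → P ≠ B → D' P = 0 := by
    intro P h1 h2 h3
    rw [hD', Finsupp.sub_apply, Finsupp.sub_apply, Finsupp.single_apply, Finsupp.single_apply,
      Finsupp.single_apply, if_neg (Ne.symm h1), if_neg (Ne.symm h2), if_neg (Ne.symm h3)]; ring
  -- the repartition
  let x : Place k K → K := fun P => if P = A then 1 else 0
  have hx : x ∈ adele k K := by
    show ∀ᶠ P : Place k K in Filter.cofinite, P.1 (x P) ≤ 1
    refine Filter.Eventually.of_forall fun P => ?_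
    show P.1 (if P = A then 1 else 0) ≤ 1
    split_ifs <;> simp
  have key : (⟨x, hx⟩ : adele k K) ∈ ADK D' := by
    by_contra hx'
    obtain ⟨ω', h1, h2⟩ := Submodule.exists_le_ker_of_notMem hx'
    have hω' : ω' ∈ WD D' := by
      rw [WD, Submodule.mem_dualAnnihilator]
      intro w hw
      exact h2 hw
    obtain ⟨f, ⟨hf, hfω⟩, -⟩ := Groth.Agent.S10991.result k K hK (K660.Weil.smul_mem_adele hK) ω 0 hω
      D' ω' hω'
    have hf' : f ∈ L (Finsupp.single A ((a : ℤ) + 1) + Finsupp.single B ((b : ℤ) + 1) -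
        Finsupp.single R (n : ℤ)) := by
      convert hf using 2
      rw [hD']; abel
    obtain ⟨f₁, hf₁, f₂, hf₂, hff⟩ := Submodule.mem_sup.mp (h hf')
    apply h1
    rw [← hfω, K660.Weil.mulW_apply]
    have hωW : ω ∈ WD (0 : Divisor k K) := (hω 0).mpr le_rfl
    rw [K660.Weil.mem_WD] at hωW
    apply hωW
    refine Submodule.mem_sup.mpr ⟨fun P => (if P = A then f else 0) - f₁, ?_, fun _ => f₁, ⟨f₁, rfl⟩, ?_⟩
    · intro P
      rw [Finsupp.zero_apply, WithZero.exp_zero]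
      show P.1 ((if P = A then f else 0) - f₁) ≤ 1
      by_cases hP : P = A
      · rw [if_pos hP, ← hff, add_sub_cancel_left]
        have := hf₂ P
        rwa [Finsupp.single_apply, if_neg (by rw [hP]; exact Ne.symm hAB), WithZero.exp_zero] at this
      · rw [if_neg hP, zero_sub, Valuation.map_neg]
        have := hf₁ P
        rwa [Finsupp.single_apply, if_neg (Ne.symm hP), WithZero.exp_zero] at this
    · funext P
      show ((if P = A then f else 0) - f₁) + f₁ = f * (if P = A then 1 else 0)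
      split_ifs <;> simp
  obtain ⟨y, hy, z, ⟨g, rfl⟩, hyz⟩ := Submodule.mem_sup.mp (show x ∈ AD D' ⊔ _ from key)
  have hyP : ∀ P, P.1 ((if P = A then 1 else 0) - g) ≤ WithZero.exp (D' P) := by
    intro P
    have h1 : y P = (if P = A then 1 else 0) - g := by
      have h2 := congrFun hyz P
      have h3 : y P + g = (if P = A then 1 else 0) := h2
      rw [← h3]; ring
    rw [← h1]
    exact hy P
  have hyP' : ∀ P, P ≠ A → P.1 g ≤ WithZero.exp (D' P) := by
    intro P hP
    have := hyP P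
    rwa [if_neg hP, zero_sub, Valuation.map_neg] at this
  have hyA : A.1 (g - 1) ≤ WithZero.exp (-((a + 1 : ℕ) : ℤ)) := by
    have := hyP A
    rw [if_pos rfl, hD'A, ← Valuation.map_neg, neg_sub] at this
    convert this using 2
    push_cast; ring
  refine ⟨g, ?_, ?_, hyA, ?_⟩
  · intro P hP
    by_cases h1 : P = A
    · subst h1
      have e1 : g = (g - 1) + 1 := by ring
      rw [e1]
      refine (P.1.map_add _ _).trans (max_le (hyA.trans ?_) (by rw [map_one]))
      rw [← WithZero.exp_zero, WithZero.exp_le_exp]; omega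
    · refine (hyP' P h1).trans ?_
      by_cases h2 : P = B
      · subst h2
        rw [hD'B, ← WithZero.exp_zero, WithZero.exp_le_exp]; omega
      · rw [hD'P P hP h1 h2, WithZero.exp_zero]
  · have := hyP' R hRA
    rwa [hD'R] at this
  · have := hyP' B (Ne.symm hAB)
    rw [hD'B] at this
    convert this using 2
    push_cast; ring

/-- Case (ii). -/
theorem exists_split2 {A B R : Place k K} (hAB : A ≠ B) (hRA : R ≠ A)
    (hRB : R ≠ B) {a b : ℕ} {f : K} (hf0 : f ≠ 0)
    (h : f ∈ L (Finsupp.single A ((a : ℤ) + 1) + Finsupp.single B ((b : ℤ) + 1) -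
      Finsupp.single R ((a : ℤ) + b + 2)))
    (h' : f ∈ L (Finsupp.single A ((a : ℤ) + 1)) ⊔ L (Finsupp.single B ((b : ℤ) + 1))) :
    ∃ g h : K, g ∈ aff (k := k) R ∧ h ∈ aff (k := k) R ∧
      R.1 g ≤ WithZero.exp ((a : ℤ) + b + 1) ∧ R.1 h = WithZero.exp ((a : ℤ) + b + 2) ∧
      A.1 (g - 1) ≤ WithZero.exp (-((a + 1 : ℕ) : ℤ)) ∧ B.1 g ≤ WithZero.exp (-((b + 1 : ℕ) : ℤ)) ∧
      A.1 h ≤ WithZero.exp (-((a + 1 : ℕ) : ℤ)) ∧ B.1 h ≤ WithZero.exp (-((b + 1 : ℕ) : ℤ)) := by
  classical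
  have hdiv := Gen.div_eq_neg_of_mem_L hK hf0 h (by
    rw [Gen.deg_sub_single hK, Gen.deg_add, Gen.deg_single' hK, Gen.deg_single' hK]; ring)
  have hord : ∀ P : Place k K, P.ord f = -((Finsupp.single A ((a : ℤ) + 1) +
      Finsupp.single B ((b : ℤ) + 1) - Finsupp.single R ((a : ℤ) + b + 2) : Divisor k K) P) := by
    intro P
    rw [← Gen.div_apply hK, hdiv, Finsupp.neg_apply]
  have hA : A.1 f⁻¹ = WithZero.exp (-((a + 1 : ℕ) : ℤ)) := by
    rw [Gen.v_eq_exp A (inv_ne_zero hf0), Gen.ord_inv A hf0, hord, Finsupp.sub_apply,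
      Finsupp.add_apply, Finsupp.single_apply, Finsupp.single_apply, Finsupp.single_apply,
      if_pos rfl, if_neg (Ne.symm hAB), if_neg hRA]
    congr 1
  have hB : B.1 f⁻¹ = WithZero.exp (-((b + 1 : ℕ) : ℤ)) := by
    rw [Gen.v_eq_exp B (inv_ne_zero hf0), Gen.ord_inv B hf0, hord, Finsupp.sub_apply,
      Finsupp.add_apply, Finsupp.single_apply, Finsupp.single_apply, Finsupp.single_apply,
      if_neg hAB, if_pos rfl, if_neg hRB]
    congr 1; push_cast; ring
  have hR : R.1 f⁻¹ = WithZero.exp ((a : ℤ) + b + 2) := by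
    rw [Gen.v_eq_exp R (inv_ne_zero hf0), Gen.ord_inv R hf0, hord, Finsupp.sub_apply,
      Finsupp.add_apply, Finsupp.single_apply, Finsupp.single_apply, Finsupp.single_apply,
      if_neg (Ne.symm hRA), if_neg (Ne.symm hRB), if_pos rfl]
    congr 1
  have hP : ∀ P, P ≠ R → P ≠ A → P ≠ B → P.1 f⁻¹ = 1 := by
    intro P h1 h2 h3
    rw [Gen.v_eq_exp P (inv_ne_zero hf0), Gen.ord_inv P hf0, hord, Finsupp.sub_apply,
      Finsupp.add_apply, Finsupp.single_apply, Finsupp.single_apply, Finsupp.single_apply,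
      if_neg (Ne.symm h2), if_neg (Ne.symm h3), if_neg (Ne.symm h1), ← WithZero.exp_zero]
    congr 1
  have hreg : f⁻¹ ∈ aff (k := k) R := by
    intro P hPR
    by_cases h1 : P = A
    · subst h1; rw [hA, ← WithZero.exp_zero, WithZero.exp_le_exp]; omega
    · by_cases h2 : P = B
      · subst h2; rw [hB, ← WithZero.exp_zero, WithZero.exp_le_exp]; omega
      · exact (hP P hPR h1 h2).le
  obtain ⟨f₁, hf₁, f₂, hf₂, hff⟩ := Submodule.mem_sup.mp h'
  have hf₁' : ∀ P, P ≠ A → P.1 f₁ ≤ 1 := by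
    intro P h1
    have := hf₁ P
    rwa [Finsupp.single_apply, if_neg (Ne.symm h1), WithZero.exp_zero] at this
  have hf₁A : A.1 f₁ ≤ WithZero.exp ((a : ℤ) + 1) := by
    have := hf₁ A; rwa [Finsupp.single_eq_same] at this
  have hf₂A : A.1 f₂ ≤ 1 := by
    have := hf₂ A
    rwa [Finsupp.single_apply, if_neg (Ne.symm hAB), WithZero.exp_zero] at this
  have hgA : A.1 (f₁ * f⁻¹ - 1) ≤ WithZero.exp (-((a + 1 : ℕ) : ℤ)) := by
    have e1 : f₁ * f⁻¹ - 1 = -(f₂ * f⁻¹) := by
      have : f₁ = f - f₂ := by rw [← hff]; ring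
      rw [this, sub_mul, mul_inv_cancel₀ hf0]; ring
    rw [e1, Valuation.map_neg, map_mul, hA]
    calc _ ≤ 1 * WithZero.exp (-((a + 1 : ℕ) : ℤ)) := mul_le_mul' hf₂A le_rfl
      _ = _ := one_mul _
  have hgB : B.1 (f₁ * f⁻¹) ≤ WithZero.exp (-((b + 1 : ℕ) : ℤ)) := by
    rw [map_mul, hB]
    calc _ ≤ 1 * WithZero.exp (-((b + 1 : ℕ) : ℤ)) := mul_le_mul' (hf₁' B (Ne.symm hAB)) le_rfl
      _ = _ := one_mul _
  have hgR : R.1 (f₁ * f⁻¹) ≤ WithZero.exp ((a : ℤ) + b + 2) := by
    rw [map_mul, hR]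
    calc _ ≤ 1 * WithZero.exp ((a : ℤ) + b + 2) := mul_le_mul' (hf₁' R hRA) le_rfl
      _ = _ := one_mul _
  have hgreg : f₁ * f⁻¹ ∈ aff (k := k) R := by
    intro P hPR
    by_cases h1 : P = A
    · subst h1
      have e1 : f₁ * f⁻¹ = (f₁ * f⁻¹ - 1) + 1 := by ring
      rw [e1]
      refine (P.1.map_add _ _).trans (max_le (hgA.trans ?_) (by rw [map_one]))
      rw [← WithZero.exp_zero, WithZero.exp_le_exp]; omega
    · rw [map_mul]
      exact mul_le_one' (hf₁' P h1) (hreg P hPR)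
  obtain ⟨c, hc⟩ := exists_sub_smul hK R hgR hR
  refine ⟨f₁ * f⁻¹ - c • f⁻¹, f⁻¹, Subalgebra.sub_mem _ hgreg (Subalgebra.smul_mem _ hreg _), hreg,
    ?_, hR, ?_, ?_, hA.le, hB.le⟩
  · convert hc using 2; ring
  · have e1 : f₁ * f⁻¹ - c • f⁻¹ - 1 = (f₁ * f⁻¹ - 1) - c • f⁻¹ := by ring
    rw [e1]
    exact (A.1.map_sub _ _).trans (max_le hgA ((Deriv.v_smul_le A c _).trans hA.le))
  · exact (B.1.map_sub _ _).trans (max_le hgB ((Deriv.v_smul_le B c _).trans hB.le))

end K670.Split
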