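import Groth.Agent.FunFld.K670.Split
import Groth.Agent.FunFld.K661.Galois
import Groth.Agent.FunFld.K660.CrvFin
import Groth.Agent.FunFld.K667.RatSub
import Mathlib.FieldTheory.Galois.Basic
import Mathlib.GroupTheory.OrderOfElement

/-! Automorphisms exchanging two places of a genus one function field. -/

set_option autoImplicit false
set_option linter.style.haveILetI false
set_option linter.unusedSectionVars false

namespace K670.Swap

open FunFld K670.Aff K670.ClaimG K670.CoreH

variable {k K : Type*} [Field k] [Field K] [Algebra k K]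
variable [IsAlgClosed k] (hK : IsFunctionField k K)
include hK

/-- A function with simple poles exactly at `A` and `R`. -/
theorem exists_two_poles (hg : genus k K = 1) {A R : Place k K} (hAR : A ≠ R) :
    ∃ f : K, A.1 f = WithZero.exp 1 ∧ R.1 f = WithZero.exp 1 ∧
      ∀ P : Place k K, P ≠ A → P ≠ R → P.1 f ≤ 1 := by
  classical
  set D : Divisor k K := Finsupp.single A 1 + Finsupp.single R 1 with hD
  have hdeg : D.deg = 2 := by
    rw [hD, Gen.deg_add, Gen.deg_single' hK, Gen.deg_single' hK]; norm_num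
  have hfr := finrank_eq_deg hK hg (D := D) (by rw [hdeg]; norm_num)
  rw [hdeg] at hfr
  have h1 : Module.finrank k ↥(L (0 : Divisor k K)) = 1 := Gen.finrank_L_zero hK
  have hnle : ¬ L D ≤ L (0 : Divisor k K) := by
    intro hle
    haveI := Base.finiteDimensional_L hK (0 : Divisor k K)
    have := Submodule.finrank_mono hle
    omega
  obtain ⟨f, hf, hf0⟩ := SetLike.not_le_iff_exists.mp hnle
  have hfP : ∀ P : Place k K, P ≠ A → P ≠ R → P.1 f ≤ 1 := by
    intro P h2 h3
    have := hf P
    rwa [hD, Finsupp.add_apply, Finsupp.single_apply, Finsupp.single_apply, if_neg (Ne.symm h2),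
      if_neg (Ne.symm h3), add_zero, WithZero.exp_zero] at this
  have hfA : A.1 f ≤ WithZero.exp 1 := by
    have := hf A
    rwa [hD, Finsupp.add_apply, Finsupp.single_apply, Finsupp.single_apply, if_pos rfl,
      if_neg (Ne.symm hAR), add_zero] at this
  have hfR : R.1 f ≤ WithZero.exp 1 := by
    have := hf R
    rwa [hD, Finsupp.add_apply, Finsupp.single_apply, Finsupp.single_apply, if_pos rfl,
      if_neg hAR, zero_add] at this
  have hne : f ≠ 0 := by rintro rfl; exact hf0 (Submodule.zero_mem _)
  -- no function with at most one simple pole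
  have key : ∀ S T : Place k K, S.1 f ≤ WithZero.exp 1 → (∀ P : Place k K, P ≠ S → P.1 f ≤ 1) →
      False := by
    intro S T h2 h3
    have hmem : ∀ z : K, S.1 z ≤ WithZero.exp 1 → (∀ P : Place k K, P ≠ S → P.1 z ≤ 1) →
        z ∈ L (Finsupp.single S (1 : ℤ)) := by
      intro z h4 h5 P
      rw [Finsupp.single_apply]
      split_ifs with h
      · subst h; exact h4
      · rw [WithZero.exp_zero]; exact h5 P (Ne.symm h)
    obtain ⟨c, hc⟩ := exists_smul_eq_of_deg_one hK hg (D := Finsupp.single S (1 : ℤ))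
      (Gen.deg_single' hK S 1) (hmem 1 (by
        rw [map_one, ← WithZero.exp_zero, WithZero.exp_le_exp]; norm_num)
        (fun P _ => by rw [map_one])) one_ne_zero (hmem f h2 h3)
    apply hf0
    intro P
    rw [Finsupp.zero_apply, WithZero.exp_zero, hc]
    exact (Deriv.v_smul_le P c 1).trans (by rw [map_one])
  have hle_of_ne : ∀ S : Place k K, S.1 f ≤ WithZero.exp 1 → S.1 f ≠ WithZero.exp 1 → S.1 f ≤ 1 := by
    intro S h2 h3
    rw [Gen.v_eq_exp S hne] at h2 h3 ⊢
    rw [WithZero.exp_le_exp] at h2
    rw [ne_eq, WithZero.exp_inj] at h3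
    rw [← WithZero.exp_zero, WithZero.exp_le_exp]
    omega
  refine ⟨f, ?_, ?_, hfP⟩
  · by_contra h
    refine key R A hfR fun P hP => ?_
    by_cases hPA : P = A
    · subst hPA; exact hle_of_ne P hfA h
    · exact hfP P hPA hP
  · by_contra h
    refine key A R hfA fun P hP => ?_
    by_cases hPR : P = R
    · subst hPR; exact hle_of_ne P hfR h
    · exact hfP P hP hPR

/-- The automorphism exchanging `A` and `R`. -/
theorem exists_swap [CharZero k] (hg : genus k K = 1) {A R : Place k K} (hAR : A ≠ R) :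
    ∃ σ : K ≃ₐ[k] K, (∀ x, A.1 (σ x) = R.1 x) ∧ (∀ x, R.1 (σ x) = A.1 x) := by
  classical
  obtain ⟨f, hfA, hfR, hfP⟩ := exists_two_poles hK hg hAR
  have hA1 : ¬ A.1 f ≤ 1 := by
    rw [hfA, ← WithZero.exp_zero, WithZero.exp_le_exp]; norm_num
  have hR1 : ¬ R.1 f ≤ 1 := by
    rw [hfR, ← WithZero.exp_zero, WithZero.exp_le_exp]; norm_num
  have hf0 : f ≠ 0 := by
    rintro rfl; exact hA1 (by rw [map_zero]; exact zero_le)
  have htr : Transcendental k f := by
    apply K660.Places.transcendental_of_notMem hK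
    rintro ⟨c, rfl⟩
    exact hA1 (A.2.1 c)
  have hdeg := K667.RatSub.deg_poleDiv hK htr
  have hpole : K667.RatSub.poleDiv (k := k) f = Finsupp.single A 1 + Finsupp.single R 1 := by
    ext P
    rw [K667.RatSub.poleDiv_apply hK, Finsupp.add_apply, Finsupp.single_apply, Finsupp.single_apply]
    by_cases h1 : A = P
    · subst h1
      rw [if_pos rfl, if_neg (Ne.symm hAR)]
      rw [Gen.v_eq_exp A hf0, WithZero.exp_inj] at hfA
      omega
    · by_cases h2 : R = P
      · subst h2
        rw [if_neg h1, if_pos rfl]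
        rw [Gen.v_eq_exp R hf0, WithZero.exp_inj] at hfR
        omega
      · rw [if_neg h1, if_neg h2]
        have := hfP P (Ne.symm h1) (Ne.symm h2)
        rw [Gen.v_eq_exp P hf0, ← WithZero.exp_zero, WithZero.exp_le_exp] at this
        omega
  rw [hpole, Gen.deg_add, Gen.deg_single' hK, Gen.deg_single' hK] at hdeg
  have hfr : Module.finrank (IntermediateField.adjoin k ({f} : Set K)) K = 2 := by
    have : (Module.finrank (IntermediateField.adjoin k ({f} : Set K)) K : ℤ) = 2 := by
      rw [← hdeg]; norm_num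
    exact_mod_cast this
  haveI : FiniteDimensional (IntermediateField.adjoin k ({f} : Set K)) K :=
    Module.finite_of_finrank_pos (by rw [hfr]; norm_num)
  haveI : CharZero (IntermediateField.adjoin k ({f} : Set K)) :=
    charZero_of_injective_algebraMap (algebraMap k _).injective
  haveI : Algebra.IsQuadraticExtension (IntermediateField.adjoin k ({f} : Set K)) K := ⟨hfr⟩
  haveI : IsGalois (IntermediateField.adjoin k ({f} : Set K)) K := inferInstance
  -- the restrictions agree
  have hagree : ∀ w : IntermediateField.adjoin k ({f} : Set K), A.1 (w : K) = R.1 (w : K) := by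
    intro w
    obtain ⟨r, s, hrs⟩ := (IntermediateField.mem_adjoin_simple_iff k (w : K)).1 w.2
    rw [hrs, map_div₀, map_div₀]
    by_cases hr : r = 0
    · rw [hr, map_zero, map_zero, map_zero, zero_div, zero_div]
    by_cases hs : s = 0
    · rw [hs, map_zero, map_zero, map_zero, div_zero, div_zero]
    rw [K660.CrvFin.val_aeval hA1 hr, K660.CrvFin.val_aeval hA1 hs, K660.CrvFin.val_aeval hR1 hr,
      K660.CrvFin.val_aeval hR1 hs, hfA, hfR]
  obtain ⟨P₁, hP₁⟩ := K661.Place.exists_below (K := IntermediateField.adjoin k ({f} : Set K)) A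
  obtain ⟨P₂, hP₂⟩ := K661.Place.exists_below (K := IntermediateField.adjoin k ({f} : Set K)) R
  have hP : P₁ = P₂ := K661.Place.ext_le fun x => by
    rw [← K661.Place.val_algebraMap_le_one_iff hP₁, ← K661.Place.val_algebraMap_le_one_iff hP₂]
    show A.1 (x : K) ≤ 1 ↔ R.1 (x : K) ≤ 1
    rw [hagree]
  subst hP
  obtain ⟨σ, hσ⟩ := K661.Galois.exists_comapEquiv_eq hP₁ hP₂
  have hσ1 : ∀ x, A.1 (σ x) = R.1 x := by
    intro x
    rw [← hσ, K661.Galois.comapEquiv_val]
  have hcard : Nat.card (K ≃ₐ[IntermediateField.adjoin k ({f} : Set K)] K) = 2 := by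
    rw [IsGalois.card_aut_eq_finrank, hfr]
  have hσσ : ∀ x, σ (σ x) = x := by
    intro x
    have h1 : σ ^ 2 = 1 := by
      rw [← hcard]; exact pow_card_eq_one'
    have h2 := AlgEquiv.congr_fun h1 x
    rw [pow_two] at h2
    exact h2
  refine ⟨σ.restrictScalars k, hσ1, fun x => ?_⟩
  show R.1 (σ x) = A.1 x
  rw [← hσ1, hσσ]

end K670.Swap
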