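import Groth.Agent.FunFld.K670.Gen2

/-! Two sections with prescribed divisors at two places of large weight, and the cusp lemma in
genus zero. -/

set_option autoImplicit false
set_option linter.style.haveILetI false
set_option linter.unusedVariables false
set_option linter.unusedSectionVars false

namespace K670.Two
open FunFld

variable {k K : Type*} [Field k] [Field K] [Algebra k K]
variable [IsAlgClosed k] (hK : IsFunctionField k K)
include hK

/-- If the sum of the weights of `V` at `P ≠ Q` is at least `(r+1)(d-r) - (r-1)` then `V` contains two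
members with divisors `nP + (d-n)Q` for two different `n`. -/
theorem exists_two_sections {d r : ℕ} {D : Divisor k K} (hD : D.deg = d)
    {V : Submodule k K} (hV : V ≤ L D) (hVr : Module.finrank k ↥V = r + 1)
    {P Q : Place k K} (hPQ : P ≠ Q)
    (hw : (r + 1) * d + 1 ≤
      (∑ n ∈ Finset.range d, Module.finrank k ↥(V ⊓ L (D - Finsupp.single P ((n : ℤ) + 1)))) +
        (∑ n ∈ Finset.range d, Module.finrank k ↥(V ⊓ L (D - Finsupp.single Q ((n : ℤ) + 1)))) + r) :
    ∃ n1 n2 : ℕ, n1 < n2 ∧ n2 ≤ d ∧ ∃ f g : K, f ∈ V ∧ g ∈ V ∧ f ≠ 0 ∧ g ≠ 0 ∧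
      FunFld.div k f + D = Finsupp.single P (n1 : ℤ) + Finsupp.single Q ((d : ℤ) - n1) ∧
      FunFld.div k g + D = Finsupp.single P (n2 : ℤ) + Finsupp.single Q ((d : ℤ) - n2) := by
  classical
  set a : ℕ → ℤ := fun n => Module.finrank k ↥(V ⊓ FunFld.L (D - Finsupp.single P (n : ℤ))) with ha
  set b : ℕ → ℤ := fun n => Module.finrank k ↥(V ⊓ FunFld.L (D - Finsupp.single Q (n : ℤ))) with hb
  set N : Finset ℕ := (Finset.range (d + 1)).filter
    (fun n => V ⊓ FunFld.L (D - Finsupp.single P (n : ℤ) - Finsupp.single Q ((d : ℤ) - n)) ≠ ⊥) with hN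
  have ha0 : a 0 = r + 1 := by
    simp only [ha]
    rw [K670.Van.inf_eq_self_of_nonpos hV (n := ((0 : ℕ) : ℤ)) (by simp), hVr]; push_cast; ring
  have hb0 : b 0 = r + 1 := by
    simp only [hb]
    rw [K670.Van.inf_eq_self_of_nonpos hV (n := ((0 : ℕ) : ℤ)) (by simp), hVr]; push_cast; ring
  have had : a (d + 1) = 0 := by
    simp only [ha]
    rw [K670.Van.van_eq_zero hK V (by rw [hD]; push_cast; linarith)]; rfl
  have hab : ∀ n, n ≤ d + 1 → a n + b (d + 1 - n) ≤ r + 1 := by
    intro n hn
    have h := K670.Van.van_add_van_le_finrank hK hV hPQ (n := (n : ℤ)) (m := ((d + 1 - n : ℕ) : ℤ))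
      (by positivity) (by positivity) (by rw [hD]; omega)
    rw [hVr] at h
    simp only [ha, hb]
    exact_mod_cast h
  have hdrop : ∀ n, a n ≤ a (n + 1) + 1 := by
    intro n
    have h := K670.Van.van_le_succ hK (D := D) V (P := P) (n : ℤ)
    simp only [ha]
    push_cast
    exact_mod_cast h
  have hnotN : ∀ n, n ≤ d → n ∉ N → a n + b (d - n) ≤ r + 1 := by
    intro n hn hnN
    have h1 : V ⊓ FunFld.L (D - Finsupp.single P (n : ℤ) - Finsupp.single Q ((d : ℤ) - n)) = ⊥ := by
      by_contra hcon
      exact hnN (Finset.mem_filter.mpr ⟨Finset.mem_range.mpr (by omega), hcon⟩)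
    have h := K670.Van.van_add_van_le hK hV hPQ (n := (n : ℤ)) (m := ((d - n : ℕ) : ℤ))
      (by positivity) (by positivity)
    have e : ((d - n : ℕ) : ℤ) = (d : ℤ) - n := by omega
    rw [e, h1, finrank_bot, hVr, ← e] at h
    simp only [ha, hb]
    exact_mod_cast h
  -- the sum of the drops
  have hsum : ∑ n ∈ Finset.range (d + 1), (a n - a (n + 1)) = r + 1 := by
    rw [Finset.sum_range_sub' a (d + 1), ha0, had, sub_zero]
  have hle : ∑ n ∈ Finset.range (d + 1), (a n - a (n + 1)) ≤
      ∑ n ∈ Finset.range (d + 1), ((if n ∈ N then (1 : ℤ) else 0) + (r + 1 - a (n + 1) - b (d - n))) := by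
    refine Finset.sum_le_sum fun n hn => ?_
    have hn' := Finset.mem_range.mp hn
    by_cases hnN : n ∈ N
    · rw [if_pos hnN]
      have h1 := hdrop n
      have h2 := hab (n + 1) (by omega)
      have e : d + 1 - (n + 1) = d - n := by omega
      rw [e] at h2
      linarith
    · rw [if_neg hnN]
      have h1 := hnotN n (by omega) hnN
      linarith
  rw [Finset.sum_add_distrib, Finset.sum_ite_mem] at hle
  have hNsub : Finset.range (d + 1) ∩ N = N := by
    apply Finset.inter_eq_right.mpr
    exact Finset.filter_subset _ _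
  rw [hNsub, Finset.sum_const, nsmul_eq_mul, mul_one] at hle
  -- evaluate the second sum
  have hS : ∑ n ∈ Finset.range (d + 1), ((r : ℤ) + 1 - a (n + 1) - b (d - n)) =
      (r + 1) * d - (∑ n ∈ Finset.range d, a (n + 1)) - ∑ n ∈ Finset.range d, b (n + 1) := by
    rw [Finset.sum_range_succ, had, Nat.sub_self, hb0]
    have e1 : ∑ n ∈ Finset.range d, b (n + 1) = ∑ n ∈ Finset.range d, b (d - n) := by
      rw [← Finset.sum_range_reflect (fun n => b (n + 1)) d]
      refine Finset.sum_congr rfl fun n hn => ?_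
      have hn' := Finset.mem_range.mp hn
      congr 1
      omega
    rw [e1]
    rw [Finset.sum_sub_distrib, Finset.sum_sub_distrib, Finset.sum_const, Finset.card_range,
      nsmul_eq_mul]
    ring
  have hw' : ((r : ℤ) + 1) * d + 1 ≤ (∑ n ∈ Finset.range d, a (n + 1)) +
      (∑ n ∈ Finset.range d, b (n + 1)) + r := by
    have := hw
    simp only [ha, hb]
    push_cast
    exact_mod_cast this
  rw [hsum, hS] at hle
  have hcard : 1 < N.card := by
    have : (2 : ℤ) ≤ N.card := by linarith
    omega
  obtain ⟨n1, hn1, n2, hn2, hne⟩ := Finset.one_lt_card.mp hcard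
  have sec : ∀ n ∈ N, n ≤ d ∧ ∃ f : K, f ∈ V ∧ f ≠ 0 ∧
      FunFld.div k f + D = Finsupp.single P (n : ℤ) + Finsupp.single Q ((d : ℤ) - n) := by
    intro n hn
    obtain ⟨h1, h1'⟩ := Finset.mem_filter.mp hn
    obtain ⟨f, hf, hf0⟩ := Submodule.exists_mem_ne_zero_of_ne_bot h1'
    refine ⟨by have := Finset.mem_range.mp h1; omega, f, hf.1, hf0, ?_⟩
    rw [K670.Gen.div_eq_neg_of_mem_L hK hf0 hf.2
      (by rw [K670.Gen.deg_sub_single hK, K670.Gen.deg_sub_single hK, hD]; ring)]
    abel
  obtain ⟨hd1, f1, hf1, hf10, hdf1⟩ := sec n1 hn1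
  obtain ⟨hd2, f2, hf2, hf20, hdf2⟩ := sec n2 hn2
  rcases lt_or_gt_of_ne hne with h | h
  · exact ⟨n1, n2, h, hd2, f1, f2, hf1, hf2, hf10, hf20, hdf1, hdf2⟩
  · exact ⟨n2, n1, h, hd1, f2, f1, hf2, hf1, hf20, hf10, hdf2, hdf1⟩

/-- In characteristic zero, if `div x = P - P'` and `Q ∉ {P, P'}` then `x ^ m - μ` does not vanish twice
at `Q`. -/
theorem not_double_zero_pow [CharZero k] {x : K} (hx : x ≠ 0) {P P' Q : Place k K}
    (hdiv : FunFld.div k x = Finsupp.single P 1 - Finsupp.single P' 1) (hPP : P ≠ P')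
    (hPQ : P ≠ Q) (hPQ' : P' ≠ Q) (m : ℕ) (hm : 1 ≤ m) (μ : k) :
    ¬ Q.1 (x ^ m - algebraMap k K μ) ≤ WithZero.exp (-2) := by
  classical
  intro hcon
  have hord : ∀ R : Place k K, R.ord x = (Finsupp.single P 1 - Finsupp.single P' 1 : Divisor k K) R := by
    intro R; rw [← hdiv, Gen.div_apply hK]
  have hQx : Q.ord x = 0 := by
    rw [hord, Finsupp.sub_apply, Finsupp.single_apply, Finsupp.single_apply, if_neg hPQ, if_neg hPQ']
    norm_num
  have hQ1 : Q.1 x = 1 := by rw [Gen.v_eq_exp Q hx, hQx]; simp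
  obtain ⟨c, hc⟩ := Gen.exists_const_sub_lt_one hK Q (x := x) hQ1.le
  have hc0 : c ≠ 0 := by
    rintro rfl
    rw [map_zero, sub_zero, hQ1] at hc
    exact lt_irrefl _ hc
  -- `x - c` has a simple zero at `Q`
  have hxc : x - algebraMap k K c ≠ 0 := by
    intro h0
    have h1 : x = algebraMap k K c := sub_eq_zero.mp h0
    have h2 := hord P
    rw [h1, Gen.ord_algebraMap, Finsupp.sub_apply, Finsupp.single_eq_same, Finsupp.single_apply,
      if_neg (fun h => hPP h.symm)] at h2
    norm_num at h2
  have hmem : x - algebraMap k K c ∈ L (Finsupp.single P' 1 - Finsupp.single Q 1 : Divisor k K) := by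
    rw [Gen.mem_L]
    intro R
    have hRx : R.1 x ≤ WithZero.exp (((Finsupp.single P' 1 : Divisor k K)) R) := by
      rw [Gen.v_le_exp_iff R hx, hord R, Finsupp.sub_apply]
      have : 0 ≤ (Finsupp.single P (1 : ℤ) : Divisor k K) R := by
        rw [Finsupp.single_apply]; split_ifs <;> norm_num
      linarith
    by_cases hRQ : R = Q
    · subst hRQ
      rw [Finsupp.sub_apply, Finsupp.single_eq_same, Finsupp.single_apply, if_neg hPQ', zero_sub]
      rw [Gen.v_le_exp_iff R hxc]
      rw [Gen.v_eq_exp R hxc, ← WithZero.exp_zero, WithZero.exp_lt_exp] at hc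
      omega
    · rw [Finsupp.sub_apply, Finsupp.single_apply (a := Q), if_neg (fun h => hRQ h.symm), sub_zero]
      refine (R.1.map_sub _ _).trans (max_le hRx ?_)
      refine (R.2.1 c).trans ?_
      rw [← WithZero.exp_zero, WithZero.exp_le_exp, Finsupp.single_apply]
      split_ifs <;> norm_num
  have hdeg : (Finsupp.single P' 1 - Finsupp.single Q 1 : Divisor k K).deg = 0 := by
    rw [Gen.deg_sub, Gen.deg_single' hK, Gen.deg_single' hK]; norm_num
  have hdivc := Gen.div_eq_neg_of_mem_L hK hxc hmem hdeg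
  have hQc : Q.ord (x - algebraMap k K c) = 1 := by
    rw [← Gen.div_apply hK, hdivc, neg_sub, Finsupp.sub_apply, Finsupp.single_eq_same,
      Finsupp.single_apply, if_neg hPQ', sub_zero]
  -- the cofactor is a unit at `Q`
  set S : K := ∑ i ∈ Finset.range m, x ^ i * (algebraMap k K c) ^ (m - 1 - i) with hS
  have hfac : x ^ m - (algebraMap k K c) ^ m = (x - algebraMap k K c) * S := by
    rw [hS, mul_comm, Finset.sum_congr rfl fun i _ => rfl]
    exact (Commute.geom_sum₂_mul (Commute.all x (algebraMap k K c)) m).symm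
  have hQcv : Q.1 (x - algebraMap k K c) < 1 := hc
  have hterm : ∀ i, Q.1 (x ^ i - (algebraMap k K c) ^ i) < 1 := by
    intro i
    have h1 := Commute.geom_sum₂_mul (Commute.all x (algebraMap k K c)) i
    rw [← h1, map_mul]
    have h2 : Q.1 (∑ j ∈ Finset.range i, x ^ j * (algebraMap k K c) ^ (i - 1 - j)) ≤ 1 := by
      refine Valuation.map_sum_le Q.1 fun j _ => ?_
      rw [map_mul, map_pow, map_pow, hQ1, Gen.v_algebraMap Q hc0]; simp
    calc _ ≤ 1 * Q.1 (x - algebraMap k K c) := mul_le_mul_left h2 _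
      _ < 1 := by rw [one_mul]; exact hc
  have hSval : Q.1 (S - (m : K) * (algebraMap k K c) ^ (m - 1)) < 1 := by
    have e : S - (m : K) * (algebraMap k K c) ^ (m - 1) =
        ∑ i ∈ Finset.range m, (x ^ i - (algebraMap k K c) ^ i) * (algebraMap k K c) ^ (m - 1 - i) := by
      rw [hS]
      have : (m : K) * (algebraMap k K c) ^ (m - 1) = ∑ i ∈ Finset.range m, (algebraMap k K c) ^ (m - 1) := by
        rw [Finset.sum_const, Finset.card_range, nsmul_eq_mul]
      rw [this, ← Finset.sum_sub_distrib]
      refine Finset.sum_congr rfl fun i hi => ?_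
      have hi' := Finset.mem_range.mp hi
      rw [sub_mul, ← pow_add]
      congr 2
      omega
    rw [e]
    refine Valuation.map_sum_lt Q.1 one_ne_zero fun i _ => ?_
    rw [map_mul, map_pow Q.1 (algebraMap k K c), Gen.v_algebraMap Q hc0, one_pow, mul_one]
    exact hterm i
  have hmc : Q.1 ((m : K) * (algebraMap k K c) ^ (m - 1)) = 1 := by
    have e : (m : K) * (algebraMap k K c) ^ (m - 1) = algebraMap k K ((m : k) * c ^ (m - 1)) := by
      rw [map_mul, map_pow, map_natCast]
    rw [e]
    exact Gen.v_algebraMap Q (mul_ne_zero (by exact_mod_cast (by omega : m ≠ 0)) (pow_ne_zero _ hc0))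
  have hSone : Q.1 S = 1 := by
    have h1 : S = (S - (m : K) * (algebraMap k K c) ^ (m - 1)) + (m : K) * (algebraMap k K c) ^ (m - 1) := by
      ring
    rw [h1, Valuation.map_add_eq_of_lt_right, hmc]
    rw [hmc]; exact hSval
  -- value of `x ^ m - μ`
  have hμ : c ^ m = μ := by
    by_contra hne
    have h1 : Q.1 (algebraMap k K (c ^ m - μ)) = 1 := Gen.v_algebraMap Q (sub_ne_zero.mpr hne)
    have h2 : algebraMap k K (c ^ m - μ) = (x ^ m - algebraMap k K μ) - (x ^ m - (algebraMap k K c) ^ m) := by
      rw [map_sub, map_pow]; ring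
    rw [h2] at h1
    have h3 := Q.1.map_sub (x ^ m - algebraMap k K μ) (x ^ m - (algebraMap k K c) ^ m)
    rw [h1] at h3
    have h4 : Q.1 (x ^ m - algebraMap k K μ) < 1 := by
      refine lt_of_le_of_lt hcon ?_
      rw [← WithZero.exp_zero, WithZero.exp_lt_exp]; norm_num
    exact absurd h3 (not_le.mpr (max_lt h4 (hterm m)))
  rw [← hμ, map_pow, hfac, map_mul, hSone, mul_one, Gen.v_eq_exp Q hxc, hQc,
    WithZero.exp_le_exp] at hcon
  norm_num at hcon

/-- Genus zero, characteristic zero: a linear series with a cusp at `Q` has at most one member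
supported on two further places. -/
theorem cusp_unique [CharZero k] (hg0 : genus k K = 0) {r : ℕ} {D : Divisor k K}
    {V : Submodule k K} (hV : V ≤ L D) (hVr : Module.finrank k ↥V = r + 1)
    {Q : Place k K} (hcusp : r ≤ Module.finrank k ↥(V ⊓ L (D - Finsupp.single Q ((2 : ℤ)))))
    {P P' : Place k K} (hP : P ≠ Q) (hP' : P' ≠ Q)
    {f g : K} (hf : f ∈ V) (hg : g ∈ V) (hf0 : f ≠ 0) (hg0' : g ≠ 0)
    (hfs : ∀ R : Place k K, R ≠ P → R ≠ P' → (FunFld.div k f + D) R = 0)
    (hgs : ∀ R : Place k K, R ≠ P → R ≠ P' → (FunFld.div k g + D) R = 0) :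
    ∃ c : k, g = c • f := by
  classical
  -- orders away from `P`, `P'`
  have hfo : ∀ R : Place k K, R ≠ P → R ≠ P' → R.ord f = - D R := by
    intro R h1 h2
    have := hfs R h1 h2
    rw [Finsupp.add_apply, Gen.div_apply hK] at this; linarith
  have hgo : ∀ R : Place k K, R ≠ P → R ≠ P' → R.ord g = - D R := by
    intro R h1 h2
    have := hgs R h1 h2
    rw [Finsupp.add_apply, Gen.div_apply hK] at this; linarith
  set F : K := f / g with hF
  have hF0 : F ≠ 0 := div_ne_zero hf0 hg0'
  have hFo : ∀ R : Place k K, R ≠ P → R ≠ P' → R.ord F = 0 := by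
    intro R h1 h2
    rw [hF, Gen.ord_div R hf0 hg0', hfo R h1 h2, hgo R h1 h2, sub_self]
  -- if `F` has the orders of a constant we are done
  have hconst : (∀ R : Place k K, R.ord F = 0) → ∃ c : k, g = c • f := by
    intro h
    apply Base.exists_eq_smul_of_ord_eq hK g f hg0' hf0
    intro R
    have h1 := h R
    rw [hF, Gen.ord_div R hf0 hg0'] at h1
    linarith
  have hdeg := Base.deg_div hK F
  by_cases hPP : P = P'
  · -- one place
    subst hPP
    apply hconst
    have hdivF : FunFld.div k F = Finsupp.single P (P.ord F) := by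
      ext R
      rw [Gen.div_apply hK, Finsupp.single_apply]
      by_cases h : P = R
      · subst h; rw [if_pos rfl]
      · rw [if_neg h]; exact hFo R (fun hh => h hh.symm) (fun hh => h hh.symm)
    rw [hdivF, Gen.deg_single' hK] at hdeg
    intro R
    by_cases h : R = P
    · rw [h, hdeg]
    · exact hFo R h h
  · -- two places
    have hdivF : FunFld.div k F = Finsupp.single P (P.ord F) + Finsupp.single P' (P'.ord F) := by
      ext R
      rw [Gen.div_apply hK, Finsupp.add_apply, Finsupp.single_apply, Finsupp.single_apply]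
      by_cases h : P = R
      · subst h; rw [if_pos rfl, if_neg (fun hh => hPP hh.symm), add_zero]
      · rw [if_neg h]
        by_cases h' : P' = R
        · subst h'; rw [if_pos rfl, zero_add]
        · rw [if_neg h', add_zero]; exact hFo R (fun hh => h hh.symm) (fun hh => h' hh.symm)
    rw [hdivF, Gen.deg_add, Gen.deg_single' hK, Gen.deg_single' hK] at hdeg
    have hP'F : P'.ord F = - P.ord F := by linarith
    by_cases hm0 : P.ord F = 0
    · apply hconst
      intro R
      by_cases h : R = P
      · rw [h, hm0]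
      · by_cases h' : R = P'
        · rw [h', hP'F, hm0, neg_zero]
        · exact hFo R h h'
    · -- a nonconstant quotient
      by_contra hnot
      obtain ⟨x, hx0, hxdiv⟩ := Gen.exists_div_eq_of_genus_zero hK hg0 P P'
      -- choose `y = x` or `x⁻¹` and `m ≥ 1` with `F = c y ^ m`
      obtain ⟨y, hy0, m, hm1, A, B, hAB, hAQ, hBQ, hydiv, hyF⟩ : ∃ y : K, y ≠ 0 ∧ ∃ m : ℕ, 1 ≤ m ∧
          ∃ A B : Place k K, A ≠ B ∧ A ≠ Q ∧ B ≠ Q ∧
            FunFld.div k y = Finsupp.single A 1 - Finsupp.single B 1 ∧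
            ∀ R : Place k K, R.ord F = R.ord (y ^ m) := by
        rcases lt_or_gt_of_ne hm0 with hneg | hpos
        · refine ⟨x⁻¹, inv_ne_zero hx0, (- P.ord F).toNat, by omega, P', P, Ne.symm hPP, hP', hP, ?_, ?_⟩
          · rw [Gen.div_inv hK hx0, hxdiv, neg_sub]
          · intro R
            rw [Gen.ord_pow R (inv_ne_zero hx0), Gen.ord_inv R hx0, ← Gen.div_apply hK F,
              ← Gen.div_apply hK x, hdivF, hxdiv, hP'F]
            have e : (((- P.ord F).toNat : ℕ) : ℤ) = - P.ord F := Int.toNat_of_nonneg (by linarith)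
            rw [e]
            simp only [Finsupp.add_apply, Finsupp.sub_apply, Finsupp.single_apply]
            split_ifs <;> ring
        · refine ⟨x, hx0, (P.ord F).toNat, by omega, P, P', hPP, hP, hP', hxdiv, ?_⟩
          intro R
          rw [Gen.ord_pow R hx0, ← Gen.div_apply hK F,
              ← Gen.div_apply hK x, hdivF, hxdiv, hP'F]
          have e : (((P.ord F).toNat : ℕ) : ℤ) = P.ord F := Int.toNat_of_nonneg (by linarith)
          rw [e]
          simp only [Finsupp.add_apply, Finsupp.sub_apply, Finsupp.single_apply]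
          split_ifs <;> ring
      obtain ⟨c, hc⟩ := Base.exists_eq_smul_of_ord_eq hK F (y ^ m) hF0 (pow_ne_zero m hy0) hyF
      have hc0 : c ≠ 0 := by rintro rfl; rw [zero_smul] at hc; exact hF0 hc
      -- the pencil spanned by `f` and `g` meets `V(-2Q)`
      haveI := Van.finiteDimensional_of_le_L hK hV
      have hind : LinearIndependent k ![f, g] := by
        rw [LinearIndependent.pair_iff' hf0]
        intro a ha
        exact hnot ⟨a, ha.symm⟩
      have hW : Module.finrank k ↥(Submodule.span k (Set.range ![f, g])) = 2 := by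
        rw [finrank_span_eq_card hind]; rfl
      have hWV : Submodule.span k (Set.range ![f, g]) ≤ V := by
        rw [Submodule.span_le]
        rintro z ⟨i, rfl⟩
        fin_cases i
        · exact hf
        · exact hg
      have hint := Gen.finrank_add_le_inf (A := Submodule.span k (Set.range ![f, g]))
        (B := V ⊓ L (D - Finsupp.single Q (2 : ℤ))) (V := V) hWV inf_le_left
      rw [hW, hVr] at hint
      have hne : Submodule.span k (Set.range ![f, g]) ⊓ (V ⊓ L (D - Finsupp.single Q (2 : ℤ))) ≠ ⊥ := by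
        intro h0
        rw [h0, finrank_bot] at hint
        omega
      obtain ⟨h, hh, hh0⟩ := Submodule.exists_mem_ne_zero_of_ne_bot hne
      obtain ⟨hh1, hh2, hh3⟩ := hh
      rw [Matrix.range_cons, Matrix.range_cons, Matrix.range_empty, Set.union_empty] at hh1
      obtain ⟨α, β, hαβ⟩ : ∃ α β : k, α • f + β • g = h := by
        have : h ∈ Submodule.span k ({f, g} : Set K) := by
          rw [Set.insert_eq]; exact hh1
        exact Submodule.mem_span_pair.mp this
      -- divide by `g`
      have hQg : Q.1 g = WithZero.exp (D Q) := by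
        rw [Gen.v_eq_exp Q hg0', hgo Q (Ne.symm hP) (Ne.symm hP'), neg_neg]
      have hQh : Q.1 h ≤ WithZero.exp (D Q - 2) := by
        have := hh3 Q
        rwa [Finsupp.sub_apply, Finsupp.single_eq_same] at this
      have hquot : Q.1 (α • F + algebraMap k K β) ≤ WithZero.exp (-2) := by
        have e : α • F + algebraMap k K β = h * g⁻¹ := by
          rw [← hαβ, hF, Algebra.smul_def, Algebra.smul_def, Algebra.smul_def]
          field_simp
        rw [e, map_mul, map_inv₀, hQg, ← WithZero.exp_neg]
        calc Q.1 h * WithZero.exp (-(D Q)) ≤ WithZero.exp (D Q - 2) * WithZero.exp (-(D Q)) :=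
              mul_le_mul_left hQh _
          _ = WithZero.exp (-2) := by rw [← WithZero.exp_add]; congr 1; ring
      have hlt : (WithZero.exp (-2) : WithZero (Multiplicative ℤ)) < 1 := by
        rw [← WithZero.exp_zero, WithZero.exp_lt_exp]; norm_num
      have hα : α ≠ 0 := by
        rintro rfl
        rw [zero_smul, zero_add] at hquot hαβ
        have hβ : β ≠ 0 := by rintro rfl; rw [zero_smul] at hαβ; exact hh0 hαβ.symm
        rw [Gen.v_algebraMap Q hβ] at hquot
        exact absurd (lt_of_le_of_lt hquot hlt) (lt_irrefl _)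
      -- `y ^ m - μ` vanishes twice at `Q`
      refine not_double_zero_pow hK hy0 hydiv hAB hAQ hBQ m hm1 (-(β / (α * c))) ?_
      have e : y ^ m - algebraMap k K (-(β / (α * c))) =
          algebraMap k K ((α * c)⁻¹) * (α • F + algebraMap k K β) := by
        rw [hc, Algebra.smul_def, Algebra.smul_def]
        simp only [map_neg, map_div₀, map_mul, map_inv₀]
        have h1 : algebraMap k K α ≠ 0 := by simpa using hα
        have h2 : algebraMap k K c ≠ 0 := by simpa using hc0
        field_simp
        ring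
      rw [e, map_mul, Gen.v_algebraMap Q (inv_ne_zero (mul_ne_zero hα hc0)), one_mul]
      exact hquot

/-- In genus zero and characteristic zero the weights at two places are bounded by
`(r+1)(d-r) - r` when there is a cusp at a third place. -/
theorem sum_add_sum_add_le_of_cusp [CharZero k] (hg0 : genus k K = 0) {d r : ℕ} {D : Divisor k K}
    (hD : D.deg = d) {V : Submodule k K} (hV : V ≤ L D) (hVr : Module.finrank k ↥V = r + 1)
    {Q : Place k K} (hcusp : r ≤ Module.finrank k ↥(V ⊓ L (D - Finsupp.single Q ((2 : ℤ)))))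
    {P P' : Place k K} (hPP : P ≠ P') (hP : P ≠ Q) (hP' : P' ≠ Q) :
      (∑ n ∈ Finset.range d, Module.finrank k ↥(V ⊓ L (D - Finsupp.single P ((n : ℤ) + 1)))) +
        (∑ n ∈ Finset.range d, Module.finrank k ↥(V ⊓ L (D - Finsupp.single P' ((n : ℤ) + 1)))) + r ≤
        (r + 1) * d := by
  classical
  by_contra hcon
  obtain ⟨n1, n2, hlt, hle, f, g, hf, hg, hf0, hg0', hdf, hdg⟩ :=
    exists_two_sections hK hD hV hVr hPP (by omega)
  obtain ⟨c, hc⟩ := cusp_unique hK hg0 hV hVr hcusp hP hP' hf hg hf0 hg0'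
    (by
      intro R h1 h2
      rw [hdf, Finsupp.add_apply, Finsupp.single_apply, Finsupp.single_apply,
        if_neg (fun h => h1 h.symm), if_neg (fun h => h2 h.symm), add_zero])
    (by
      intro R h1 h2
      rw [hdg, Finsupp.add_apply, Finsupp.single_apply, Finsupp.single_apply,
        if_neg (fun h => h1 h.symm), if_neg (fun h => h2 h.symm), add_zero])
  have hc0 : c ≠ 0 := by rintro rfl; rw [zero_smul] at hc; exact hg0' hc
  have h1 : FunFld.div k g = FunFld.div k f := by
    ext R; rw [Gen.div_apply hK, Gen.div_apply hK, hc, Gen.ord_smul R hc0]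
  rw [h1, hdf] at hdg
  have h2 := DFunLike.congr_fun hdg P
  rw [Finsupp.add_apply, Finsupp.add_apply, Finsupp.single_eq_same, Finsupp.single_eq_same,
    Finsupp.single_apply, Finsupp.single_apply, if_neg (Ne.symm hPP), if_neg (Ne.symm hPP)] at h2
  omega

end K670.Two
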