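import Groth.Agent.FunFld.K670.Gen

/-! Vanishing spaces `V ⊓ L(D - nP)` of a linear series `V ≤ L(D)`. -/

set_option autoImplicit false
set_option linter.style.haveILetI false
set_option linter.unusedVariables false
set_option linter.unusedSectionVars false

namespace K670.Van
open FunFld K670.Gen

variable {k K : Type*} [Field k] [Field K] [Algebra k K]

theorem L_sub_inf {D : Divisor k K} {P Q : Place k K} (hPQ : P ≠ Q) {n m : ℤ} (hn : 0 ≤ n)
    (hm : 0 ≤ m) :
    L (D - Finsupp.single P n) ⊓ L (D - Finsupp.single Q m) =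
      L (D - Finsupp.single P n - Finsupp.single Q m) := by
  classical
  rw [L_inf_L]
  congr 1
  ext R
  simp only [Finsupp.inf_apply, Finsupp.sub_apply, Finsupp.single_apply]
  by_cases h1 : P = R
  · subst h1
    rw [if_pos rfl, if_neg (fun h => hPQ h.symm)]
    simp [hn]
  · rw [if_neg h1]
    by_cases h2 : Q = R
    · subst h2
      rw [if_pos rfl]
      simp [hm]
    · rw [if_neg h2]; simp

theorem sub_single_le {D : Divisor k K} {P : Place k K} {n m : ℤ} (h : n ≤ m) :
    D - Finsupp.single P m ≤ D - Finsupp.single P n := by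
  classical
  refine sub_le_sub_left ?_ _
  exact Finsupp.single_le_single.mpr h

theorem inf_eq_self_of_nonpos {D : Divisor k K} {V : Submodule k K} (hV : V ≤ L D)
    {P : Place k K} {n : ℤ} (hn : n ≤ 0) : V ⊓ L (D - Finsupp.single P n) = V := by
  refine inf_eq_left.mpr (hV.trans (L_mono ?_))
  have := sub_single_le (D := D) (P := P) hn
  simpa using this

theorem sub_zero_single (D : Divisor k K) (P : Place k K) : D - Finsupp.single P (0 : ℤ) = D := by
  simp

section AC

variable [IsAlgClosed k] (hK : IsFunctionField k K)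
include hK

theorem finiteDimensional_of_le_L {D : Divisor k K} {V : Submodule k K} (hV : V ≤ L D) :
    FiniteDimensional k ↥V := by
  haveI := Base.finiteDimensional_L hK D
  exact Submodule.finiteDimensional_of_le hV

theorem antitone_van {D : Divisor k K} (V : Submodule k K) {P : Place k K} {n m : ℤ} (h : n ≤ m) :
    Module.finrank k ↥(V ⊓ L (D - Finsupp.single P m)) ≤
      Module.finrank k ↥(V ⊓ L (D - Finsupp.single P n)) :=
  finrank_inf_mono hK V (sub_single_le h)

/-- The drop from order `n` to order `m ≥ n` is at most `m - n`. -/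
theorem van_le_add {D : Divisor k K} (V : Submodule k K) {P : Place k K} {n m : ℤ} (h : n ≤ m) :
    (Module.finrank k ↥(V ⊓ L (D - Finsupp.single P n)) : ℤ) ≤
      Module.finrank k ↥(V ⊓ L (D - Finsupp.single P m)) + (m - n) := by
  have h1 := finrank_inf_L_le hK V (sub_single_le (D := D) (P := P) h)
  rw [deg_sub_single hK, deg_sub_single hK] at h1
  linarith

theorem van_le_succ {D : Divisor k K} (V : Submodule k K) {P : Place k K} (n : ℤ) :
    Module.finrank k ↥(V ⊓ L (D - Finsupp.single P n)) ≤
      Module.finrank k ↥(V ⊓ L (D - Finsupp.single P (n + 1))) + 1 := by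
  have h1 := van_le_add hK (D := D) V (P := P) (n := n) (m := n + 1) (by linarith)
  have h2 : n + 1 - n = (1 : ℤ) := by ring
  rw [h2] at h1
  exact_mod_cast h1

theorem van_eq_zero {D : Divisor k K} (V : Submodule k K) {P : Place k K} {n : ℤ}
    (h : D.deg < n) : Module.finrank k ↥(V ⊓ L (D - Finsupp.single P n)) = 0 := by
  apply finrank_inf_eq_zero_of_deg_neg hK
  rw [deg_sub_single hK]; linarith

theorem van_add_van_le {D : Divisor k K} {V : Submodule k K} (hV : V ≤ L D) {P Q : Place k K}
    (hPQ : P ≠ Q) {n m : ℤ} (hn : 0 ≤ n) (hm : 0 ≤ m) :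
    Module.finrank k ↥(V ⊓ L (D - Finsupp.single P n)) +
      Module.finrank k ↥(V ⊓ L (D - Finsupp.single Q m)) ≤
      Module.finrank k ↥V +
        Module.finrank k ↥(V ⊓ L (D - Finsupp.single P n - Finsupp.single Q m)) := by
  haveI := finiteDimensional_of_le_L hK hV
  have h := finrank_add_le_inf (k := k) (A := V ⊓ L (D - Finsupp.single P n))
    (B := V ⊓ L (D - Finsupp.single Q m)) (V := V) inf_le_left inf_le_left
  have h2 : (V ⊓ L (D - Finsupp.single P n)) ⊓ (V ⊓ L (D - Finsupp.single Q m)) =
      V ⊓ L (D - Finsupp.single P n - Finsupp.single Q m) := by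
    rw [← L_sub_inf hPQ hn hm, inf_inf_inf_comm, inf_idem]
  rw [h2] at h
  exact h

theorem K670_deg_sub_sub (D : Divisor k K) (P Q : Place k K) (i j : ℤ) :
    (D - Finsupp.single P i - Finsupp.single Q j).deg = D.deg - i - j := by
  rw [deg_sub_single hK, deg_sub_single hK]

/-- The basic inequality `m_i(P) + m_{r-i}(Q) ≤ d`. -/
theorem van_add_van_le_finrank {D : Divisor k K} {V : Submodule k K} (hV : V ≤ L D)
    {P Q : Place k K} (hPQ : P ≠ Q) {n m : ℤ} (hn : 0 ≤ n) (hm : 0 ≤ m) (h : D.deg < n + m) :
    Module.finrank k ↥(V ⊓ L (D - Finsupp.single P n)) +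
      Module.finrank k ↥(V ⊓ L (D - Finsupp.single Q m)) ≤ Module.finrank k ↥V := by
  have h1 := van_add_van_le hK hV hPQ hn hm
  rwa [finrank_inf_eq_zero_of_deg_neg hK V (E := D - Finsupp.single P n - Finsupp.single Q m)
    (by rw [deg_sub_single hK, deg_sub_single hK]; linarith), add_zero] at h1

/-- Reflection of the summation index. -/
theorem sum_van_reflect {D : Divisor k K} (V : Submodule k K) (P : Place k K) (d : ℕ) :
    (∑ n ∈ Finset.range d, Module.finrank k ↥(V ⊓ L (D - Finsupp.single P ((n : ℤ) + 1)))) =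
      ∑ n ∈ Finset.range d, Module.finrank k ↥(V ⊓ L (D - Finsupp.single P ((d : ℤ) - n))) := by
  rw [← Finset.sum_range_reflect]
  refine Finset.sum_congr rfl fun n hn => ?_
  have hn' := Finset.mem_range.mp hn
  have : ((d - 1 - n : ℕ) : ℤ) + 1 = (d : ℤ) - n := by omega
  rw [this]

end AC

end K670.Van
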